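import Cfsg.Agent.Lib.PSLCover.Chain

/-!
A split cyclic product of two conjugates for chains with at most two scalar blocks.
-/

set_option autoImplicit false
set_option linter.style.haveILetI false
set_option linter.unusedSectionVars false

namespace CfsgLib.PSLCover

open Matrix Polynomial

variable {F : Type*} [Field F] {ι κ : Type*} [Fintype ι] [DecidableEq ι] [Fintype κ] [DecidableEq κ]

theorem isPair_reindex {A P Q : GL ι F} {h : ι → F} (hp : IsPair A P Q h) (e : ι ≃ κ) (g : GL κ F) :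
    IsPair (g * reindexGL e A * g⁻¹) (reindexGL e P) (reindexGL e Q) (h ∘ e.symm) := by
  obtain ⟨⟨g1, hg1⟩, ⟨g2, hg2⟩, hs⟩ := hp
  refine ⟨⟨reindexGL e g1 * g⁻¹, by rw [hg1, map_mul, map_mul, map_inv]; group⟩,
    ⟨reindexGL e g2 * g⁻¹, by rw [hg2, map_mul, map_mul, map_inv]; group⟩, ?_⟩
  rw [← map_mul, coe_reindexGL]
  exact hs.reindex e

theorem reindex_mulVec_comp (e : ι ≃ κ) (M : Matrix ι ι F) (v : κ → F) :
    (Matrix.reindex e e M *ᵥ v) ∘ e = M *ᵥ (v ∘ e) := by
  funext i
  simp only [Function.comp_apply, mulVec, dotProduct, Matrix.reindex_apply, submatrix_apply,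
    Equiv.symm_apply_apply]
  exact (Fintype.sum_equiv e _ _ fun x => by simp).symm

theorem vecMul_reindex_comp (e : ι ≃ κ) (M : Matrix ι ι F) (v : κ → F) :
    (v ᵥ* Matrix.reindex e e M) ∘ e = (v ∘ e) ᵥ* M := by
  funext i
  simp only [Function.comp_apply, vecMul, dotProduct, Matrix.reindex_apply, submatrix_apply,
    Equiv.symm_apply_apply]
  exact (Fintype.sum_equiv e _ _ fun x => by simp).symm

theorem comp_equiv_ne_zero (e : ι ≃ κ) {v : κ → F} (hv : v ≠ 0) : v ∘ e ≠ 0 := fun h =>
  hv (funext fun k => by simpa using congrFun h (e.symm k))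

theorem GoodR.reindex {P Q : GL ι F} {γ : F}
    (h : GoodR (Q : Matrix ι ι F) ((P * Q : GL ι F) : Matrix ι ι F) γ) (e : ι ≃ κ) :
    GoodR ((reindexGL e Q : GL κ F) : Matrix κ κ F)
      ((reindexGL e P * reindexGL e Q : GL κ F) : Matrix κ κ F) γ := by
  intro w hw hH a ha
  rw [← map_mul, coe_reindexGL] at hH
  rw [coe_reindexGL] at ha
  exact h _ (comp_equiv_ne_zero e hw) (by rw [← reindex_mulVec_comp, hH]; rfl) a
    (by rw [← reindex_mulVec_comp, ha]; rfl)

theorem GoodL.reindex {P Q : GL ι F} {γ : F}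
    (h : GoodL (P : Matrix ι ι F) ((P * Q : GL ι F) : Matrix ι ι F) γ) (e : ι ≃ κ) :
    GoodL ((reindexGL e P : GL κ F) : Matrix κ κ F)
      ((reindexGL e P * reindexGL e Q : GL κ F) : Matrix κ κ F) γ := by
  intro w hw hH a ha
  rw [← map_mul, coe_reindexGL] at hH
  rw [coe_reindexGL] at ha
  exact h _ (comp_equiv_ne_zero e hw) (by rw [← vecMul_reindex_comp, hH]; rfl) a
    (by rw [← vecMul_reindex_comp, ha]; rfl)

theorem IsChain.monic {n : ℕ} {A : GL (Fin n) F} {μ : F[X]} (h : IsChain F A μ) : μ.Monic := by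
  cases h with
  | nil => exact monic_one
  | cons => exact charpoly_monic _

theorem IsChain.degree_cases {n : ℕ} {A : GL (Fin n) F} {μ : F[X]} (h : IsChain F A μ) :
    (n = 0 ∧ μ.natDegree = 0) ∨ 2 ≤ μ.natDegree := by
  cases h with
  | nil => exact Or.inl ⟨rfl, natDegree_one⟩
  | cons C K μ' A e g hC hK hdvd hA =>
    refine Or.inr ?_
    rw [charpoly_natDegree_eq_dim, Fintype.card_fin]
    omega

theorem exists_gamma [Fintype F] (hq : 4 ≤ Fintype.card F) (p c : F) (hp : p ≠ 0) :
    ∃ γ : F, γ ≠ 0 ∧ γ ≠ p ∧ γ ^ 2 ≠ c := by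
  classical
  by_contra! hall
  by_cases hr : ∃ r : F, r ^ 2 = c
  · obtain ⟨r, hr⟩ := hr
    have hsub : (Finset.univ : Finset F) ⊆ {0, p} ∪ (if r = -r then {r} else {r, -r}) := by
      intro x _
      by_cases h0 : x = 0
      · simp [h0]
      by_cases h1 : x = p
      · simp [h1]
      have h2 := hall x h0 h1
      rw [← hr, sq_eq_sq_iff_eq_or_eq_neg] at h2
      rw [Finset.mem_union]
      refine Or.inr ?_
      split_ifs with hrr
      · rcases h2 with h | h
        · simp [h]
        · rw [← hrr] at h; simp [h]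
      · rcases h2 with h | h <;> simp [h]
    have hcard := Finset.card_le_card hsub
    have hu := Finset.card_union_le ({0, p} : Finset F) (if r = -r then {r} else {r, -r})
    rw [Finset.card_univ] at hcard
    have h2 := Finset.card_le_two (a := (0 : F)) (b := p)
    by_cases hrr : r = -r
    · rw [if_pos hrr] at hu hcard
      simp only [Finset.card_singleton] at hu
      omega
    · rw [if_neg hrr] at hu hcard
      have h3 := Finset.card_le_two (a := r) (b := -r)
      have hodd : ¬ 2 ∣ Fintype.card F := by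
        intro h2d
        have h2c : CharP F 2 := by
          obtain ⟨ch, hch⟩ := CharP.exists F
          haveI := hch
          obtain ⟨n, hprime, hn⟩ := FiniteField.card F ch
          rw [hn] at h2d
          have := (Nat.prime_dvd_prime_iff_eq Nat.prime_two hprime).mp
            (Nat.prime_two.dvd_of_dvd_pow h2d)
          subst this
          exact hch
        exact hrr (CharTwo.neg_eq r).symm
      omega
  · have hsub : (Finset.univ : Finset F) ⊆ {0, p} := by
      intro x _
      by_cases h0 : x = 0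
      · simp [h0]
      by_cases h1 : x = p
      · simp [h1]
      exact absurd ⟨x, hall x h0 h1⟩ hr
    have hcard := Finset.card_le_card hsub
    have h2 := Finset.card_le_two (a := (0 : F)) (b := p)
    rw [Finset.card_univ] at hcard
    omega

theorem det_sq_eq {k : ℕ} (C : GL (Fin k) F) :
    (C : Matrix (Fin k) (Fin k) F).det ^ 2 = (C : Matrix (Fin k) (Fin k) F).charpoly.coeff 0 ^ 2 := by
  rw [det_eq_sign_charpoly_coeff, Fintype.card_fin, mul_pow, ← pow_mul, mul_comm k 2, pow_mul]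
  simp

/-- A chain has a pair, in general position at `p`. -/
theorem chain_pair [Fintype F] (hq : 4 ≤ Fintype.card F) {n : ℕ} {A : GL (Fin n) F} {μ : F[X]}
    (hch : IsChain F A μ) (p : F) (hp : p ≠ 0) :
    ∀ γ : F, (μ.natDegree = 2 → γ ≠ 0 ∧ γ ≠ p ∧ γ ^ 2 ≠ μ.coeff 0 ^ 2) →
    ∃ (P Q : GL (Fin n) F) (h : Fin n → F), IsPair A P Q h ∧ (∀ i, h i ≠ 0) ∧
      (3 ≤ μ.natDegree →
        GoodR (Q : Matrix (Fin n) (Fin n) F) ((P * Q : GL (Fin n) F) : Matrix (Fin n) (Fin n) F) p ∧
          ∃ i, h i = p) ∧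
      GoodL (P : Matrix (Fin n) (Fin n) F) ((P * Q : GL (Fin n) F) : Matrix (Fin n) (Fin n) F) p ∧
      (μ.natDegree = 2 →
        GoodR (Q : Matrix (Fin n) (Fin n) F) ((P * Q : GL (Fin n) F) : Matrix (Fin n) (Fin n) F) γ) := by
  classical
  induction hch with
  | nil A =>
    intro γ _
    refine ⟨A, A, Fin.elim0, ⟨⟨1, by simp⟩, ⟨1, by simp⟩, ⟨⟨0, ?_⟩, ?_⟩⟩, fun i => i.elim0, ?_, ?_, ?_⟩
    · exact Subsingleton.elim _ _
    · simp [Matrix.charpoly, Matrix.det_isEmpty]
    · simp
    · intro u hu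
      exact absurd (Subsingleton.elim u 0) hu
    · simp
  | @cons k m n C K μ' A e g hC hK hdvd hA ih =>
    intro γ hγ
    set c := (C : Matrix (Fin (k + 2)) (Fin (k + 2)) F).det ^ 2 with hc
    have hdetC : (C : Matrix (Fin (k + 2)) (Fin (k + 2)) F).det ≠ 0 :=
      ((Matrix.isUnit_iff_isUnit_det _).mp C.isUnit).ne_zero
    have hc0 : c ≠ 0 := pow_ne_zero _ hdetC
    have hdeg : (C : Matrix (Fin (k + 2)) (Fin (k + 2)) F).charpoly.natDegree = k + 2 := by
      rw [charpoly_natDegree_eq_dim, Fintype.card_fin]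
    -- parameter for the rest
    obtain ⟨γ', hγ', hγeq⟩ : ∃ γ' : F,
        (μ'.natDegree = 2 → γ' ≠ 0 ∧ γ' ≠ p ∧ γ' ^ 2 ≠ μ'.coeff 0 ^ 2) ∧
        (k = 0 → μ'.natDegree = 2 → γ' = γ) := by
      by_cases hk : k = 0
      · refine ⟨γ, fun h2 => ?_, fun _ _ => rfl⟩
        have heq : μ' = (C : Matrix (Fin (k + 2)) (Fin (k + 2)) F).charpoly :=
          (eq_of_monic_of_dvd_of_natDegree_le hK.monic (charpoly_monic _) hdvd (by omega)).symm
        rw [heq]
        exact hγ (by omega)
      · obtain ⟨γ', h1, h2, h3⟩ := exists_gamma hq p (μ'.coeff 0 ^ 2) hp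
        exact ⟨γ', fun _ => ⟨h1, h2, h3⟩, fun h => absurd h hk⟩
    obtain ⟨P2, Q2, h2, hp2, h2nz, -, h2L, h2R⟩ := ih γ' hγ'
    -- list for the front block
    obtain ⟨h1, h1def⟩ : ∃ h1 : Fin (k + 2) → F, h1 = (fun i => if i = Fin.last (k + 1) then
      c / (if k = 0 then γ else p) ^ (k + 1) else (if k = 0 then γ else p)) := ⟨_, rfl⟩
    set q := (if k = 0 then γ else p) with hqdef
    have hq0 : q ≠ 0 := by
      rw [hqdef]
      split_ifs with hk
      · exact (hγ (by omega)).1
      · exact hp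
    have h1nz : ∀ i, h1 i ≠ 0 := by
      intro i
      rw [h1def]
      dsimp only
      split_ifs
      · exact div_ne_zero hc0 (pow_ne_zero _ hq0)
      · exact hq0
    have h1prod : ∏ i, h1 i = c := by
      rw [Fin.prod_univ_castSucc, h1def]
      simp [Fin.castSucc_ne_last]
      field_simp
    have h1c : ∀ j : Fin (k + 1), h1 j.castSucc = q := fun j => by
      rw [h1def]; simp [Fin.castSucc_ne_last]
    have hlist : GoodList C h1 := by
      by_cases hy : c / q ^ (k + 1) = q
      · refine Or.inr ⟨by rw [h1c, h1def]; simpa using hy, fun hk => ?_⟩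
        subst hk
        exfalso
        have hγc := (hγ (by omega)).2.2
        apply hγc
        rw [← det_sq_eq]
        have hqq : q = γ := by simp [hqdef]
        rw [hqq, pow_one, div_eq_iff (hγ (by omega)).1] at hy
        rw [sq, ← hc, hy]
      · exact Or.inl fun j => by rw [h1c, h1def]; simpa using Ne.symm hy
    obtain ⟨P1, Q1, hp1, hL1, hR1⟩ := exists_block_pair hq C hC h1 h1nz h1prod hlist
    have h10 : h1 0 = q := h1c 0
    have hone : k ≠ 0 → h1 1 = h1 0 := by
      intro hk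
      rw [h10, show (1 : Fin (k + 2)) = (⟨1, by omega⟩ : Fin (k + 1)).castSucc from rfl, h1c]
    have hL1all : k ≠ 0 → ∀ δ, GoodL (P1 : Matrix (Fin (k + 2)) (Fin (k + 2)) F)
        ((P1 * Q1 : GL (Fin (k + 2)) F) : Matrix (Fin (k + 2)) (Fin (k + 2)) F) δ :=
      fun hk δ => hL1 δ (Or.inr (hone hk))
    have hR1q : GoodR (Q1 : Matrix (Fin (k + 2)) (Fin (k + 2)) F)
        ((P1 * Q1 : GL (Fin (k + 2)) F) : Matrix (Fin (k + 2)) (Fin (k + 2)) F) q := by
      by_cases hy : h1 (Fin.last (k + 1)) = q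
      · exact hR1 q (Or.inr (by rw [h1c, hy]))
      · exact hR1 q (Or.inl (Ne.symm hy))
    obtain ⟨P, Q, hpair, hL, hR⟩ := exists_isPair_sum hp1 hp2 h1nz (fun δ _ hj => by
      by_cases hk : k = 0
      · by_cases hδ : δ = q
        · subst hδ
          obtain ⟨j, -⟩ := hj
          have h2deg : μ'.natDegree = 2 := by
            rcases hK.degree_cases with ⟨rfl, -⟩ | h
            · exact j.elim0
            · have := natDegree_le_of_dvd hdvd (charpoly_monic _).ne_zero
              omega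
          refine Or.inr ?_
          have := h2R h2deg
          rw [hγeq hk h2deg] at this
          simpa [hqdef, hk] using this
        · exact Or.inl (hL1 δ (Or.inl (h10 ▸ hδ)))
      · exact Or.inl (hL1all hk δ))
    rw [hA]
    refine ⟨reindexGL e P, reindexGL e Q, sumList h1 h2 ∘ e.symm, isPair_reindex hpair e g, ?_, ?_, ?_, ?_⟩
    · intro i
      rcases hx : e.symm i with i1 | i2 <;> simp [hx, h1nz, h2nz]
    · intro h3
      have hk : k ≠ 0 := by omega
      have hqp : q = p := by simp [hqdef, hk]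
      refine ⟨(hR p (fun _ => hqp ▸ hR1q) (fun h => absurd ⟨0, h10.trans hqp⟩ h)).reindex e,
        e (Sum.inl 0), ?_⟩
      simp [h10, hqp]
    · refine (hL p (fun _ => h2L) (fun _ => ?_)).reindex e
      by_cases hk : k = 0
      · refine hL1 p (Or.inl ?_)
        rw [h10]
        simpa [hqdef, hk] using (hγ (by omega)).2.1.symm
      · exact hL1all hk p
    · intro h2'
      have hk : k = 0 := by omega
      have hqγ : q = γ := by simp [hqdef, hk]
      exact (hR γ (fun _ => hqγ ▸ hR1q) (fun h => absurd ⟨0, h10.trans hqγ⟩ h)).reindex e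

theorem single_pair (a : Fˣ) :
    IsPair (scalarGL (Fin 1) a : GL (Fin 1) F) (scalarGL (Fin 1) a) (scalarGL (Fin 1) a)
      (fun _ => (a : F) ^ 2) := by
  refine ⟨⟨1, by simp⟩, ⟨1, by simp⟩, ⟨fun _ => 1, ?_⟩, ?_⟩
  · rw [eq_top_iff]
    intro z _
    have hz : z = z 0 • (fun _ => 1 : Fin 1 → F) := funext fun i => by simp [Fin.fin_one_eq_zero i]
    rw [hz]
    exact Submodule.smul_mem _ _ (Submodule.subset_span ⟨0, by simp⟩)
  · rw [Matrix.charpoly, det_fin_one, Fin.prod_univ_one, charmatrix_apply_eq]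
    simp [sq]

theorem NonScalar.of_minpoly {n : ℕ} {A : GL (Fin n) F}
    (h : 2 ≤ (minpoly F (A : Matrix (Fin n) (Fin n) F)).natDegree) : NonScalar A := by
  intro c hc
  have h0 : aeval (A : Matrix (Fin n) (Fin n) F) (X - C c) = 0 := by
    rw [map_sub, aeval_X, aeval_C, hc, Algebra.algebraMap_eq_smul_one, sub_self]
  have := natDegree_le_of_dvd (minpoly.dvd F _ h0) (X_sub_C_ne_zero c)
  rw [natDegree_X_sub_C] at this
  omega

/-- A non-quadratic matrix with at most two scalar blocks has a split cyclic product of two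
conjugates. -/
theorem exists_splitCyc_cov_two [Fintype F] (hq : 4 ≤ Fintype.card F) {n k d : ℕ} {A : GL (Fin n) F}
    {K : GL (Fin k) F} {μ : F[X]} {a : Fˣ} (e : Fin k ⊕ Fin d ≃ Fin n) (g : GL (Fin n) F)
    (hA : A = g * reindexGL e (blockGL K (scalarGL (Fin d) a)) * g⁻¹) (hch : IsChain F K μ)
    (hd : d ≤ 2) (hμ : 3 ≤ μ.natDegree) :
    ∃ (X : GL (Fin n) F) (h : Fin n → F), Cov 2 A X ∧ (∀ i, h i ≠ 0) ∧
      SplitCyc (X : Matrix (Fin n) (Fin n) F) h := by
  have finish : ∀ {P Q : GL (Fin n) F} {h : Fin n → F}, IsPair A P Q h → (∀ i, h i ≠ 0) →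
      ∃ (X : GL (Fin n) F) (h : Fin n → F), Cov 2 A X ∧ (∀ i, h i ≠ 0) ∧
        SplitCyc (X : Matrix (Fin n) (Fin n) F) h := by
    rintro P Q h ⟨⟨g1, rfl⟩, ⟨g2, rfl⟩, hs⟩ hnz
    exact ⟨_, h, (cov_one A g1).mul (cov_one A g2), hnz, hs⟩
  set p : F := (a : F) ^ 2 with hp
  have hp0 : p ≠ 0 := pow_ne_zero _ a.ne_zero
  obtain ⟨P2, Q2, h2, hp2, h2nz, hR2, hL2, -⟩ := chain_pair hq hch p hp0 1 (fun h => by omega)
  obtain ⟨hR2p, i0, hi0⟩ := hR2 hμ
  interval_cases d
  · -- no scalar block
    let e' : Fin k ≃ Fin n := (Equiv.sumEmpty (Fin k) (Fin 0)).symm.trans e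
    have hb : reindexGL e (blockGL K (scalarGL (Fin 0) a)) = reindexGL e' K := by
      refine Units.ext ?_
      ext i j
      rcases hx : e.symm i with i1 | i2
      · rcases hy : e.symm j with j1 | j2
        · simp [e', hx, hy]
        · exact j2.elim0
      · exact i2.elim0
    refine finish (P := reindexGL e' P2) (Q := reindexGL e' Q2) ?_ (fun i => h2nz (e'.symm i))
    rw [hA, hb]
    exact isPair_reindex hp2 e' g
  · obtain ⟨P, Q, hpair, -, -⟩ := exists_isPair_sum hp2 (single_pair a) h2nz (fun δ _ hj => by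
      obtain ⟨-, hj⟩ := hj
      exact Or.inl (hj ▸ hL2))
    refine finish (P := reindexGL e P) (Q := reindexGL e Q) ?_ (h := sumList h2 (fun _ => p) ∘ e.symm) ?_
    · rw [hA]; exact isPair_reindex hpair e g
    · intro i; rcases hx : e.symm i with i1 | i2 <;> simp [hx, h2nz, hp0]
  · obtain ⟨P', Q', hpair', -, hR'⟩ := exists_isPair_sum hp2 (single_pair a) h2nz (fun δ _ hj => by
      obtain ⟨-, hj⟩ := hj
      exact Or.inl (hj ▸ hL2))
    have hR'p := hR' p (fun _ => hR2p) (fun h => absurd ⟨i0, hi0⟩ h)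
    obtain ⟨P, Q, hpair, -, -⟩ := exists_isPair_sum (single_pair a) hpair'
      (fun _ => hp0) (fun δ hi _ => by
        obtain ⟨-, hi⟩ := hi
        exact Or.inr (hi ▸ hR'p))
    let e' : Fin 1 ⊕ (Fin k ⊕ Fin 1) ≃ Fin n :=
      ((Equiv.sumAssoc (Fin 1) (Fin k) (Fin 1)).symm.trans
        (((Equiv.sumComm (Fin 1) (Fin k)).sumCongr (Equiv.refl (Fin 1))).trans
          ((Equiv.sumAssoc (Fin k) (Fin 1) (Fin 1)).trans
            ((Equiv.refl (Fin k)).sumCongr finSumFinEquiv)))).trans e
    have hb : reindexGL e (blockGL K (scalarGL (Fin 2) a)) =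
        reindexGL e' (blockGL (scalarGL (Fin 1) a) (blockGL K (scalarGL (Fin 1) a))) := by
      refine Units.ext ?_
      ext i j
      rcases hx : e.symm i with i1 | i2
      · rcases hy : e.symm j with j1 | j2
        · simp [e', hx, hy]
        · fin_cases j2 <;> simp [e', hx, hy, finSumFinEquiv, Fin.addCases]
      · rcases hy : e.symm j with j1 | j2
        · fin_cases i2 <;> simp [e', hx, hy, finSumFinEquiv, Fin.addCases]
        · fin_cases i2 <;> fin_cases j2 <;>
            simp [e', hx, hy, finSumFinEquiv, Fin.addCases, Matrix.one_apply]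
    refine finish (P := reindexGL e' P) (Q := reindexGL e' Q)
      (h := sumList (fun _ => p) (sumList h2 (fun _ => p)) ∘ e'.symm) ?_ ?_
    · rw [hA, hb]; exact isPair_reindex hpair e' g
    · intro i
      rcases hx : e'.symm i with i1 | i2
      · simp [hx, hp0]
      · rcases i2 with i3 | i4 <;> simp [hx, h2nz, hp0]

end CfsgLib.PSLCover
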