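import Mathlib

/-!
Products of conjugates in general and special linear groups: shared vocabulary for the covering
number of `PSL (n, q)`.
-/

set_option autoImplicit false
set_option linter.style.haveILetI false
set_option linter.unusedSectionVars false

namespace CfsgLib.PSLCover

open Matrix

variable {F : Type*} [Field F] {ι : Type*} [Fintype ι] [DecidableEq ι]

/-- `X` has a cyclic vector. -/
def HasCyclic (X : Matrix ι ι F) : Prop :=
  ∃ v : ι → F, Submodule.span F (Set.range fun i : ℕ => (X ^ i) *ᵥ v) = ⊤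

/-- `X` is cyclic with characteristic polynomial split with root list `γ`. -/
def SplitCyc (X : Matrix ι ι F) (γ : ι → F) : Prop :=
  HasCyclic X ∧ X.charpoly = ∏ i, (Polynomial.X - Polynomial.C (γ i))

/-- `B` is a product of `k` conjugates of `A` in `GL`. -/
def Cov (k : ℕ) (A B : GL ι F) : Prop :=
  ∃ f : Fin k → GL ι F, B = (List.ofFn fun i => f i * A * (f i)⁻¹).prod

/-- `B` is a product of `k` conjugates of `A` by elements of determinant one. -/
def CovS (k : ℕ) (A B : GL ι F) : Prop :=
  ∃ f : Fin k → GL ι F, (∀ i, GeneralLinearGroup.det (f i) = 1) ∧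
    B = (List.ofFn fun i => f i * A * (f i)⁻¹).prod

/-- The centraliser of `A` has every determinant, so its class does not split in `SL`. -/
def FullDet (A : GL ι F) : Prop :=
  ∀ δ : Fˣ, ∃ c : GL ι F, c * A = A * c ∧ GeneralLinearGroup.det c = δ

/-- `A` is not a scalar matrix. -/
def NonScalar (A : GL ι F) : Prop :=
  ∀ c : F, (A : Matrix ι ι F) ≠ c • 1

theorem CovS.cov {k : ℕ} {A B : GL ι F} (h : CovS k A B) : Cov k A B := by
  obtain ⟨f, -, hf⟩ := h
  exact ⟨f, hf⟩

theorem cov_one (A g : GL ι F) : Cov 1 A (g * A * g⁻¹) :=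
  ⟨fun _ => g, by simp⟩

theorem covS_one (A g : GL ι F) (hg : GeneralLinearGroup.det g = 1) :
    CovS 1 A (g * A * g⁻¹) :=
  ⟨fun _ => g, fun _ => hg, by simp⟩

theorem Cov.mul {j k : ℕ} {A B C : GL ι F} (h : Cov j A B) (h' : Cov k A C) :
    Cov (j + k) A (B * C) := by
  obtain ⟨f, rfl⟩ := h
  obtain ⟨g, rfl⟩ := h'
  refine ⟨Fin.append f g, ?_⟩
  rw [← List.prod_append, ← List.ofFn_fin_append]
  congr 2
  funext i
  refine Fin.addCases (fun i => ?_) (fun i => ?_) i <;> simp

theorem CovS.mul {j k : ℕ} {A B C : GL ι F} (h : CovS j A B) (h' : CovS k A C) :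
    CovS (j + k) A (B * C) := by
  obtain ⟨f, hf, rfl⟩ := h
  obtain ⟨g, hg, rfl⟩ := h'
  refine ⟨Fin.append f g, fun i => ?_, ?_⟩
  · refine Fin.addCases (fun i => ?_) (fun i => ?_) i <;> simp [hf, hg]
  rw [← List.prod_append, ← List.ofFn_fin_append]
  congr 2
  funext i
  refine Fin.addCases (fun i => ?_) (fun i => ?_) i <;> simp

theorem conj_list_prod (g : GL ι F) (l : List (GL ι F)) :
    g * l.prod * g⁻¹ = (l.map fun y => g * y * g⁻¹).prod := by
  have h := map_list_prod (MulAut.conj g).toMonoidHom l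
  simpa [MulAut.conj_apply, Function.comp_def] using h.trans
    (congrArg List.prod (List.map_congr_left fun y _ => (MulAut.conj_apply g y)))

theorem Cov.conj {k : ℕ} {A B : GL ι F} (h : Cov k A B) (g : GL ι F) :
    Cov k A (g * B * g⁻¹) := by
  obtain ⟨f, rfl⟩ := h
  refine ⟨fun i => g * f i, ?_⟩
  rw [conj_list_prod, List.map_ofFn]
  congr 2
  funext i
  simp [mul_assoc]

theorem CovS.conj {k : ℕ} {A B : GL ι F} (h : CovS k A B) (g : GL ι F)
    (hg : GeneralLinearGroup.det g = 1) :
    CovS k A (g * B * g⁻¹) := by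
  obtain ⟨f, hf, rfl⟩ := h
  refine ⟨fun i => g * f i, fun i => by simp [map_mul, hf, hg], ?_⟩
  rw [conj_list_prod, List.map_ofFn]
  congr 2
  funext i
  simp [mul_assoc]

theorem Cov.covS {k : ℕ} {A B : GL ι F} (h : Cov k A B) (hA : FullDet A) : CovS k A B := by
  obtain ⟨f, rfl⟩ := h
  choose c hc hd using fun i => hA (GeneralLinearGroup.det (f i))⁻¹
  refine ⟨fun i => f i * c i, fun i => by simp [map_mul, hd], ?_⟩
  congr 2
  funext i
  have : c i * A * (c i)⁻¹ = A := by rw [hc i, mul_assoc, mul_inv_cancel, mul_one]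
  conv_lhs => rw [← this]
  simp [mul_assoc]

theorem Cov.det_eq {k : ℕ} {A B : GL ι F} (h : Cov k A B) :
    GeneralLinearGroup.det B = GeneralLinearGroup.det A ^ k := by
  obtain ⟨f, rfl⟩ := h
  rw [map_list_prod, List.map_ofFn]
  have : (GeneralLinearGroup.det ∘ fun i => f i * A * (f i)⁻¹) =
      fun _ => GeneralLinearGroup.det A := by
    funext i
    simp [map_mul]
  rw [this]
  simp

end CfsgLib.PSLCover
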