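import Cfsg.Agent.Lib.PSLCover.Cyclic

/-!
Determinant of a lower bidiagonal matrix with an arbitrary last column, and Hessenberg cyclicity.
-/

set_option autoImplicit false
set_option linter.style.haveILetI false
set_option linter.unusedSectionVars false

namespace CfsgLib.PSLCover

open Matrix Finset

variable {R : Type*} [CommRing R]

/-- Column `j < m` has `d j` on the diagonal and `-e j` below it; the last column is `b`. -/
def bidiagLast {m : ℕ} (d e : Fin m → R) (b : Fin (m + 1) → R) :
    Matrix (Fin (m + 1)) (Fin (m + 1)) R :=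
  fun i j => Fin.lastCases (b i)
    (fun j' => if i = j'.castSucc then d j' else if i = j'.succ then -e j' else 0) j

@[simp] theorem bidiagLast_last {m : ℕ} (d e : Fin m → R) (b : Fin (m + 1) → R) (i : Fin (m + 1)) :
    bidiagLast d e b i (Fin.last m) = b i := by
  simp [bidiagLast]

@[simp] theorem bidiagLast_castSucc {m : ℕ} (d e : Fin m → R) (b : Fin (m + 1) → R) (i : Fin (m + 1))
    (j : Fin m) : bidiagLast d e b i j.castSucc =
      if i = j.castSucc then d j else if i = j.succ then -e j else 0 := by
  simp [bidiagLast]

theorem det_bidiagLast {m : ℕ} (d e : Fin m → R) (b : Fin (m + 1) → R) :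
    (bidiagLast d e b).det =
      ∑ i : Fin (m + 1), b i * ∏ j : Fin m, if (j : ℕ) < (i : ℕ) then d j else e j := by
  induction m with
  | zero =>
    rw [det_fin_one, Fin.sum_univ_one, Fin.prod_univ_zero, mul_one]
    exact bidiagLast_last d e b (0 : Fin 1)
  | succ m ih =>
    rw [det_succ_row_zero, Fin.sum_univ_castSucc, Finset.sum_eq_single (0 : Fin (m + 1))]
    · have h0 : (bidiagLast d e b).submatrix Fin.succ (0 : Fin (m + 2)).succAbove =
          bidiagLast (fun j => d j.succ) (fun j => e j.succ) (fun i => b i.succ) := by
        ext i j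
        rw [submatrix_apply, Fin.zero_succAbove]
        refine Fin.lastCases ?_ (fun j => ?_) j
        · rw [Fin.succ_last, bidiagLast_last, bidiagLast_last]
        · rw [← Fin.castSucc_succ, bidiagLast_castSucc, bidiagLast_castSucc]
          simp [Fin.castSucc_succ]
      have h1 : ((bidiagLast d e b).submatrix Fin.succ (Fin.last (m + 1)).succAbove).det =
          ∏ j : Fin (m + 1), (-e j) := by
        rw [det_of_isUpperTriangular]
        · refine Finset.prod_congr rfl fun j _ => ?_
          simp [Fin.succ_ne_zero, Fin.ext_iff]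
        · intro i j hij
          have : (j : ℕ) < i := hij
          simp only [submatrix_apply, Fin.succAbove_last, bidiagLast_castSucc, Fin.ext_iff,
            Fin.val_succ, Fin.val_castSucc]
          rw [if_neg (by omega), if_neg (by omega)]
      rw [Fin.castSucc_zero, h0, ih, h1, Fin.val_zero, pow_zero, one_mul, Fin.val_last,
        bidiagLast_last]
      rw [show bidiagLast d e b 0 0 = d 0 by
        rw [show (0 : Fin (m + 2)) = (0 : Fin (m + 1)).castSucc from rfl, bidiagLast_castSucc]; simp]
      rw [Fin.sum_univ_succ (fun i : Fin (m + 2) => b i * _)]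
      rw [mul_sum, add_comm]
      congr 1
      · rw [prod_neg, Finset.card_univ, Fintype.card_fin]
        simp only [Fin.val_zero, Nat.not_lt_zero, if_false]
        have : ((-1 : R) ^ (m + 1)) * (-1) ^ (m + 1) = 1 := by
          rw [← mul_pow]; simp
        linear_combination (b 0 * ∏ j : Fin (m + 1), e j) * this
      · refine Finset.sum_congr rfl fun i _ => ?_
        rw [Fin.prod_univ_succ]
        simp only [Fin.val_succ, Fin.val_zero, Nat.zero_lt_succ, if_true, Nat.succ_lt_succ_iff,
          add_lt_add_iff_right]
        ring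
    · intro i _ hi
      rw [bidiagLast_castSucc, if_neg (fun h => hi (Fin.castSucc_injective _ h.symm)),
        if_neg (fun h => Fin.succ_ne_zero i h.symm)]
      simp
    · simp

variable {F : Type*} [Field F]

/-- An upper Hessenberg matrix with non-zero subdiagonal is cyclic. -/
theorem hasCyclic_of_hessenberg {m : ℕ} (M : Matrix (Fin (m + 1)) (Fin (m + 1)) F)
    (h0 : ∀ i j : Fin (m + 1), (j : ℕ) + 1 < i → M i j = 0)
    (h1 : ∀ j : Fin m, M j.succ j.castSucc ≠ 0) : HasCyclic M := by
  refine ⟨Pi.single 0 1, ?_⟩
  set S := Submodule.span F (Set.range fun i : ℕ => (M ^ i) *ᵥ (Pi.single 0 1 : Fin (m + 1) → F))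
    with hS
  have hinv : ∀ v ∈ S, M *ᵥ v ∈ S := by
    intro v hv
    induction hv using Submodule.span_induction with
    | mem x hx =>
      obtain ⟨i, rfl⟩ := hx
      refine Submodule.subset_span ⟨i + 1, ?_⟩
      simp only [pow_succ', mulVec_mulVec]
    | zero => simp
    | add x y _ _ hx hy => rw [mulVec_add]; exact add_mem hx hy
    | smul c x _ hx => rw [mulVec_smul]; exact Submodule.smul_mem _ c hx
  have key : ∀ k : ℕ, ∀ j : Fin (m + 1), (j : ℕ) ≤ k → (Pi.single j 1 : Fin (m + 1) → F) ∈ S := by
    intro k
    induction k with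
    | zero =>
      intro j hj
      have : j = 0 := Fin.ext (by simpa using hj)
      subst this
      exact Submodule.subset_span ⟨0, by simp only [pow_zero, one_mulVec]⟩
    | succ k ih =>
      intro j hj
      rcases Nat.lt_or_ge (j : ℕ) (k + 1) with h | h
      · exact ih j (by omega)
      have hjv : (j : ℕ) = k + 1 := by omega
      let j' : Fin m := ⟨k, by omega⟩
      have hcol : M *ᵥ Pi.single j'.castSucc 1 =
          ∑ i, M i j'.castSucc • (Pi.single i 1 : Fin (m + 1) → F) := by
        funext x
        simp [Matrix.mulVec_single, Pi.single_apply]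
      have hmem := hinv _ (ih j'.castSucc (by simp [j']))
      rw [hcol, ← Finset.add_sum_erase _ _ (mem_univ j)] at hmem
      have hrest : ∑ i ∈ univ.erase j, M i j'.castSucc • (Pi.single i 1 : Fin (m + 1) → F) ∈ S := by
        refine Submodule.sum_mem _ fun i hi => ?_
        rcases Nat.lt_or_ge (i : ℕ) (k + 1) with hik | hik
        · exact Submodule.smul_mem _ _ (ih i (by omega))
        · have : (k + 1) < (i : ℕ) := lt_of_le_of_ne hik fun h =>
            (mem_erase.mp hi).1 (Fin.ext (by omega))
          rw [h0 i j'.castSucc (by simpa [j'] using this), zero_smul]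
          exact zero_mem _
      have hh := (Submodule.add_mem_iff_left _ hrest).mp hmem
      have hne : M j j'.castSucc ≠ 0 := by
        have := h1 j'
        rwa [show j'.succ = j from Fin.ext (by simp [j', hjv])] at this
      simpa [smul_smul, hne] using Submodule.smul_mem S (M j j'.castSucc)⁻¹ hh
  rw [eq_top_iff, ← (Pi.basisFun F (Fin (m + 1))).span_eq, Submodule.span_le]
  rintro _ ⟨j, rfl⟩
  simpa using key j j le_rfl

end CfsgLib.PSLCover
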