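import Cfsg.Agent.Lib.PSLCover.Bidiag

/-!
An upper triangular cyclic matrix with prescribed diagonal, factored as a matrix with prescribed
characteristic polynomial `f` times the inverse of a companion matrix with characteristic
polynomial `g`.
-/

set_option autoImplicit false
set_option linter.style.haveILetI false
set_option linter.unusedSectionVars false

namespace CfsgLib.PSLCover

open Matrix Finset Polynomial

variable {F : Type*} [Field F] {ι : Type*} [Fintype ι] [DecidableEq ι]

/-- No left eigenvector of `H` for `γ` is a left eigenvector of `P`. -/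
def GoodL (P H : Matrix ι ι F) (γ : F) : Prop :=
  ∀ u : ι → F, u ≠ 0 → u ᵥ* H = γ • u → ∀ a : F, u ᵥ* P ≠ a • u

/-- No eigenvector of `H` for `γ` is an eigenvector of `Q`. -/
def GoodR (Q H : Matrix ι ι F) (γ : F) : Prop :=
  ∀ w : ι → F, w ≠ 0 → H *ᵥ w = γ • w → ∀ a : F, Q *ᵥ w ≠ a • w

theorem exists_sum_smul_eq {m : ℕ} (W : Fin (m + 1) → F[X]) (hW : ∀ i, (W i).natDegree = i)
    (hW0 : ∀ i, W i ≠ 0) (q : F[X]) (hq : q.natDegree ≤ m) :
    ∃ u : Fin (m + 1) → F, q = ∑ i, C (u i) * W i := by
  induction m generalizing q with
  | zero =>
    refine ⟨fun _ => q.coeff 0 / (W 0).coeff 0, ?_⟩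
    have h1 := eq_C_of_natDegree_le_zero (le_of_eq (hW 0))
    have h2 := eq_C_of_natDegree_le_zero hq
    have hne : (W 0).coeff 0 ≠ 0 := fun h => hW0 0 (by rw [h1, h, C_0])
    rw [Fin.sum_univ_one, h1, coeff_C_zero, ← C_mul, div_mul_cancel₀ _ hne, ← h2]
  | succ m ih =>
    set a := q.coeff (m + 1) / (W (Fin.last (m + 1))).coeff (m + 1) with ha
    have hlast : (W (Fin.last (m + 1))).natDegree = m + 1 := by simpa using hW (Fin.last (m + 1))
    have hne : (W (Fin.last (m + 1))).coeff (m + 1) ≠ 0 := by
      have h := leadingCoeff_ne_zero.mpr (hW0 (Fin.last (m + 1)))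
      rwa [leadingCoeff, hlast] at h
    have hdeg : (q - C a * W (Fin.last (m + 1))).natDegree ≤ m := by
      rw [natDegree_le_iff_coeff_eq_zero]
      intro N hN
      rcases (Nat.succ_le_of_lt hN).eq_or_lt with rfl | hlt
      · simp [ha, hne]
      · have hlt' : m + 1 < N := hlt
        have hW' : (W (Fin.last (m + 1))).natDegree < N := by omega
        simp [coeff_eq_zero_of_natDegree_lt (lt_of_le_of_lt hq hlt'),
          coeff_eq_zero_of_natDegree_lt hW']
    obtain ⟨u, hu⟩ := ih (fun i => W i.castSucc) (fun i => hW i.castSucc) (fun i => hW0 _) _ hdeg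
    refine ⟨Fin.snoc u a, ?_⟩
    rw [Fin.sum_univ_castSucc]
    simp only [Fin.snoc_castSucc, Fin.snoc_last]
    rw [← hu]
    ring

variable {m : ℕ}

/-- Companion matrix: ones below the diagonal, last column minus the coefficients. -/
noncomputable def compMat (g : F[X]) : Matrix (Fin (m + 2)) (Fin (m + 2)) F :=
  bidiagLast (fun _ => 0) (fun _ => -1) fun i => -g.coeff i

/-- Upper triangular: diagonal `h`, superdiagonal `s`, last column `x` above the diagonal. -/
def triBlock (h : Fin (m + 2) → F) (s : Fin m → F) (x : Fin (m + 1) → F) :
    Matrix (Fin (m + 2)) (Fin (m + 2)) F :=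
  fun i j => Fin.lastCases (Fin.lastCases (h (Fin.last _)) x i)
    (fun j' => if i = j'.castSucc then h j'.castSucc
      else if hi : (i : ℕ) + 1 = (j' : ℕ) then s ⟨i, by omega⟩ else 0) j

@[simp] theorem triBlock_last_last (h : Fin (m + 2) → F) (s : Fin m → F) (x : Fin (m + 1) → F) :
    triBlock h s x (Fin.last _) (Fin.last _) = h (Fin.last _) := by simp [triBlock]

@[simp] theorem triBlock_castSucc_last (h : Fin (m + 2) → F) (s : Fin m → F) (x : Fin (m + 1) → F)
    (i : Fin (m + 1)) : triBlock h s x i.castSucc (Fin.last _) = x i := by simp [triBlock]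

@[simp] theorem triBlock_castSucc (h : Fin (m + 2) → F) (s : Fin m → F) (x : Fin (m + 1) → F)
    (i : Fin (m + 2)) (j : Fin (m + 1)) : triBlock h s x i j.castSucc =
      if i = j.castSucc then h j.castSucc
      else if hi : (i : ℕ) + 1 = (j : ℕ) then s ⟨i, by omega⟩ else 0 := by simp [triBlock]

theorem triBlock_below (h : Fin (m + 2) → F) (s : Fin m → F) (x : Fin (m + 1) → F)
    {i j : Fin (m + 2)} (hij : j < i) : triBlock h s x i j = 0 := by
  have hij' : (j : ℕ) < i := hij
  induction j using Fin.lastCases with
  | last => exact absurd hij' (by simp; omega)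
  | cast j =>
    simp only [Fin.val_castSucc] at hij'
    rw [triBlock_castSucc, if_neg (fun hh => by simp [hh] at hij'), dif_neg (by omega)]

theorem triBlock_diag (h : Fin (m + 2) → F) (s : Fin m → F) (x : Fin (m + 1) → F) (i : Fin (m + 2)) :
    triBlock h s x i i = h i := by
  induction i using Fin.lastCases with
  | last => simp
  | cast i => simp

theorem charpoly_triBlock (h : Fin (m + 2) → F) (s : Fin m → F) (x : Fin (m + 1) → F) :
    (triBlock h s x).charpoly = ∏ i, (X - C (h i)) := by
  rw [Matrix.charpoly, det_of_isUpperTriangular]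
  · exact prod_congr rfl fun i _ => by simp [triBlock_diag]
  · intro i j hij
    have hji : j < i := hij
    rw [charmatrix_apply_ne _ _ _ hji.ne', triBlock_below h s x hji, C_0, neg_zero]

theorem det_triBlock (h : Fin (m + 2) → F) (s : Fin m → F) (x : Fin (m + 1) → F) :
    (triBlock h s x).det = ∏ i, h i := by
  rw [det_of_isUpperTriangular]
  · exact prod_congr rfl fun i _ => triBlock_diag h s x i
  · exact fun i j hij => triBlock_below h s x hij

theorem charpoly_comp (g : F[X]) (hg : g.Monic) (hd : g.natDegree = m + 2) :
    (compMat (m := m) g).charpoly = g := by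
  have hN : charmatrix (compMat (m := m) g) =
      bidiagLast (fun _ => X) (fun _ => 1) (fun i => C (g.coeff i) +
        if i = Fin.last (m + 1) then X else 0) := by
    ext i j : 1
    induction j using Fin.lastCases with
    | last =>
      rw [bidiagLast_last]
      by_cases hi : i = Fin.last (m + 1)
      · subst hi
        rw [charmatrix_apply_eq, if_pos rfl, compMat, bidiagLast_last, C_neg]
        ring
      · rw [charmatrix_apply_ne _ _ _ hi, if_neg hi, compMat, bidiagLast_last, C_neg]
        ring
    | cast j =>
      by_cases hi : i = j.castSucc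
      · subst hi
        simp [compMat]
      · rw [charmatrix_apply_ne _ _ _ hi]
        by_cases hs : i = j.succ
        · subst hs
          simp [compMat, hi]
        · simp [compMat, hi, hs]
  rw [Matrix.charpoly, hN, det_bidiagLast]
  have hW : ∀ i : Fin (m + 2),
      (∏ j : Fin (m + 1), if (j : ℕ) < (i : ℕ) then (X : F[X]) else 1) = X ^ (i : ℕ) := by
    intro i
    rw [Fin.prod_univ_eq_prod_range (fun j : ℕ => if j < (i : ℕ) then (X : F[X]) else 1) (m + 1),
      Finset.prod_ite, Finset.prod_const_one, mul_one, Finset.prod_const]
    congr 1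
    rw [show (range (m + 1)).filter (fun j => j < (i : ℕ)) = range (i : ℕ) by
      ext a; simp only [mem_filter, mem_range]; omega, card_range]
  simp only [hW, add_mul, sum_add_distrib, ite_mul, zero_mul]
  rw [Finset.sum_ite_eq' univ (Fin.last (m + 1)), if_pos (mem_univ _)]
  conv_rhs => rw [g.as_sum_range_C_mul_X_pow, hd, sum_range_succ]
  rw [Fin.sum_univ_eq_sum_range (fun i : ℕ => C (g.coeff i) * (X : F[X]) ^ i) (m + 2)]
  congr 1
  rw [show g.coeff (m + 2) = 1 from hd ▸ hg.coeff_natDegree, C_1, one_mul, Fin.val_last,
    ← pow_succ']

theorem det_comp (g : F[X]) (hg : g.Monic) (hd : g.natDegree = m + 2) :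
    (compMat (m := m) g).det = (-1) ^ (m + 2) * g.coeff 0 := by
  rw [det_eq_sign_charpoly_coeff, charpoly_comp g hg hd, Fintype.card_fin]

theorem hasCyclic_comp (g : F[X]) : HasCyclic (compMat (m := m) g) := by
  refine hasCyclic_of_hessenberg (m := m + 1) _ (fun i j hij => ?_) fun j => ?_
  · induction j using Fin.lastCases with
    | last => simp at hij; omega
    | cast j =>
      simp only [Fin.val_castSucc] at hij
      simp [compMat, Fin.ext_iff]
      omega
  · simp [compMat, Fin.ext_iff]

theorem triBlock_mulVec_last (h : Fin (m + 2) → F) (s : Fin m → F) (x : Fin (m + 1) → F)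
    (v : Fin (m + 2) → F) :
    (triBlock h s x *ᵥ v) (Fin.last _) = h (Fin.last _) * v (Fin.last _) := by
  simp only [mulVec, dotProduct]
  rw [Finset.sum_eq_single (Fin.last (m + 1))]
  · simp
  · intro j _ hj
    rw [triBlock_below h s x (Fin.lt_last_iff_ne_last.mpr hj), zero_mul]
  · simp

theorem mul_comp_castSucc (A : Matrix (Fin (m + 2)) (Fin (m + 2)) F) (g : F[X]) (i : Fin (m + 2))
    (j : Fin (m + 1)) : (A * compMat (m := m) g) i j.castSucc = A i j.succ := by
  rw [Matrix.mul_apply, Finset.sum_eq_single j.succ]
  · simp [compMat, Fin.ext_iff]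
  · intro a _ ha
    simp [compMat, ha]
  · simp

theorem mul_comp_last (A : Matrix (Fin (m + 2)) (Fin (m + 2)) F) (g : F[X]) (i : Fin (m + 2)) :
    (A * compMat (m := m) g) i (Fin.last _) = -∑ a, A i a * g.coeff a := by
  rw [Matrix.mul_apply, ← sum_neg_distrib]
  exact sum_congr rfl fun a _ => by simp [compMat]

/-- The last column can be chosen so that `H * compMat (m := m) g` has any admissible characteristic
polynomial; its trace pins the last entry down. -/
theorem exists_last_column (f g : F[X]) (hf : f.Monic) (hdf : f.natDegree = m + 2) (hg : g.Monic)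
    (hdg : g.natDegree = m + 2) (h : Fin (m + 2) → F) (h0 : ∀ i, h i ≠ 0) (s : Fin m → F)
    (hc : f.coeff 0 = (∏ i, h i) * g.coeff 0) :
    ∃ x : Fin (m + 1) → F, (triBlock h s x * compMat (m := m) g).charpoly = f ∧
      x (Fin.last m) = h (Fin.last _) * g.coeff (m + 1) - f.coeff (m + 1) - ∑ j, s j := by
  set hl := h (Fin.last (m + 1)) with hhl
  have hl0 : hl ≠ 0 := h0 _
  set H0 := triBlock h s (0 : Fin (m + 1) → F) with hH0
  set d : Fin (m + 1) → F[X] := fun j => X - C (Fin.snoc (α := fun _ => F) s 0 j) with hd
  set e : Fin (m + 1) → F[X] := fun j => C (h j.succ) with he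
  set W : Fin (m + 2) → F[X] :=
    fun i => ∏ j : Fin (m + 1), if (j : ℕ) < (i : ℕ) then d j else e j with hW
  set β : Fin (m + 2) → F := fun i => ∑ a, H0 i a * g.coeff a with hβ
  have key : ∀ x : Fin (m + 1) → F, (triBlock h s x * compMat (m := m) g).charpoly =
      ∑ i, C (β i) * W i + X * (W (Fin.last _) + ∑ i : Fin (m + 1), C (-(x i / hl)) * W i.castSucc) := by
    intro x
    set E : Matrix (Fin (m + 2)) (Fin (m + 2)) F[X] :=
      fun i j => if i = j then 1 else if j = Fin.last _ then Fin.lastCases 0 (fun a => C (-(x a / hl))) i
        else 0 with hE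
    have hdetE : E.det = 1 := by
      rw [det_of_isUpperTriangular]
      · exact prod_eq_one fun i _ => by simp [hE]
      · intro i j hij
        have hji : j < i := hij
        have : j ≠ Fin.last (m + 1) := Fin.ne_last_of_lt hji
        simp [hE, hji.ne', this]
    set M := triBlock h s x * compMat (m := m) g with hM
    have hN : E * charmatrix M = bidiagLast d e (fun i => C (β i) +
        Fin.lastCases X (fun a => C (-(x a / hl)) * X) i) := by
      have hrow : ∀ (i : Fin (m + 2)) (j : Fin (m + 2)), (E * charmatrix M) i j =
          charmatrix M i j + (Fin.lastCases 0 (fun a => C (-(x a / hl))) i) *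
            charmatrix M (Fin.last _) j := by
        intro i j
        rw [Matrix.mul_apply]
        by_cases hi : i = Fin.last (m + 1)
        · subst hi
          rw [Finset.sum_eq_single (Fin.last (m + 1))]
          · simp [hE]
          · intro a _ ha
            simp [hE, Ne.symm ha, ha]
          · simp
        · rw [← Finset.add_sum_erase _ _ (mem_univ i),
            Finset.sum_eq_single (Fin.last (m + 1))]
          · simp [hE, hi]
          · intro a ha hne
            simp [hE, (Finset.mem_erase.mp ha).1.symm, hne]
          · simp [Ne.symm hi]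
      ext i j : 1
      rw [hrow]
      induction j using Fin.lastCases with
      | last =>
        rw [bidiagLast_last]
        induction i using Fin.lastCases with
        | last =>
          simp only [Fin.lastCases_last, zero_mul, add_zero, charmatrix_apply_eq, M, mul_comp_last]
          rw [C_neg, sub_neg_eq_add, add_comm]
          congr 2
          refine sum_congr rfl fun a _ => ?_
          congr 1
          induction a using Fin.lastCases with
          | last => simp [hH0]
          | cast a => simp [hH0]
        | cast i =>
          simp only [Fin.lastCases_castSucc, charmatrix_apply_eq, M, mul_comp_last]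
          rw [charmatrix_apply_ne _ _ _ (Fin.castSucc_lt_last i).ne, mul_comp_last]
          have h1 : ∑ a, triBlock h s x i.castSucc a * g.coeff a =
              β i.castSucc + x i * g.coeff (m + 1) := by
            simp only [hβ, hH0]
            rw [Fin.sum_univ_castSucc (n := m + 1), Fin.sum_univ_castSucc (n := m + 1)]
            simp only [triBlock_castSucc, triBlock_castSucc_last, Fin.val_castSucc, Fin.val_last,
              Pi.zero_apply, zero_mul, add_zero]
          have h2 : ∑ a, triBlock h s x (Fin.last _) a * g.coeff a = hl * g.coeff (m + 1) := by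
            rw [Finset.sum_eq_single (Fin.last (m + 1))]
            · simp [hhl]
            · intro j _ hj
              rw [triBlock_below h s x (Fin.lt_last_iff_ne_last.mpr hj), zero_mul]
            · simp
          rw [h1, h2]
          have h3 : C (x i / hl) * C hl = C (x i) := by rw [← C_mul, div_mul_cancel₀ _ hl0]
          simp only [C_neg, C_add, C_mul, sub_neg_eq_add, neg_neg]
          linear_combination -(C (g.coeff (m + 1))) * h3
      | cast j =>
        rw [bidiagLast_castSucc]
        have hlast : charmatrix M (Fin.last _) j.castSucc =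
            -C (if j = Fin.last m then hl else 0) := by
          rw [charmatrix_apply_ne _ _ _ (Fin.castSucc_lt_last j).ne', hM, mul_comp_castSucc]
          congr 2
          split_ifs with hj
          · subst hj; simp [hhl]
          · rw [triBlock_below]
            rw [Fin.lt_def]
            have : (j : ℕ) ≠ m := fun hh => hj (Fin.ext (by simpa using hh))
            simp; omega
        rw [hlast]
        induction i using Fin.lastCases with
        | last =>
          simp only [Fin.lastCases_last, zero_mul, add_zero, hlast, (Fin.castSucc_lt_last j).ne',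
            if_false]
          by_cases hj : j = Fin.last m
          · subst hj
            simp [he, hhl]
          · have : Fin.last (m + 1) ≠ j.succ := fun hh => hj (Fin.succ_inj.mp (by simpa using hh.symm))
            simp [hj, this]
        | cast i =>
          simp only [Fin.lastCases_castSucc]
          by_cases hj : j = Fin.last m
          · subst hj
            by_cases hi : i = Fin.last m
            · subst hi
              rw [charmatrix_apply_eq, hM, mul_comp_castSucc, Fin.succ_last, triBlock_castSucc_last,
                if_pos rfl, if_pos rfl]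
              have h3 : C (x (Fin.last m) / hl) * C hl = C (x (Fin.last m)) := by
                rw [← C_mul, div_mul_cancel₀ _ hl0]
              simp only [hd, Fin.snoc_last, C_0, sub_zero, C_neg]
              linear_combination h3
            · have hne : (Fin.castSucc i : Fin (m + 2)) ≠ (Fin.last m).castSucc := by simpa using hi
              rw [charmatrix_apply_ne _ _ _ hne, hM, mul_comp_castSucc, Fin.succ_last,
                triBlock_castSucc_last, if_pos rfl, if_neg hne,
                if_neg (Fin.castSucc_lt_last i).ne]
              have h3 : C (x i / hl) * C hl = C (x i) := by rw [← C_mul, div_mul_cancel₀ _ hl0]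
              simp only [C_neg]
              linear_combination h3
          · have hjm : (j : ℕ) < m := Fin.val_lt_last hj
            have hcs : j.succ = (⟨(j : ℕ) + 1, by omega⟩ : Fin (m + 1)).castSucc := Fin.ext (by simp)
            rw [if_neg hj, C_0, neg_zero, mul_zero, add_zero]
            by_cases hi : i = j
            · subst hi
              rw [charmatrix_apply_eq, hM, mul_comp_castSucc, hcs, triBlock_castSucc, if_pos rfl,
                if_neg (by simp [Fin.ext_iff])]
              have : (i : Fin (m + 1)) = (⟨i, hjm⟩ : Fin m).castSucc := rfl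
              simp only [hd, Fin.val_castSucc]
              rw [dif_pos trivial]
              conv_rhs => rw [this, Fin.snoc_castSucc]
            · have hne : (Fin.castSucc i : Fin (m + 2)) ≠ j.castSucc := by simpa using hi
              rw [charmatrix_apply_ne _ _ _ hne, hM, mul_comp_castSucc, hcs, triBlock_castSucc,
                if_neg hne]
              simp only [he, Fin.val_castSucc, Fin.ext_iff, Fin.val_succ]
              by_cases hij : (i : ℕ) = j + 1
              · rw [if_pos hij, if_pos hij]
                congr 2
              · rw [if_neg hij, if_neg hij, dif_neg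
                  (fun hh => hi (Fin.ext (by omega))), C_0, neg_zero]
    have hdet : M.charpoly = (E * charmatrix M).det := by rw [det_mul, hdetE, one_mul, Matrix.charpoly]
    rw [hdet, hN, det_bidiagLast]
    simp only [add_mul, sum_add_distrib]
    rw [show (∑ i : Fin (m + 2), Fin.lastCases (motive := fun _ => F[X]) X
        (fun a => C (-(x a / hl)) * X) i * W i) =
      X * (W (Fin.last _) + ∑ i : Fin (m + 1), C (-(x i / hl)) * W i.castSucc) by
        rw [Fin.sum_univ_castSucc, mul_add, mul_sum, add_comm]
        congr 1
        · simp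
        · exact sum_congr rfl fun i _ => by simp; ring]
  have hWdeg : ∀ i : Fin (m + 2), (W i).natDegree = (i : ℕ) ∧ W i ≠ 0 := by
    intro i
    have hne : ∀ j : Fin (m + 1), (if (j : ℕ) < (i : ℕ) then d j else e j) ≠ 0 := by
      intro j
      split_ifs
      · exact X_sub_C_ne_zero _
      · simp [he, h0]
    refine ⟨?_, prod_ne_zero_iff.mpr fun j _ => hne j⟩
    rw [hW, natDegree_prod _ _ fun j _ => hne j]
    have : ∀ j : Fin (m + 1), (if (j : ℕ) < (i : ℕ) then d j else e j).natDegree =
        if (j : ℕ) < (i : ℕ) then 1 else 0 := fun j => by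
      split_ifs
      · exact natDegree_X_sub_C _
      · exact natDegree_C _
    simp only [this]
    rw [Fin.sum_univ_eq_sum_range (fun j : ℕ => if j < (i : ℕ) then 1 else 0) (m + 1),
      Finset.sum_boole, Nat.cast_id,
      show (range (m + 1)).filter (fun j => j < (i : ℕ)) = range (i : ℕ) by
        ext a; simp only [mem_filter, mem_range]; omega, card_range]
  set r := f - ∑ i, C (β i) * W i - X * W (Fin.last _) with hr
  have hA0 : (∑ i, C (β i) * W i).coeff 0 = f.coeff 0 := by
    have h1 := key 0
    have h2 := det_eq_sign_charpoly_coeff (triBlock h s (0 : Fin (m + 1) → F) * compMat (m := m) g)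
    rw [det_mul, det_triBlock, det_comp g hg hdg, h1, Fintype.card_fin] at h2
    rw [hc]
    have h3 : ((-1 : F) ^ (m + 2)) ≠ 0 := pow_ne_zero _ (by simp)
    refine mul_left_cancel₀ h3 ?_
    rw [coeff_add, mul_coeff_zero X, coeff_X_zero, zero_mul, add_zero] at h2
    linear_combination -h2
  have hr0 : r.coeff 0 = 0 := by simp [hr, hA0]
  obtain ⟨q, hq⟩ := X_dvd_iff.mpr hr0
  have hqdeg : q.natDegree ≤ m := by
    have hWl : (W (Fin.last (m + 1))).Monic := by
      refine monic_prod_of_monic _ _ fun j _ => ?_
      rw [if_pos (by simp [Fin.val_last]; omega)]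
      exact monic_X_sub_C _
    have h1 : r.natDegree ≤ m + 1 := by
      rw [natDegree_le_iff_coeff_eq_zero]
      intro N hN
      have hA : (∑ i, C (β i) * W i).coeff N = 0 := by
        rw [finset_sum_coeff]
        refine sum_eq_zero fun i _ => ?_
        rw [coeff_C_mul, coeff_eq_zero_of_natDegree_lt (by rw [(hWdeg i).1]; omega), mul_zero]
      obtain ⟨N', rfl⟩ : ∃ N', N = N' + 1 := ⟨N - 1, by omega⟩
      rw [hr, coeff_sub, coeff_sub, hA, coeff_X_mul, sub_zero]
      rcases (Nat.succ_le_of_lt hN).eq_or_lt with hE | hlt
      · have hN' : N' = m + 1 := by omega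
        subst hN'
        have hWc := hWl.coeff_natDegree
        rw [(hWdeg _).1, Fin.val_last] at hWc
        rw [hWc, show m + 1 + 1 = f.natDegree by omega, hf.coeff_natDegree, sub_self]
      · rw [coeff_eq_zero_of_natDegree_lt (by omega), coeff_eq_zero_of_natDegree_lt
          (by rw [(hWdeg _).1, Fin.val_last]; omega), sub_self]
    by_cases hq0 : q = 0
    · simp [hq0]
    rw [hq, natDegree_X_mul hq0] at h1
    omega
  obtain ⟨u, hu⟩ := exists_sum_smul_eq (fun i => W i.castSucc) (fun i => (hWdeg _).1)
    (fun i => (hWdeg _).2) q hqdeg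
  refine ⟨fun i => -(u i * hl), ?_⟩
  have hchar : (triBlock h s (fun i => -(u i * hl)) * compMat (m := m) g).charpoly = f := by
    rw [key]
    have : ∀ i, -((-(u i * hl)) / hl) = u i := fun i => by field_simp
    simp only [this]
    rw [← hu, mul_add, ← hq, hr]
    ring
  refine ⟨hchar, ?_⟩
  have htr := trace_eq_neg_charpoly_coeff (triBlock h s (fun i => -(u i * hl)) * compMat (m := m) g)
  rw [hchar, Fintype.card_fin, show m + 2 - 1 = m + 1 from rfl] at htr
  have hdiag : (triBlock h s (fun i => -(u i * hl)) * compMat (m := m) g).trace =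
      ∑ j, s j + -(u (Fin.last m) * hl) - hl * g.coeff (m + 1) := by
    rw [Matrix.trace, Fin.sum_univ_castSucc, Fin.sum_univ_castSucc]
    simp only [diag_apply, mul_comp_castSucc, mul_comp_last]
    rw [Fin.succ_last, triBlock_castSucc_last]
    have h1 : ∀ j : Fin m, triBlock h s (fun i => -(u i * hl)) j.castSucc.castSucc j.castSucc.succ =
        s j := by
      intro j
      rw [← Fin.castSucc_succ, triBlock_castSucc, if_neg (by simp [Fin.ext_iff]),
        dif_pos (by simp)]
      congr 1
    simp only [h1]
    rw [Finset.sum_eq_single (Fin.last (m + 1))]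
    · simp [hhl]; ring
    · intro j _ hj
      rw [triBlock_below h s _ (Fin.lt_last_iff_ne_last.mpr hj), zero_mul]
    · simp
  linear_combination htr - hdiag

theorem hasCyclic_triBlock_mul_comp (g : F[X]) (h : Fin (m + 2) → F) (h0 : ∀ i, h i ≠ 0)
    (s : Fin m → F) (x : Fin (m + 1) → F) : HasCyclic (triBlock h s x * compMat (m := m) g) := by
  refine hasCyclic_of_hessenberg (m := m + 1) _ (fun i j hij => ?_) fun j => ?_
  · induction j using Fin.lastCases with
    | last => simp at hij; omega
    | cast j =>
      rw [mul_comp_castSucc, triBlock_below]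
      rw [Fin.lt_def]
      simpa using hij
  · rw [mul_comp_castSucc, triBlock_diag]
    exact h0 _

theorem zero_of_vecMul_comp {g : F[X]} {u : Fin (m + 2) → F} (hu0 : u 0 = 0) {a : F}
    (hu : u ᵥ* compMat (m := m) g = a • u) : u = 0 := by
  funext i
  induction i using Fin.induction with
  | zero => exact hu0
  | succ j ih =>
    have h := congrFun hu j.castSucc
    rw [Pi.smul_apply, ih, Pi.zero_apply, smul_zero, vecMul, dotProduct,
      Finset.sum_eq_single j.succ] at h
    · simpa [compMat, Fin.ext_iff] using h
    · intro a _ ha
      simp [compMat, ha]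
    · simp

theorem zero_of_comp_mulVec {g : F[X]} {w : Fin (m + 2) → F} (hwl : w (Fin.last _) = 0) {a : F}
    (hw : w = a • (compMat (m := m) g *ᵥ w)) : w = 0 := by
  funext i
  induction i using Fin.reverseInduction with
  | last => exact hwl
  | cast j ih =>
    have hh : w j.succ = 0 := ih
    have hval : (compMat (m := m) g *ᵥ w) j.succ = w j.castSucc := by
      rw [mulVec, dotProduct, Fin.sum_univ_castSucc, hwl, mul_zero, add_zero,
        Finset.sum_eq_single j]
      · simp [compMat, Fin.ext_iff]
      · intro b _ hb
        have : (j : ℕ) ≠ b := fun h => hb (Fin.ext h.symm)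
        simp [compMat, Fin.ext_iff, this]
      · simp
    have := congrFun hw j.succ
    rw [Pi.smul_apply, hval, hh, smul_eq_mul] at this
    rcases mul_eq_zero.mp this.symm with ha | hz
    · have := congrFun hw j.castSucc
      simpa [ha] using this
    · exact hz

end CfsgLib.PSLCover
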