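import Cfsg.Agent.Lib.PSLCover.Compose

/-!
Chains of cyclic blocks with descending characteristic polynomials, ending in a scalar block.
-/

set_option autoImplicit false
set_option linter.style.haveILetI false
set_option linter.unusedSectionVars false

namespace CfsgLib.PSLCover

open Matrix Polynomial

variable {F : Type*} [Field F] {ι κ : Type*} [Fintype ι] [DecidableEq ι] [Fintype κ] [DecidableEq κ]

/-- Reindexing of invertible matrices. -/
def reindexGL (e : ι ≃ κ) : GL ι F ≃* GL κ F :=
  Units.mapEquiv (Matrix.reindexAlgEquiv F F e).toMulEquiv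

@[simp] theorem coe_reindexGL (e : ι ≃ κ) (A : GL ι F) :
    ((reindexGL e A : GL κ F) : Matrix κ κ F) = Matrix.reindex e e (A : Matrix ι ι F) := rfl

theorem det_reindexGL (e : ι ≃ κ) (A : GL ι F) :
    GeneralLinearGroup.det (reindexGL e A) = GeneralLinearGroup.det A :=
  Units.ext (Matrix.det_reindex_self e _)

theorem det_blockGL (A : GL ι F) (B : GL κ F) :
    GeneralLinearGroup.det (blockGL A B) = GeneralLinearGroup.det A * GeneralLinearGroup.det B :=
  Units.ext (det_fromBlocks_zero₂₁ _ _ _)

theorem aeval_fromBlocks_diag (A : Matrix ι ι F) (B : Matrix κ κ F) (p : F[X]) :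
    aeval (fromBlocks A 0 0 B) p = fromBlocks (aeval A p) 0 0 (aeval B p) := by
  induction p using Polynomial.induction_on' with
  | add p q hp hq => simp [hp, hq, fromBlocks_add]
  | monomial n a =>
    simp only [aeval_monomial, ← Algebra.smul_def]
    have : fromBlocks A 0 0 B ^ n = fromBlocks (A ^ n) 0 0 (B ^ n) := by
      induction n with
      | zero => simp
      | succ n ih => simp [pow_succ, ih, fromBlocks_multiply]
    simp [this, fromBlocks_smul]

/-- A chain of cyclic blocks of size at least two; `μ` is the polynomial of the first block. -/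
inductive IsChain (F : Type*) [Field F] : {n : ℕ} → GL (Fin n) F → F[X] → Prop
  | nil (A : GL (Fin 0) F) : IsChain F A 1
  | cons {k m n : ℕ} (C : GL (Fin (k + 2)) F) (K : GL (Fin m) F) (μ' : F[X])
      (A : GL (Fin n) F) (e : Fin (k + 2) ⊕ Fin m ≃ Fin n) (g : GL (Fin n) F)
      (hC : HasCyclic (C : Matrix (Fin (k + 2)) (Fin (k + 2)) F))
      (hK : IsChain F K μ') (hdvd : μ' ∣ (C : Matrix (Fin (k + 2)) (Fin (k + 2)) F).charpoly)
      (hA : A = g * reindexGL e (blockGL C K) * g⁻¹) :
      IsChain F A (C : Matrix (Fin (k + 2)) (Fin (k + 2)) F).charpoly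

/-- The scalar matrix as a unit. -/
def scalarGL (ι : Type*) [Fintype ι] [DecidableEq ι] (a : Fˣ) : GL ι F :=
  Units.map (Matrix.scalar ι).toMonoidHom a

@[simp] theorem coe_scalarGL (a : Fˣ) :
    ((scalarGL ι a : GL ι F) : Matrix ι ι F) = (a : F) • 1 := by
  ext i j
  simp [scalarGL, Matrix.scalar_apply, Matrix.diagonal, Matrix.one_apply]

open Module in
theorem exists_block_decomp {n : ℕ} (A : GL (Fin n) F) :
    ∃ (k m : ℕ) (C : GL (Fin k) F) (K : GL (Fin m) F) (e : Fin k ⊕ Fin m ≃ Fin n) (g : GL (Fin n) F),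
      A = g * reindexGL e (blockGL C K) * g⁻¹ ∧ HasCyclic (C : Matrix (Fin k) (Fin k) F) ∧
      k = (minpoly F (A : Matrix (Fin n) (Fin n) F)).natDegree ∧
      (C : Matrix (Fin k) (Fin k) F).charpoly = minpoly F (A : Matrix (Fin n) (Fin n) F) ∧
      minpoly F (K : Matrix (Fin m) (Fin m) F) ∣ minpoly F (A : Matrix (Fin n) (Fin n) F) := by
  classical
  set E : End F (Fin n → F) := toLin' (A : Matrix (Fin n) (Fin n) F) with hE
  have hμ : minpoly F E = minpoly F (A : Matrix (Fin n) (Fin n) F) := Matrix.minpoly_toLin' _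
  obtain ⟨v, W, hli, hW, hc, hCrank⟩ := exists_invariant_compl E
  set k := (minpoly F E).natDegree with hk
  set U := orbitSpan E v with hU
  have hUinv : ∀ x ∈ U, E x ∈ U := by
    intro x hx
    induction hx using Submodule.span_induction with
    | mem x hx =>
      obtain ⟨i, rfl⟩ := hx
      show E ((E ^ i) v) ∈ U
      rw [← Module.End.mul_apply, ← pow_succ']
      exact pow_mem_orbitSpan E v (i + 1)
    | zero => rw [map_zero]; exact zero_mem _
    | add a b _ _ ha hb => rw [map_add]; exact add_mem ha hb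
    | smul c a _ ha => rw [map_smul]; exact Submodule.smul_mem _ c ha
  let EU : End F U := E.restrict hUinv
  let EW : End F W := E.restrict hW
  let bU := (Module.finBasisOfFinrankEq F U hCrank)
  let bW := Module.finBasis F W
  set m := Module.finrank F W
  let Φ : (U × W) ≃ₗ[F] (Fin n → F) := Submodule.prodEquivOfIsCompl U W hc
  let b : Basis (Fin k ⊕ Fin m) F (Fin n → F) := (bU.prod bW).map Φ
  let e : Fin k ⊕ Fin m ≃ Fin n := b.indexEquiv (Pi.basisFun F (Fin n))
  set Cm : Matrix (Fin k) (Fin k) F := LinearMap.toMatrix bU bU EU with hCm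
  set Km : Matrix (Fin m) (Fin m) F := LinearMap.toMatrix bW bW EW with hKm
  have hM : LinearMap.toMatrix b b E = fromBlocks Cm 0 0 Km := by
    ext i j
    rw [LinearMap.toMatrix_apply]
    have hb : ∀ x, b.repr (Φ x) i = (bU.prod bW).repr x i := fun x => by
      simp [b, Basis.map_repr]
    have hEΦ : E (b j) = Φ (EU ((bU.prod bW) j).1, EW ((bU.prod bW) j).2) := by
      simp [b, Φ, EU, EW, ← map_add]
    rw [hEΦ, hb]
    cases i <;> cases j <;> simp [hCm, hKm, LinearMap.toMatrix_apply]
  have hinv : Function.Injective E := fun x y hxy => by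
    have h1 := congrArg (fun z => ((A⁻¹ : GL (Fin n) F) : Matrix (Fin n) (Fin n) F) *ᵥ z) hxy
    simpa [hE, toLin'_apply, mulVec_mulVec, ← Units.val_mul] using h1
  have hdet : (fromBlocks Cm 0 0 Km).det ≠ 0 := by
    rw [← hM, LinearMap.det_toMatrix]
    exact (LinearMap.isUnit_det E ((Module.End.isUnit_iff E).mpr
      ⟨hinv, LinearMap.injective_iff_surjective.mp hinv⟩)).ne_zero
  rw [det_fromBlocks_zero₂₁] at hdet
  let C : GL (Fin k) F := GeneralLinearGroup.mkOfDetNeZero Cm (left_ne_zero_of_mul hdet)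
  let K : GL (Fin m) F := GeneralLinearGroup.mkOfDetNeZero Km (right_ne_zero_of_mul hdet)
  let b' : Basis (Fin n) F (Fin n → F) := b.reindex e
  let g : GL (Fin n) F :=
    ⟨(Pi.basisFun F (Fin n)).toMatrix b', b'.toMatrix (Pi.basisFun F (Fin n)),
      Basis.toMatrix_mul_toMatrix_flip _ _, Basis.toMatrix_mul_toMatrix_flip _ _⟩
  have hCcyc : HasCyclic Cm := by
    rw [hasCyclic_iff_orbitSpan]
    have hv : v ∈ U := by simpa using pow_mem_orbitSpan E v 0
    refine ⟨bU.equivFun ⟨v, hv⟩, ?_⟩
    have hconj : ∀ i : ℕ, ((toLin' Cm) ^ i) (bU.equivFun ⟨v, hv⟩) =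
        bU.equivFun ((EU ^ i) ⟨v, hv⟩) := by
      intro i
      induction i with
      | zero => simp
      | succ i ih =>
        rw [pow_succ', Module.End.mul_apply, ih, pow_succ', Module.End.mul_apply, toLin'_apply]
        exact LinearMap.toMatrix_mulVec_repr bU bU EU _
    rw [orbitSpan, eq_top_iff]
    intro z _
    have hz : ((bU.equivFun.symm z : U) : Fin n → F) ∈ orbitSpan E v := (bU.equivFun.symm z).2
    have himg : (Submodule.span F (Set.range fun i : ℕ => (EU ^ i) ⟨v, hv⟩)).map U.subtype = U := by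
      rw [Submodule.map_span, ← Set.range_comp]
      show Submodule.span F _ = Submodule.span F _
      congr 1
      ext x
      have hpr : ∀ i : ℕ, ((EU ^ i) ⟨v, hv⟩ : U).1 = (E ^ i) v := fun i => by
        induction i with
        | zero => simp
        | succ i ih =>
          rw [pow_succ', Module.End.mul_apply, pow_succ', Module.End.mul_apply, ← ih]
          rfl
      simp only [Set.mem_range, Function.comp_apply, Submodule.subtype_apply, hpr]
    have hz' : bU.equivFun.symm z ∈ Submodule.span F (Set.range fun i : ℕ => (EU ^ i) ⟨v, hv⟩) := by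
      obtain ⟨y, hy, hy'⟩ := Submodule.mem_map.mp ((SetLike.ext_iff.mp himg _).mpr hz)
      rwa [Subtype.ext hy'] at hy
    have := Submodule.mem_map_of_mem (f := bU.equivFun.toLinearMap) hz'
    rw [Submodule.map_span, ← Set.range_comp, LinearEquiv.coe_coe, LinearEquiv.apply_symm_apply] at this
    simp only [hconj]
    exact this
  have hsame : ∀ p : F[X], aeval (A : Matrix (Fin n) (Fin n) F) p = 0 →
      aeval Cm p = 0 ∧ aeval Km p = 0 := by
    intro p hp
    have hpE : aeval E p = 0 := by
      show aeval (Matrix.toLinAlgEquiv' (A : Matrix (Fin n) (Fin n) F)) p = 0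
      rw [aeval_algHom_apply, hp, map_zero]
    have h1 : aeval (LinearMap.toMatrix b b E) p = 0 := by
      show aeval (LinearMap.toMatrixAlgEquiv b E) p = 0
      rw [aeval_algHom_apply, hpE, map_zero]
    rw [hM, aeval_fromBlocks_diag] at h1
    exact ⟨congrArg Matrix.toBlocks₁₁ h1, congrArg Matrix.toBlocks₂₂ h1⟩
  refine ⟨k, m, C, K, e, g, ?_, hCcyc, by rw [hk, hμ], ?_, ?_⟩
  · refine Units.ext ?_
    have hre : Matrix.reindex e e (fromBlocks Cm 0 0 Km) = LinearMap.toMatrix b' b' E := by
      rw [← hM]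
      ext i j
      simp [b', LinearMap.toMatrix_apply]
    show (A : Matrix (Fin n) (Fin n) F) = (Pi.basisFun F (Fin n)).toMatrix b' *
      Matrix.reindex e e (fromBlocks Cm 0 0 Km) * b'.toMatrix (Pi.basisFun F (Fin n))
    rw [hre, basis_toMatrix_mul_linearMap_toMatrix_mul_basis_toMatrix, hE,
      LinearMap.toMatrix_eq_toMatrix', LinearMap.toMatrix'_toLin']
  · have hd : (minpoly F Cm).natDegree ≤ Cm.charpoly.natDegree :=
      natDegree_le_of_dvd (Matrix.minpoly_dvd_charpoly Cm) (charpoly_monic Cm).ne_zero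
    have hdv : minpoly F Cm ∣ minpoly F (A : Matrix (Fin n) (Fin n) F) :=
      minpoly.dvd F _ (hsame _ (minpoly.aeval F _)).1
    have hdegC : Cm.charpoly.natDegree = k := by simp [charpoly_natDegree_eq_dim]
    have hkle : k ≤ (minpoly F Cm).natDegree := by
      by_contra hlt
      push Not at hlt
      obtain ⟨w, hw⟩ := (hasCyclic_iff_orbitSpan Cm).mp hCcyc
      have haev : aeval (toLin' Cm) (minpoly F Cm) = 0 := by
        rw [← Matrix.minpoly_toLin' Cm, minpoly.aeval]
      have h1 := Submodule.finrank_mono (span_pow_of_cyclic (toLin' Cm) (minpoly F Cm)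
        (minpoly.monic (Algebra.IsIntegral.isIntegral Cm)) haev hw)
      have h2 := finrank_range_le_card (R := F)
        (fun i : Fin (minpoly F Cm).natDegree => ((toLin' Cm) ^ (i : ℕ)) w)
      rw [Set.finrank] at h2
      simp at h1 h2
      omega
    have h1 : minpoly F Cm = Cm.charpoly := by
      refine (eq_of_monic_of_dvd_of_natDegree_le ?_ ?_ (Matrix.minpoly_dvd_charpoly Cm) ?_).symm
      · exact minpoly.monic (Algebra.IsIntegral.isIntegral _)
      · exact charpoly_monic _
      · omega
    show Cm.charpoly = _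
    rw [← h1]
    refine (eq_of_monic_of_dvd_of_natDegree_le ?_ ?_ hdv ?_).symm
    · exact minpoly.monic (Algebra.IsIntegral.isIntegral _)
    · exact minpoly.monic (Algebra.IsIntegral.isIntegral _)
    · rw [← hμ, ← hk]
      exact hkle
  · exact minpoly.dvd F _ (hsame _ (minpoly.aeval F _)).2

theorem minpoly_conj (g A : GL ι F) :
    minpoly F ((g * A * g⁻¹ : GL ι F) : Matrix ι ι F) = minpoly F (A : Matrix ι ι F) :=
  minpoly.algEquiv_eq (MulSemiringAction.toAlgEquiv F (Matrix ι ι F) (ConjAct.toConjAct g))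
    (A : Matrix ι ι F)

theorem minpoly_reindex (e : ι ≃ κ) (A : Matrix ι ι F) :
    minpoly F (Matrix.reindex e e A) = minpoly F A :=
  minpoly.algEquiv_eq (Matrix.reindexAlgEquiv F F e) A

/-- Every invertible matrix is a chain followed by a scalar block. -/
theorem exists_chain_scalar {n : ℕ} (A : GL (Fin n) F) :
    ∃ (k d : ℕ) (K : GL (Fin k) F) (μ : F[X]) (a : Fˣ) (e : Fin k ⊕ Fin d ≃ Fin n) (g : GL (Fin n) F),
      A = g * reindexGL e (blockGL K (scalarGL (Fin d) a)) * g⁻¹ ∧ IsChain F K μ ∧
      (2 ≤ (minpoly F (A : Matrix (Fin n) (Fin n) F)).natDegree →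
        μ = minpoly F (A : Matrix (Fin n) (Fin n) F)) ∧
      μ ∣ minpoly F (A : Matrix (Fin n) (Fin n) F) := by
  induction n using Nat.strong_induction_on with
  | _ n ih =>
    by_cases hdeg : (minpoly F (A : Matrix (Fin n) (Fin n) F)).natDegree ≤ 1
    · rcases Nat.eq_zero_or_pos n with hn | hn
      · subst hn
        exact ⟨0, 0, 1, 1, 1, finSumFinEquiv, 1,
          Units.ext (Subsingleton.elim _ _), IsChain.nil 1, fun h => absurd h (by omega), one_dvd _⟩
      have hA : ∃ a : F, (A : Matrix (Fin n) (Fin n) F) = a • 1 := by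
        have : Nonempty (Fin n) := ⟨⟨0, hn⟩⟩
        have hm := minpoly.monic (Algebra.IsIntegral.isIntegral (R := F) (A : Matrix (Fin n) (Fin n) F))
        have hpos := minpoly.natDegree_pos
          (Algebra.IsIntegral.isIntegral (R := F) (A : Matrix (Fin n) (Fin n) F))
        have h1 := hm.eq_X_add_C (by omega)
        have h2 := minpoly.aeval F (A : Matrix (Fin n) (Fin n) F)
        rw [h1, map_add, aeval_X, aeval_C, Algebra.algebraMap_eq_smul_one, add_eq_zero_iff_eq_neg,
          ← neg_smul] at h2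
        exact ⟨_, h2⟩
      obtain ⟨a, ha⟩ := hA
      have ha0 : a ≠ 0 := by
        rintro rfl
        haveI : Nonempty (Fin n) := ⟨⟨0, hn⟩⟩
        refine ((Matrix.isUnit_iff_isUnit_det _).mp A.isUnit).ne_zero ?_
        rw [ha, zero_smul, det_zero]
      refine ⟨0, n, 1, 1, Units.mk0 a ha0, (finSumFinEquiv (m := 0)).trans (finCongr (Nat.zero_add n)),
        1, Units.ext ?_, IsChain.nil 1, fun h => absurd h (by omega), one_dvd _⟩
      rw [one_mul, inv_one, mul_one, coe_reindexGL, coe_blockGL, coe_scalarGL, ha]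
      have h00 : ((1 : GL (Fin 0) F) : Matrix (Fin 0) (Fin 0) F) = a • 1 := Subsingleton.elim _ _
      rw [h00, Units.val_mk0, Matrix.reindex_apply]
      ext i j
      have hfb : fromBlocks (a • (1 : Matrix (Fin 0) (Fin 0) F)) 0 0 (a • 1 : Matrix (Fin n) (Fin n) F) =
          a • (1 : Matrix (Fin 0 ⊕ Fin n) (Fin 0 ⊕ Fin n) F) := by
        rw [← fromBlocks_one, fromBlocks_smul, smul_zero, smul_zero]
      rw [hfb]
      simp [Matrix.one_apply, fromBlocks_one]
    push Not at hdeg
    obtain ⟨k, m, C, K, e, g, hA, hC, hk, hchar, hdvd⟩ := exists_block_decomp A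
    have hkm : k + m = n := by simpa using Fintype.card_congr e
    have hm : m < n := by omega
    obtain ⟨k', d, K', μ', a, e', g', hK, hch, -, hdvd'⟩ := ih m hm K
    obtain ⟨r, rfl⟩ : ∃ r, k = r + 2 := ⟨k - 2, by omega⟩
    let A0 : GL (Fin (r + 2 + k')) F := reindexGL finSumFinEquiv (blockGL C K')
    have hchain : IsChain F A0 (C : Matrix (Fin (r + 2)) (Fin (r + 2)) F).charpoly :=
      IsChain.cons C K' μ' A0 finSumFinEquiv 1 hC hch (hchar ▸ hdvd'.trans hdvd) (by simp [A0])
    let e2 : Fin (r + 2 + k') ⊕ Fin d ≃ Fin n :=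
      ((finSumFinEquiv.symm.sumCongr (Equiv.refl (Fin d))).trans
        (Equiv.sumAssoc (Fin (r + 2)) (Fin k') (Fin d))).trans
          (((Equiv.refl (Fin (r + 2))).sumCongr e').trans e)
    refine ⟨r + 2 + k', d, A0, _, a, e2, g * reindexGL e (blockGL 1 g'), ?_, hchain, fun _ => hchar,
      hchar ▸ dvd_refl _⟩
    have hb : blockGL C K = blockGL 1 g' * blockGL C (reindexGL e' (blockGL K' (scalarGL (Fin d) a))) *
        (blockGL 1 g')⁻¹ := by rw [← blockGL_conj, one_mul, inv_one, mul_one, ← hK]
    have he2 : reindexGL e (blockGL C (reindexGL e' (blockGL K' (scalarGL (Fin d) a)))) =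
        reindexGL e2 (blockGL A0 (scalarGL (Fin d) a)) := by
      refine Units.ext ?_
      simp only [coe_reindexGL, coe_blockGL, A0]
      ext i j
      rcases hx : e.symm i with i1 | i2
      · rcases hy : e.symm j with j1 | j2
        · simp [e2, hx, hy]
        · rcases hy' : e'.symm j2 with j3 | j4 <;> simp [e2, hx, hy, hy']
      · rcases hx' : e'.symm i2 with i3 | i4 <;> rcases hy : e.symm j with j1 | j2
        · simp [e2, hx, hx', hy]
        · rcases hy' : e'.symm j2 with j3 | j4 <;> simp [e2, hx, hx', hy, hy']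
        · simp [e2, hx, hx', hy]
        · rcases hy' : e'.symm j2 with j3 | j4 <;> simp [e2, hx, hx', hy, hy']
    rw [hA, hb, map_mul, map_mul, map_inv, he2]
    group

end CfsgLib.PSLCover
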