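import Cfsg.Agent.Lib.PSLCover.CoreBlock
import Cfsg.Agent.Lib.KnownSimple.RegUnip.Avoid

/-!
Coupling two pairs along a block sum.
-/

set_option autoImplicit false
set_option linter.style.haveILetI false
set_option linter.unusedSectionVars false

namespace CfsgLib.PSLCover

open Matrix Finset Polynomial

variable {F : Type*} [Field F] {ι κ : Type*} [Fintype ι] [DecidableEq ι] [Fintype κ] [DecidableEq κ]

/-- The block sum of two invertible matrices. -/
def blockGL (A : GL ι F) (B : GL κ F) : GL (ι ⊕ κ) F where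
  val := fromBlocks (A : Matrix ι ι F) 0 0 (B : Matrix κ κ F)
  inv := fromBlocks ((A⁻¹ : GL ι F) : Matrix ι ι F) 0 0 ((B⁻¹ : GL κ F) : Matrix κ κ F)
  val_inv := by simp [fromBlocks_multiply]
  inv_val := by simp [fromBlocks_multiply]

/-- An upper unitriangular block matrix. -/
def shearGL (Y : Matrix ι κ F) : GL (ι ⊕ κ) F where
  val := fromBlocks 1 Y 0 1
  inv := fromBlocks 1 (-Y) 0 1
  val_inv := by simp [fromBlocks_multiply]
  inv_val := by simp [fromBlocks_multiply]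

@[simp] theorem coe_blockGL (A : GL ι F) (B : GL κ F) :
    ((blockGL A B : GL (ι ⊕ κ) F) : Matrix (ι ⊕ κ) (ι ⊕ κ) F) =
      fromBlocks (A : Matrix ι ι F) 0 0 (B : Matrix κ κ F) := rfl

@[simp] theorem coe_shearGL (Y : Matrix ι κ F) :
    ((shearGL Y : GL (ι ⊕ κ) F) : Matrix (ι ⊕ κ) (ι ⊕ κ) F) = fromBlocks 1 Y 0 1 := rfl

@[simp] theorem coe_shearGL_inv (Y : Matrix ι κ F) :
    (((shearGL Y)⁻¹ : GL (ι ⊕ κ) F) : Matrix (ι ⊕ κ) (ι ⊕ κ) F) = fromBlocks 1 (-Y) 0 1 := rfl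

theorem blockGL_mul (A A' : GL ι F) (B B' : GL κ F) :
    blockGL A B * blockGL A' B' = blockGL (A * A') (B * B') := by
  refine Units.ext ?_
  simp [fromBlocks_multiply]

theorem blockGL_conj (A g : GL ι F) (B g' : GL κ F) :
    blockGL (g * A * g⁻¹) (g' * B * g'⁻¹) = blockGL g g' * blockGL A B * (blockGL g g')⁻¹ := by
  rw [eq_mul_inv_iff_mul_eq, blockGL_mul, blockGL_mul]
  simp

theorem exists_eigvec_of_isRoot {X : Matrix ι ι F} {γ : F} (h : X.charpoly.IsRoot γ) :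
    ∃ v : ι → F, v ≠ 0 ∧ X *ᵥ v = γ • v := by
  have hd : (scalar ι γ - X).det = 0 := by rw [← Matrix.eval_charpoly]; exact h
  obtain ⟨v, hv, hv'⟩ := exists_mulVec_eq_zero_iff.mpr hd
  refine ⟨v, hv, ?_⟩
  have hs : scalar ι γ *ᵥ v = γ • v := by ext i; simp [scalar_apply, mulVec_diagonal]
  rw [sub_mulVec, hs, sub_eq_zero] at hv'
  exact hv'.symm

theorem exists_left_eigvec_of_isRoot {X : Matrix ι ι F} {γ : F} (h : X.charpoly.IsRoot γ) :
    ∃ u : ι → F, u ≠ 0 ∧ u ᵥ* X = γ • u := by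
  obtain ⟨u, hu, hu'⟩ := exists_eigvec_of_isRoot (X := Xᵀ) (γ := γ) (by rwa [charpoly_transpose])
  exact ⟨u, hu, by rwa [mulVec_transpose] at hu'⟩

theorem isRoot_of_eigvec {X : Matrix ι ι F} {γ : F} {v : ι → F} (hv : v ≠ 0)
    (h : X *ᵥ v = γ • v) : X.charpoly.IsRoot γ := by
  rw [IsRoot, Matrix.eval_charpoly]
  refine exists_mulVec_eq_zero_iff.mp ⟨v, hv, ?_⟩
  have hs : scalar ι γ *ᵥ v = γ • v := by ext i; simp [scalar_apply, mulVec_diagonal]
  rw [sub_mulVec, hs, h, sub_self]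

theorem isRoot_of_left_eigvec {X : Matrix ι ι F} {γ : F} {u : ι → F} (hu : u ≠ 0)
    (h : u ᵥ* X = γ • u) : X.charpoly.IsRoot γ := by
  rw [← charpoly_transpose]
  exact isRoot_of_eigvec hu (by rwa [mulVec_transpose])

theorem SplitCyc.isRoot_iff {X : Matrix ι ι F} {h : ι → F} (hX : SplitCyc X h) (γ : F) :
    X.charpoly.IsRoot γ ↔ ∃ i, h i = γ := by
  rw [hX.2, isRoot_prod]
  simp [sub_eq_zero, eq_comm]

theorem left_eigvec_detect {X : Matrix ι ι F} {v : ι → F}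
    (hv : Submodule.span F (Set.range fun i : ℕ => (X ^ i) *ᵥ v) = ⊤) {γ : F} {u : ι → F}
    (hu : u ᵥ* X = γ • u) (huv : u ⬝ᵥ v = 0) : u = 0 := by
  have hi : ∀ i : ℕ, u ⬝ᵥ ((X ^ i) *ᵥ v) = 0 := fun i => by
    induction i with
    | zero => rw [pow_zero, one_mulVec]; exact huv
    | succ i ih =>
      rw [pow_succ', ← mulVec_mulVec, dotProduct_mulVec, hu, smul_dotProduct, ih, smul_zero]
  have hall : ∀ z, u ⬝ᵥ z = 0 := by
    intro z
    have hz : z ∈ Submodule.span F (Set.range fun i : ℕ => (X ^ i) *ᵥ v) := hv ▸ Submodule.mem_top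
    induction hz using Submodule.span_induction with
    | mem z hz => obtain ⟨i, rfl⟩ := hz; exact hi i
    | zero => simp
    | add a b _ _ ha hb => rw [dotProduct_add, ha, hb, add_zero]
    | smul c a _ ha => rw [dotProduct_smul, ha, smul_zero]
  funext i
  simpa using hall (Pi.single i 1)

theorem left_eigLine_of_hasCyclic {X : Matrix ι ι F} (h : HasCyclic X) (γ : F) (u u' : ι → F)
    (hu : u ᵥ* X = γ • u) (hu' : u' ᵥ* X = γ • u') (hu0 : u ≠ 0) : ∃ c : F, u' = c • u := by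
  obtain ⟨v, hv⟩ := h
  have hne : u ⬝ᵥ v ≠ 0 := fun h0 => hu0 (left_eigvec_detect hv hu h0)
  refine ⟨(u' ⬝ᵥ v) / (u ⬝ᵥ v), sub_eq_zero.mp (left_eigvec_detect hv (γ := γ) ?_ ?_)⟩
  · rw [sub_vecMul, smul_vecMul, hu, hu', smul_sub, smul_comm]
  · rw [sub_dotProduct, smul_dotProduct, smul_eq_mul, div_mul_cancel₀ _ hne, sub_self]

/-- A cyclic split matrix has one line of eigenvectors per scalar. -/
theorem eigLine_of_hasCyclic {X : Matrix ι ι F} (h : HasCyclic X) : EigLine X := by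
  obtain ⟨v, hv⟩ := h
  intro γ x y hx hy hx0
  have key : ∀ u : ι → F, u ᵥ* X = γ • u → u ⬝ᵥ v = 0 → u = 0 :=
    fun u hu huv => left_eigvec_detect hv hu huv
  set Lk := LinearMap.ker (Matrix.vecMulLinear (X - γ • 1))
  set Rk := LinearMap.ker (toLin' (X - γ • 1))
  have hLle : Module.finrank F Lk ≤ 1 := by
    let φ : Lk →ₗ[F] F :=
      { toFun := fun u => (u : ι → F) ⬝ᵥ v
        map_add' := fun a b => by simp [add_dotProduct]
        map_smul' := fun c a => by simp [smul_dotProduct] }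
    have hφ : Function.Injective φ := (injective_iff_map_eq_zero φ).mpr fun u hu => by
      refine Subtype.ext (key _ ?_ hu)
      have hu2 : (u : ι → F) ᵥ* (X - γ • 1) = 0 := LinearMap.mem_ker.mp u.2
      rw [vecMul_sub, vecMul_smul, vecMul_one, sub_eq_zero] at hu2
      exact hu2
    exact (LinearMap.finrank_le_finrank_of_injective hφ).trans (le_of_eq (Module.finrank_self F))
  have hRle : Module.finrank F Rk ≤ 1 := by
    have h1 := LinearMap.finrank_range_add_finrank_ker (Matrix.vecMulLinear (X - γ • 1))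
    have h2 := LinearMap.finrank_range_add_finrank_ker (toLin' (X - γ • 1))
    have h3 : Module.finrank F (LinearMap.range (toLin' (X - γ • 1))) = (X - γ • 1).rank := by
      rw [toLin'_apply']; rfl
    have h4 : Module.finrank F (LinearMap.range (Matrix.vecMulLinear (X - γ • 1))) = (X - γ • 1).rank := by
      rw [← Matrix.rank_transpose (X - γ • 1), ← mulVecLin_transpose]
      rfl
    have e1 : Module.finrank F Lk = Module.finrank F (LinearMap.ker (Matrix.vecMulLinear (X - γ • 1))) := rfl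
    have e2 : Module.finrank F Rk = Module.finrank F (LinearMap.ker (toLin' (X - γ • 1))) := rfl
    omega
  have hmem : ∀ z, X *ᵥ z = γ • z → z ∈ Rk := fun z hz => by
    rw [LinearMap.mem_ker, toLin'_apply, sub_mulVec, smul_mulVec, one_mulVec, hz, sub_self]
  have hline : Submodule.span F {x} = Rk := by
    refine Submodule.eq_of_le_of_finrank_le
      ((Submodule.span_singleton_le_iff_mem _ _).mpr (hmem x hx)) ?_
    rw [finrank_span_singleton hx0]
    exact hRle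
  obtain ⟨c, hc⟩ := Submodule.mem_span_singleton.mp (hline ▸ hmem y hy)
  exact ⟨c, hc.symm⟩

theorem glue_eigvec {H1 : Matrix ι ι F} {Z : Matrix ι κ F} {H2 : Matrix κ κ F} (z : ι ⊕ κ → F)
    (γ : F) :
    fromBlocks H1 Z 0 H2 *ᵥ z = γ • z ↔
      H1 *ᵥ (z ∘ Sum.inl) + Z *ᵥ (z ∘ Sum.inr) = γ • (z ∘ Sum.inl) ∧
        H2 *ᵥ (z ∘ Sum.inr) = γ • (z ∘ Sum.inr) := by
  rw [fromBlocks_mulVec, zero_mulVec, zero_add]
  constructor
  · intro h
    exact ⟨funext fun i => congrFun h (Sum.inl i), funext fun i => congrFun h (Sum.inr i)⟩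
  · rintro ⟨h1, h2⟩
    funext i
    cases i with
    | inl i => exact congrFun h1 i
    | inr i => exact congrFun h2 i

/-- The root list of a block sum. -/
abbrev sumList (h1 : ι → F) (h2 : κ → F) : ι ⊕ κ → F := Sum.elim h1 h2

theorem exists_isPair_sum_form [Fintype F] {A1 : GL ι F} {A2 : GL κ F} {P1 Q1 : GL ι F} {P2 Q2 : GL κ F}
    {h1 : ι → F} {h2 : κ → F} (hp1 : IsPair A1 P1 Q1 h1) (hp2 : IsPair A2 P2 Q2 h2)
    (hnz : ∀ i, h1 i ≠ 0)
    (hgood : ∀ γ, (∃ i, h1 i = γ) → (∃ j, h2 j = γ) →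
      GoodL (P1 : Matrix ι ι F) ((P1 * Q1 : GL ι F) : Matrix ι ι F) γ ∨
        GoodR (Q2 : Matrix κ κ F) ((P2 * Q2 : GL κ F) : Matrix κ κ F) γ) :
    ∃ P Q : GL (ι ⊕ κ) F, IsPair (blockGL A1 A2) P Q (sumList h1 h2) ∧
      (∀ γ, ((∃ j, h2 j = γ) → GoodL (P2 : Matrix κ κ F) ((P2 * Q2 : GL κ F) : Matrix κ κ F) γ) →
        ((¬∃ j, h2 j = γ) → GoodL (P1 : Matrix ι ι F) ((P1 * Q1 : GL ι F) : Matrix ι ι F) γ) →
        GoodL (P : Matrix (ι ⊕ κ) (ι ⊕ κ) F) ((P * Q : GL (ι ⊕ κ) F) : Matrix (ι ⊕ κ) (ι ⊕ κ) F) γ) ∧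
      (∀ γ, ((∃ i, h1 i = γ) → GoodR (Q1 : Matrix ι ι F) ((P1 * Q1 : GL ι F) : Matrix ι ι F) γ) →
        ((¬∃ i, h1 i = γ) → GoodR (Q2 : Matrix κ κ F) ((P2 * Q2 : GL κ F) : Matrix κ κ F) γ) →
        GoodR (Q : Matrix (ι ⊕ κ) (ι ⊕ κ) F) ((P * Q : GL (ι ⊕ κ) F) : Matrix (ι ⊕ κ) (ι ⊕ κ) F) γ) ∧
      P = blockGL P1 P2 ∧ ∃ Y, Q = shearGL Y * blockGL Q1 Q2 * (shearGL Y)⁻¹ := by
  classical
  obtain ⟨⟨g1, hg1⟩, ⟨g1', hg1'⟩, hs1⟩ := hp1
  obtain ⟨⟨g2, hg2⟩, ⟨g2', hg2'⟩, hs2⟩ := hp2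
  set H1 : Matrix ι ι F := ((P1 * Q1 : GL ι F) : Matrix ι ι F) with hH1
  set H2 : Matrix κ κ F := ((P2 * Q2 : GL κ F) : Matrix κ κ F) with hH2
  -- the coupling block as a linear function of the shear
  let Zf : Matrix ι κ F →ₗ[F] Matrix ι κ F :=
    { toFun := fun Y => (P1 : Matrix ι ι F) * (Y * (Q2 : Matrix κ κ F)) - H1 * Y
      map_add' := fun a b => by simp [Matrix.add_mul, Matrix.mul_add]; abel
      map_smul' := fun c a => by simp [smul_sub] }
  set S : Finset F := (Finset.univ.image h1) ∩ (Finset.univ.image h2) with hS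
  have hfun : ∀ γ : F, γ ∈ S → ∃ (u : ι → F) (w : κ → F), u ᵥ* H1 = γ • u ∧ H2 *ᵥ w = γ • w ∧
      ∃ Y, u ⬝ᵥ (Zf Y *ᵥ w) ≠ 0 := by
    intro γ hγ
    rw [hS, Finset.mem_inter, Finset.mem_image, Finset.mem_image] at hγ
    obtain ⟨⟨i, -, hi⟩, ⟨j, -, hj⟩⟩ := hγ
    obtain ⟨u, hu0, hu⟩ := exists_left_eigvec_of_isRoot ((hs1.isRoot_iff γ).mpr ⟨i, hi⟩)
    obtain ⟨w, hw0, hw⟩ := exists_eigvec_of_isRoot ((hs2.isRoot_iff γ).mpr ⟨j, hj⟩)
    refine ⟨u, w, hu, hw, ?_⟩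
    by_contra! hall
    have hform : ∀ (a : ι → F) (b : κ → F),
        (u ᵥ* (P1 : Matrix ι ι F) ⬝ᵥ a) * (b ⬝ᵥ ((Q2 : Matrix κ κ F) *ᵥ w)) =
          γ * ((u ⬝ᵥ a) * (b ⬝ᵥ w)) := by
      intro a b
      have h0 := hall (vecMulVec a b)
      simp only [Zf, LinearMap.coe_mk, AddHom.coe_mk, sub_mulVec, dotProduct_sub, sub_eq_zero,
        ← mulVec_mulVec, vecMulVec_mulVec, op_smul_eq_smul, mulVec_smul, dotProduct_smul,
        dotProduct_mulVec, hu, smul_dotProduct, smul_eq_mul] at h0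
      rw [dotProduct_mulVec b]
      linear_combination h0
    have hQw : (Q2 : Matrix κ κ F) *ᵥ w ≠ 0 := fun h0 => hw0 (by
      have := congrArg (fun z => ((Q2⁻¹ : GL κ F) : Matrix κ κ F) *ᵥ z) h0
      rwa [mulVec_mulVec, ← Units.val_mul, inv_mul_cancel, Units.val_one, one_mulVec,
        mulVec_zero] at this)
    have huP : u ᵥ* (P1 : Matrix ι ι F) ≠ 0 := fun h0 => hu0 (by
      have := congrArg (fun z => z ᵥ* ((P1⁻¹ : GL ι F) : Matrix ι ι F)) h0
      rwa [vecMul_vecMul, ← Units.val_mul, mul_inv_cancel, Units.val_one, vecMul_one,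
        zero_vecMul] at this)
    obtain ⟨a₀, ha₀⟩ : ∃ k, (u ᵥ* (P1 : Matrix ι ι F)) k ≠ 0 := Function.ne_iff.mp huP
    obtain ⟨b₀, hb₀⟩ : ∃ k, ((Q2 : Matrix κ κ F) *ᵥ w) k ≠ 0 := Function.ne_iff.mp hQw
    rcases hgood γ ⟨i, hi⟩ ⟨j, hj⟩ with hL | hR
    · refine hL u hu0 hu (γ * (w b₀) / ((Q2 : Matrix κ κ F) *ᵥ w) b₀) ?_
      funext k
      have := hform (Pi.single k 1) (Pi.single b₀ 1)
      simp only [dotProduct_single, single_dotProduct, one_mul, mul_one] at this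
      rw [Pi.smul_apply, smul_eq_mul, div_mul_eq_mul_div, eq_div_iff hb₀, this]
      ring
    · refine hR w hw0 hw (γ * (u a₀) / (u ᵥ* (P1 : Matrix ι ι F)) a₀) ?_
      funext k
      have := hform (Pi.single a₀ 1) (Pi.single k 1)
      simp only [dotProduct_single, single_dotProduct, one_mul, mul_one] at this
      rw [Pi.smul_apply, smul_eq_mul, div_mul_eq_mul_div, eq_div_iff ha₀, mul_comm, this]
      ring
  choose! u w hu hw hY using hfun
  let K : F → Submodule F (Matrix ι κ F) := fun γ =>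
    LinearMap.ker
      ({ toFun := fun Y => u γ ⬝ᵥ (Zf Y *ᵥ w γ)
         map_add' := fun a b => by rw [map_add, add_mulVec, dotProduct_add]
         map_smul' := fun c a => by rw [map_smul, smul_mulVec, dotProduct_smul]; rfl } :
        Matrix ι κ F →ₗ[F] F)
  have hcardS : S.card < Fintype.card F := by
    refine Finset.card_lt_univ_of_notMem (x := (0 : F)) fun hS0 => ?_
    rw [hS, Finset.mem_inter, Finset.mem_image] at hS0
    obtain ⟨⟨i, -, hi⟩, -⟩ := hS0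
    exact hnz i hi
  have hK : CfsgLib.KnownSimple.RegUnip.HasMoreThan F (S.card) := by
    intro s hs
    by_contra! hall
    have : (Finset.univ : Finset F) ⊆ s := fun x _ => hall x
    have := Finset.card_le_card this
    rw [Finset.card_univ] at this
    omega
  obtain ⟨Y, hYn⟩ := CfsgLib.KnownSimple.RegUnip.exists_notMem hK (S.image K)
    (Finset.card_image_le.trans (Nat.le_succ _)) (fun T hT hTtop => by
      obtain ⟨γ, hγ, rfl⟩ := Finset.mem_image.mp hT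
      obtain ⟨Y, hY'⟩ := hY γ hγ
      exact hY' (LinearMap.mem_ker.mp (hTtop ▸ Submodule.mem_top : Y ∈ K γ)))
  have hYne : ∀ γ ∈ S, u γ ⬝ᵥ (Zf Y *ᵥ w γ) ≠ 0 := fun γ hγ h0 =>
    hYn (K γ) (Finset.mem_image_of_mem K hγ) h0
  set P : GL (ι ⊕ κ) F := blockGL P1 P2 with hP
  set Q : GL (ι ⊕ κ) F := shearGL Y * blockGL Q1 Q2 * (shearGL Y)⁻¹ with hQ
  have hH : ((P * Q : GL (ι ⊕ κ) F) : Matrix (ι ⊕ κ) (ι ⊕ κ) F) =
      fromBlocks H1 (Zf Y) 0 H2 := by
    simp only [hP, hQ, Units.val_mul, coe_blockGL, coe_shearGL, coe_shearGL_inv, hH1, hH2]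
    simp [fromBlocks_multiply, Zf, Matrix.mul_assoc, ← sub_eq_neg_add, Matrix.mul_sub]
    rw [show H1 = (P1 : Matrix ι ι F) * (Q1 : Matrix ι ι F) by rw [hH1, Units.val_mul],
      Matrix.mul_assoc]
  have hQmat : (Q : Matrix (ι ⊕ κ) (ι ⊕ κ) F) = fromBlocks (Q1 : Matrix ι ι F)
      (Y * (Q2 : Matrix κ κ F) - (Q1 : Matrix ι ι F) * Y) 0 (Q2 : Matrix κ κ F) := by
    simp only [hQ, Units.val_mul, coe_blockGL, coe_shearGL, coe_shearGL_inv]
    simp [fromBlocks_multiply, ← sub_eq_neg_add]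
  have hchar : (fromBlocks H1 (Zf Y) 0 H2).charpoly =
      ∏ i, (Polynomial.X - C (sumList h1 h2 i)) := by
    rw [charpoly_fromBlocks_zero₂₁, hs1.2, hs2.2, Fintype.prod_sum_type]
    rfl
  have hline1 := eigLine_of_hasCyclic hs1.1
  have hline2 := eigLine_of_hasCyclic hs2.1
  -- an eigenvector with nonzero lower part forces the root to be new
  have hnew : ∀ (γ : F) (z : ι ⊕ κ → F), fromBlocks H1 (Zf Y) 0 H2 *ᵥ z = γ • z →
      z ∘ Sum.inr ≠ 0 → ¬∃ i, h1 i = γ := by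
    rintro γ z hz hz2 ⟨i, hi⟩
    obtain ⟨hz1, hz2'⟩ := (glue_eigvec z γ).mp hz
    obtain ⟨j, hj⟩ := (hs2.isRoot_iff γ).mp (isRoot_of_eigvec hz2 hz2')
    have hγS : γ ∈ S := by
      rw [hS, Finset.mem_inter, Finset.mem_image, Finset.mem_image]
      exact ⟨⟨i, Finset.mem_univ _, hi⟩, ⟨j, Finset.mem_univ _, hj⟩⟩
    obtain ⟨c, hc⟩ := hline2 γ (w γ) (z ∘ Sum.inr) (hw γ hγS) hz2' (fun h0 =>
      hYne γ hγS (by simp [h0]))
    have h2 := congrArg (fun t => u γ ⬝ᵥ t) hz1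
    simp only [dotProduct_add, dotProduct_mulVec (u γ) H1, hu γ hγS, smul_dotProduct,
      dotProduct_smul, hc, mulVec_smul] at h2
    have h3 : c • (u γ ⬝ᵥ (Zf Y *ᵥ w γ)) = 0 := by
      simp only [smul_eq_mul] at h2 ⊢
      linear_combination h2
    rcases smul_eq_zero.mp h3 with hc0 | hc0
    · exact hz2 (by rw [hc, hc0, zero_smul])
    · exact hYne γ hγS hc0
  have hline : EigLine (fromBlocks H1 (Zf Y) 0 H2) := by
    intro γ x y hx hy hx0
    obtain ⟨hx1, hx2⟩ := (glue_eigvec x γ).mp hx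
    obtain ⟨hy1, hy2⟩ := (glue_eigvec y γ).mp hy
    by_cases hroot : ∃ i, h1 i = γ
    · have hxr : x ∘ Sum.inr = 0 := by_contra fun h => hnew γ x hx h hroot
      have hyr : y ∘ Sum.inr = 0 := by_contra fun h => hnew γ y hy h hroot
      rw [hxr, mulVec_zero, add_zero] at hx1
      rw [hyr, mulVec_zero, add_zero] at hy1
      obtain ⟨c, hc⟩ := hline1 γ _ _ hx1 hy1 (fun h => hx0 (funext fun i => by
        cases i with
        | inl i => exact congrFun h i
        | inr i => exact congrFun hxr i))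
      refine ⟨c, funext fun i => ?_⟩
      cases i with
      | inl i => exact congrFun hc i
      | inr i => simp [show y (Sum.inr i) = 0 from congrFun hyr i, show x (Sum.inr i) = 0 from congrFun hxr i]
    · have hzero : ∀ t : ι → F, H1 *ᵥ t = γ • t → t = 0 := fun t ht => by_contra fun h0 =>
        hroot ((hs1.isRoot_iff γ).mp (isRoot_of_eigvec h0 ht))
      have hxr : x ∘ Sum.inr ≠ 0 := fun h => by
        rw [h, mulVec_zero, add_zero] at hx1
        have := hzero _ hx1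
        exact hx0 (funext fun i => by
          cases i with
          | inl i => exact congrFun this i
          | inr i => exact congrFun h i)
      obtain ⟨c, hc⟩ := hline2 γ _ _ hx2 hy2 hxr
      have hl : y ∘ Sum.inl - c • (x ∘ Sum.inl) = 0 := hzero _ (by
        rw [mulVec_sub, mulVec_smul, smul_sub, smul_comm γ c, ← hx1, ← hy1, hc, mulVec_smul, smul_add]
        abel)
      refine ⟨c, funext fun i => ?_⟩
      cases i with
      | inl i => exact sub_eq_zero.mp (congrFun hl i)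
      | inr i => exact congrFun hc i
  refine ⟨P, Q, ⟨⟨blockGL g1 g2, by rw [hP, hg1, hg2, blockGL_conj]⟩,
    ⟨shearGL Y * blockGL g1' g2', by rw [hQ, hg1', hg2', blockGL_conj]; simp [mul_assoc]⟩,
    hH ▸ splitCyc_of_eigLine _ _ hchar hline⟩, ?_, ?_, hP, Y, hQ⟩
  · intro γ hL2 hL1 t ht0 ht a hta
    rw [hH, vecMul_fromBlocks, vecMul_zero, add_zero] at ht
    rw [hP, coe_blockGL, vecMul_fromBlocks, vecMul_zero, vecMul_zero, add_zero, zero_add] at hta
    have ht1 : (t ∘ Sum.inl) ᵥ* H1 = γ • (t ∘ Sum.inl) := funext fun i => congrFun ht (Sum.inl i)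
    have ht2 : (t ∘ Sum.inl) ᵥ* Zf Y + (t ∘ Sum.inr) ᵥ* H2 = γ • (t ∘ Sum.inr) :=
      funext fun i => congrFun ht (Sum.inr i)
    have ha1 : (t ∘ Sum.inl) ᵥ* (P1 : Matrix ι ι F) = a • (t ∘ Sum.inl) :=
      funext fun i => congrFun hta (Sum.inl i)
    have ha2 : (t ∘ Sum.inr) ᵥ* (P2 : Matrix κ κ F) = a • (t ∘ Sum.inr) :=
      funext fun i => congrFun hta (Sum.inr i)
    by_cases h2r : ∃ j, h2 j = γ
    · by_cases ht10 : t ∘ Sum.inl = 0
      · rw [ht10, zero_vecMul, zero_add] at ht2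
        have ht20 : t ∘ Sum.inr ≠ 0 := fun h => ht0 (funext fun i => by
          cases i with
          | inl i => exact congrFun ht10 i
          | inr i => exact congrFun h i)
        exact hL2 h2r _ ht20 ht2 a ha2
      · obtain ⟨i, hi⟩ := (hs1.isRoot_iff γ).mp (isRoot_of_left_eigvec ht10 ht1)
        obtain ⟨j, hj⟩ := h2r
        have hγS : γ ∈ S := by
          rw [hS, Finset.mem_inter, Finset.mem_image, Finset.mem_image]
          exact ⟨⟨i, Finset.mem_univ _, hi⟩, ⟨j, Finset.mem_univ _, hj⟩⟩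
        have hu0 : u γ ≠ 0 := fun h => hYne γ hγS (by simp [h])
        obtain ⟨c, hc⟩ := left_eigLine_of_hasCyclic hs1.1 γ (u γ) (t ∘ Sum.inl) (hu γ hγS) ht1 hu0
        have h4 := congrArg (fun s => s ⬝ᵥ w γ) ht2
        simp only [add_dotProduct, ← dotProduct_mulVec, hw γ hγS, dotProduct_smul, smul_dotProduct,
          hc, smul_vecMul] at h4
        have h3 : c • (u γ ⬝ᵥ (Zf Y *ᵥ w γ)) = 0 := by
          simp only [smul_eq_mul] at h4 ⊢
          linear_combination h4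
        rcases smul_eq_zero.mp h3 with hc0 | hc0
        · exact ht10 (by rw [hc, hc0, zero_smul])
        · exact hYne γ hγS hc0
    · by_cases ht10 : t ∘ Sum.inl = 0
      · rw [ht10, zero_vecMul, zero_add] at ht2
        refine h2r ((hs2.isRoot_iff γ).mp (isRoot_of_left_eigvec (fun h => ht0 (funext fun i => by
          cases i with
          | inl i => exact congrFun ht10 i
          | inr i => exact congrFun h i)) ht2))
      · exact hL1 h2r _ ht10 ht1 a ha1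
  · intro γ hR1 hR2 z hz0 hz a hza
    rw [hH] at hz
    rw [hQmat, glue_eigvec] at hza
    obtain ⟨hz1, hz2⟩ := (glue_eigvec z γ).mp hz
    by_cases hroot : ∃ i, h1 i = γ
    · have hzr : z ∘ Sum.inr = 0 := by_contra fun h => hnew γ z hz h hroot
      rw [hzr, mulVec_zero, add_zero] at hz1
      have hza1 := hza.1
      rw [hzr, mulVec_zero, add_zero] at hza1
      exact hR1 hroot _ (fun h => hz0 (funext fun i => by
        cases i with
        | inl i => exact congrFun h i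
        | inr i => exact congrFun hzr i)) hz1 a hza1
    · refine hR2 hroot _ (fun h => ?_) hz2 a hza.2
      rw [h, mulVec_zero, add_zero] at hz1
      refine hroot ((hs1.isRoot_iff γ).mp (isRoot_of_eigvec (fun h' => hz0 (funext fun i => ?_)) hz1))
      cases i with
      | inl i => exact congrFun h' i
      | inr i => exact congrFun h i

theorem exists_isPair_sum [Fintype F] {A1 : GL ι F} {A2 : GL κ F} {P1 Q1 : GL ι F} {P2 Q2 : GL κ F}
    {h1 : ι → F} {h2 : κ → F} (hp1 : IsPair A1 P1 Q1 h1) (hp2 : IsPair A2 P2 Q2 h2)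
    (hnz : ∀ i, h1 i ≠ 0)
    (hgood : ∀ γ, (∃ i, h1 i = γ) → (∃ j, h2 j = γ) →
      GoodL (P1 : Matrix ι ι F) ((P1 * Q1 : GL ι F) : Matrix ι ι F) γ ∨
        GoodR (Q2 : Matrix κ κ F) ((P2 * Q2 : GL κ F) : Matrix κ κ F) γ) :
    ∃ P Q : GL (ι ⊕ κ) F, IsPair (blockGL A1 A2) P Q (sumList h1 h2) ∧
      (∀ γ, ((∃ j, h2 j = γ) → GoodL (P2 : Matrix κ κ F) ((P2 * Q2 : GL κ F) : Matrix κ κ F) γ) →
        ((¬∃ j, h2 j = γ) → GoodL (P1 : Matrix ι ι F) ((P1 * Q1 : GL ι F) : Matrix ι ι F) γ) →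
        GoodL (P : Matrix (ι ⊕ κ) (ι ⊕ κ) F) ((P * Q : GL (ι ⊕ κ) F) : Matrix (ι ⊕ κ) (ι ⊕ κ) F) γ) ∧
      (∀ γ, ((∃ i, h1 i = γ) → GoodR (Q1 : Matrix ι ι F) ((P1 * Q1 : GL ι F) : Matrix ι ι F) γ) →
        ((¬∃ i, h1 i = γ) → GoodR (Q2 : Matrix κ κ F) ((P2 * Q2 : GL κ F) : Matrix κ κ F) γ) →
        GoodR (Q : Matrix (ι ⊕ κ) (ι ⊕ κ) F) ((P * Q : GL (ι ⊕ κ) F) : Matrix (ι ⊕ κ) (ι ⊕ κ) F) γ) := by
  obtain ⟨P, Q, h, hL, hR, -⟩ := exists_isPair_sum_form hp1 hp2 hnz hgood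
  exact ⟨P, Q, h, hL, hR⟩

end CfsgLib.PSLCover
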