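import Cfsg.Agent.Lib.PSLCover.Block

/-!
A product of two conjugates of a cyclic matrix which is cyclic, split with a prescribed list of
roots, and in general position at both ends.
-/

set_option autoImplicit false
set_option linter.style.haveILetI false
set_option linter.unusedSectionVars false

namespace CfsgLib.PSLCover

open Matrix Finset Polynomial

variable {F : Type*} [Field F] {ι : Type*} [Fintype ι] [DecidableEq ι]

/-- `P`, `Q` are conjugates of `A` whose product is cyclic and split with roots `h`. -/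
def IsPair (A P Q : GL ι F) (h : ι → F) : Prop :=
  (∃ g : GL ι F, P = g * A * g⁻¹) ∧ (∃ g : GL ι F, Q = g * A * g⁻¹) ∧
    SplitCyc ((P * Q : GL ι F) : Matrix ι ι F) h

theorem hasCyclic_inv {A : GL ι F} (h : HasCyclic (A : Matrix ι ι F)) :
    HasCyclic ((A⁻¹ : GL ι F) : Matrix ι ι F) := by
  obtain ⟨v, hv⟩ := h
  set B : Matrix ι ι F := ((A⁻¹ : GL ι F) : Matrix ι ι F) with hB
  refine ⟨v, ?_⟩
  set S := Submodule.span F (Set.range fun i : ℕ => (B ^ i) *ᵥ v) with hS
  have hBS : ∀ x ∈ S, B *ᵥ x ∈ S := by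
    intro x hx
    induction hx using Submodule.span_induction with
    | mem x hx =>
      obtain ⟨i, rfl⟩ := hx
      exact Submodule.subset_span ⟨i + 1, by simp only [pow_succ', mulVec_mulVec]⟩
    | zero => simp
    | add x y _ _ hx hy => rw [mulVec_add]; exact add_mem hx hy
    | smul c x _ hx => rw [mulVec_smul]; exact Submodule.smul_mem _ c hx
  let φ : S →ₗ[F] S := (toLin' B).restrict fun x hx => by simpa using hBS x hx
  have hinj : Function.Injective φ := fun x y hxy => by
    have h1 := congrArg (fun z : S => (A : Matrix ι ι F) *ᵥ (z : ι → F)) hxy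
    simp only [φ, LinearMap.coe_restrict_apply, toLin'_apply, mulVec_mulVec, hB, ← Units.val_mul,
      mul_inv_cancel, Units.val_one, one_mulVec] at h1
    exact Subtype.ext h1
  have hsurj := LinearMap.injective_iff_surjective.mp hinj
  have hAS : ∀ x ∈ S, (A : Matrix ι ι F) *ᵥ x ∈ S := fun x hx => by
    obtain ⟨y, hy⟩ := hsurj ⟨x, hx⟩
    have hy' : B *ᵥ (y : ι → F) = x := by simpa [φ] using congrArg Subtype.val hy
    rw [← hy', mulVec_mulVec, hB, ← Units.val_mul, mul_inv_cancel, Units.val_one, one_mulVec]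
    exact y.2
  rw [eq_top_iff, ← hv, Submodule.span_le]
  rintro _ ⟨i, rfl⟩
  induction i with
  | zero => exact Submodule.subset_span ⟨0, by simp only [pow_zero]⟩
  | succ i ih =>
    have := hAS _ ih
    rw [mulVec_mulVec, ← pow_succ'] at this
    exact this

variable {m : ℕ}

theorem exists_super (F : Type*) [Field F] [Fintype F] (hq : 4 ≤ Fintype.card F) (T : F) (m : ℕ) :
    ∃ s : Fin m → F, (∀ j, s j ≠ 0) ∧ (0 < m → ∑ j, s j ≠ T) := by
  classical
  rcases m with _ | m
  · exact ⟨Fin.elim0, fun j => j.elim0, fun h => absurd h (lt_irrefl _)⟩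
  obtain ⟨a, ha⟩ : ∃ a : F, a ∉ ({0, T - (m : F)} : Finset F) := by
    by_contra! h
    have h1 : (Finset.univ : Finset F).card ≤ ({0, T - (m : F)} : Finset F).card :=
      Finset.card_le_card fun x _ => h x
    have h2 := Finset.card_le_two (a := (0 : F)) (b := T - (m : F))
    rw [Finset.card_univ] at h1
    omega
  simp only [Finset.mem_insert, Finset.mem_singleton, not_or] at ha
  refine ⟨Fin.cons a fun _ => 1, ?_, fun _ => ?_⟩
  · intro j
    refine Fin.cases ?_ (fun i => ?_) j
    · simpa using ha.1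
    · simp
  · rw [Fin.sum_univ_succ]
    simp only [Fin.cons_zero, Fin.cons_succ, Finset.sum_const, Finset.card_univ, Fintype.card_fin,
      nsmul_eq_mul, mul_one]
    exact fun h => ha.2 (eq_sub_of_add_eq h)

/-- The list `h` is admissible for a block: the last root is either new, or equals its
predecessor with a non-zero link. -/
def GoodList (A : GL (Fin (m + 2)) F) (h : Fin (m + 2) → F) : Prop :=
  (∀ j : Fin (m + 1), h j.castSucc ≠ h (Fin.last _)) ∨
    (h (Fin.last _) = h (Fin.last m).castSucc ∧ (m = 0 →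
      h (Fin.last _) * ((A⁻¹ : GL (Fin (m + 2)) F) : Matrix (Fin (m + 2)) (Fin (m + 2)) F).charpoly.coeff (m + 1) ≠
        (A : Matrix (Fin (m + 2)) (Fin (m + 2)) F).charpoly.coeff (m + 1)))

theorem exists_block_pair_form [Fintype F] (hq : 4 ≤ Fintype.card F) (A : GL (Fin (m + 2)) F)
    (hA : HasCyclic (A : Matrix (Fin (m + 2)) (Fin (m + 2)) F)) (h : Fin (m + 2) → F) (h0 : ∀ i, h i ≠ 0)
    (hdet : ∏ i, h i = (A : Matrix (Fin (m + 2)) (Fin (m + 2)) F).det ^ 2) (hlist : GoodList A h) :
    ∃ P Q : GL (Fin (m + 2)) F, IsPair A P Q h ∧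
      (∀ γ, γ ≠ h 0 ∨ h 1 = h 0 → GoodL (P : Matrix (Fin (m + 2)) (Fin (m + 2)) F) ((P * Q : GL (Fin (m + 2)) F) : Matrix (Fin (m + 2)) (Fin (m + 2)) F) γ) ∧
      (∀ γ, γ ≠ h (Fin.last _) ∨ h (Fin.last m).castSucc = h (Fin.last _) →
        GoodR (Q : Matrix (Fin (m + 2)) (Fin (m + 2)) F) ((P * Q : GL (Fin (m + 2)) F) : Matrix (Fin (m + 2)) (Fin (m + 2)) F) γ) ∧
      ∃ (s : Fin m → F) (x : Fin (m + 1) → F), (∀ j, s j ≠ 0) ∧
        (P : Matrix (Fin (m + 2)) (Fin (m + 2)) F) = triBlock h s x *
          compMat (m := m) ((A⁻¹ : GL (Fin (m + 2)) F) : Matrix (Fin (m + 2)) (Fin (m + 2)) F).charpoly ∧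
        ((Q⁻¹ : GL (Fin (m + 2)) F) : Matrix (Fin (m + 2)) (Fin (m + 2)) F) =
          compMat (m := m) ((A⁻¹ : GL (Fin (m + 2)) F) : Matrix (Fin (m + 2)) (Fin (m + 2)) F).charpoly := by
  classical
  set f := (A : Matrix (Fin (m + 2)) (Fin (m + 2)) F).charpoly with hf
  set g := ((A⁻¹ : GL (Fin (m + 2)) F) : Matrix (Fin (m + 2)) (Fin (m + 2)) F).charpoly with hg
  have hfm : f.Monic := charpoly_monic _
  have hgm : g.Monic := charpoly_monic _
  have hfd : f.natDegree = m + 2 := by simp [hf, charpoly_natDegree_eq_dim]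
  have hgd : g.natDegree = m + 2 := by simp [hg, charpoly_natDegree_eq_dim]
  have hc : f.coeff 0 = (∏ i, h i) * g.coeff 0 := by
    have h1 := det_eq_sign_charpoly_coeff (A : Matrix (Fin (m + 2)) (Fin (m + 2)) F)
    have h2 := det_eq_sign_charpoly_coeff ((A⁻¹ : GL (Fin (m + 2)) F) : Matrix (Fin (m + 2)) (Fin (m + 2)) F)
    rw [Fintype.card_fin, ← hf] at h1
    rw [Fintype.card_fin, ← hg] at h2
    have h12 : (A : Matrix (Fin (m + 2)) (Fin (m + 2)) F).det * ((A⁻¹ : GL (Fin (m + 2)) F) : Matrix (Fin (m + 2)) (Fin (m + 2)) F).det = 1 := by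
      rw [← det_mul, ← Units.val_mul, mul_inv_cancel, Units.val_one, det_one]
    have hpow : ((-1 : F) ^ (m + 2)) ≠ 0 := pow_ne_zero _ (by simp)
    refine mul_left_cancel₀ hpow ?_
    rw [← h1, mul_left_comm, ← h2, hdet, pow_two, mul_assoc, h12, mul_one]
  obtain ⟨s, hs0, hsum⟩ := exists_super F hq
    (h (Fin.last _) * g.coeff (m + 1) - f.coeff (m + 1)) m
  obtain ⟨x, hchar, hxl⟩ := exists_last_column f g hfm hfd hgm hgd h h0 s hc
  set H := triBlock h s x with hH
  have hxlast : h (Fin.last _) = h (Fin.last m).castSucc →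
      (∀ j : Fin (m + 1), h j.castSucc ≠ h (Fin.last _)) ∨ x (Fin.last m) ≠ 0 := by
    intro he
    refine Or.inr ?_
    rw [hxl, sub_ne_zero]
    rcases Nat.eq_zero_or_pos m with hm | hm
    · have : ∑ j, s j = 0 := by subst hm; simp
      rw [this, sub_ne_zero]
      rcases hlist with hl | hl
      · exact absurd he.symm (hl _)
      · exact hl.2 hm
    · exact (hsum hm).symm
  have htop : ∀ (γ : F) (v : Fin (m + 2) → F), H *ᵥ v = γ • v → v (Fin.last _) = 0 →
      v 0 = 0 → v = 0 := by
    intro γ v hv hvl hv0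
    funext i
    induction i using Fin.induction with
    | zero => exact hv0
    | succ j ih =>
      by_cases hj : j = Fin.last m
      · subst hj; simpa using hvl
      have hjm : (j : ℕ) < m := Fin.val_lt_last hj
      have hsucc : j.succ = (⟨(j : ℕ) + 1, by omega⟩ : Fin (m + 1)).castSucc := Fin.ext (by simp)
      have h1 := congrFun hv j.castSucc
      rw [Pi.smul_apply, ih, Pi.zero_apply, smul_zero, mulVec, dotProduct,
        Finset.sum_eq_single j.succ] at h1
      · rw [hH, hsucc, triBlock_castSucc, if_neg (by simp [Fin.ext_iff]), dif_pos (by simp)] at h1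
        rw [Pi.zero_apply, hsucc]
        exact (mul_eq_zero.mp h1).resolve_left (hs0 _)
      · intro b _ hb
        induction b using Fin.lastCases with
        | last => rw [hvl, mul_zero]
        | cast b =>
          by_cases hbj : b = j
          · subst hbj; rw [ih, Pi.zero_apply, mul_zero]
          · rw [hH, triBlock_castSucc, if_neg (by simpa using Ne.symm hbj), dif_neg, zero_mul]
            intro hh
            refine hb (Fin.ext ?_)
            simpa using hh.symm
      · simp
  -- last coordinate of eigenvectors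
  have hlastcoord : ∀ (γ : F) (v : Fin (m + 2) → F), H *ᵥ v = γ • v →
      (γ ≠ h (Fin.last _) ∨ h (Fin.last m).castSucc = h (Fin.last _)) → v (Fin.last _) = 0 := by
    intro γ v hv hγ
    have h1 := congrFun hv (Fin.last _)
    rw [hH, triBlock_mulVec_last, Pi.smul_apply, smul_eq_mul] at h1
    by_contra hne
    have heq : h (Fin.last _) = γ := mul_right_cancel₀ hne h1
    have he := hγ.resolve_left (fun hh => hh heq.symm)
    have hx : x (Fin.last m) ≠ 0 := (hxlast he.symm).resolve_left fun hall => hall _ he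
    have h2 := congrFun hv (Fin.last m).castSucc
    rw [Pi.smul_apply, mulVec, dotProduct, Fin.sum_univ_castSucc,
      Finset.sum_eq_single (Fin.last m)] at h2
    · rw [hH, triBlock_castSucc, if_pos rfl, triBlock_castSucc_last, smul_eq_mul, he, heq,
        add_eq_left] at h2
      exact hne ((mul_eq_zero.mp h2).resolve_left hx)
    · intro b _ hb
      rw [hH, triBlock_castSucc, if_neg (by simpa using Ne.symm hb), dif_neg, zero_mul]
      simp
      omega
    · simp
  have hline : EigLine H := by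
    intro γ v w hv hw hv0
    by_cases hγ : γ ≠ h (Fin.last _) ∨ h (Fin.last m).castSucc = h (Fin.last _)
    · have hvl := hlastcoord γ v hv hγ
      have hwl := hlastcoord γ w hw hγ
      have hv00 : v 0 ≠ 0 := fun h00 => hv0 (htop γ v hv hvl h00)
      refine ⟨w 0 / v 0, sub_eq_zero.mp (htop γ _ ?_ ?_ ?_)⟩
      · rw [mulVec_sub, mulVec_smul, hv, hw, smul_sub, smul_comm]
      · simp [hvl, hwl]
      · simp [hv00]
    · rw [not_or, not_ne_iff] at hγ
      have hall : ∀ j : Fin (m + 1), h j.castSucc ≠ γ := by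
        rw [hγ.1]
        exact hlist.resolve_right fun hl => hγ.2 hl.1.symm
      have hdetsub : ∀ u : Fin (m + 2) → F, H *ᵥ u = γ • u → u (Fin.last _) = 0 → u = 0 := by
        intro u hu hul
        by_contra hu0
        let S := (Finset.univ : Finset (Fin (m + 1))).filter fun j => u j.castSucc ≠ 0
        have hS : S.Nonempty := by
          by_contra hS
          rw [Finset.not_nonempty_iff_eq_empty, Finset.filter_eq_empty_iff] at hS
          refine hu0 (funext fun i => ?_)
          induction i using Fin.lastCases with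
          | last => exact hul
          | cast i => simpa using hS (Finset.mem_univ i)
        obtain ⟨j, hj, hmax⟩ := Finset.exists_max_image S (fun j => (j : ℕ)) hS
        have hj0 : u j.castSucc ≠ 0 := (Finset.mem_filter.mp hj).2
        have h1 := congrFun hu j.castSucc
        rw [Pi.smul_apply, mulVec, dotProduct, Finset.sum_eq_single j.castSucc] at h1
        · rw [hH, triBlock_diag, smul_eq_mul] at h1
          exact hall j (mul_right_cancel₀ hj0 h1)
        · intro b _ hb
          induction b using Fin.lastCases with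
          | last => rw [hul, mul_zero]
          | cast b =>
            by_cases hub : u b.castSucc = 0
            · rw [hub, mul_zero]
            · have hbj : (b : ℕ) < j := lt_of_le_of_ne
                (hmax b (Finset.mem_filter.mpr ⟨Finset.mem_univ _, hub⟩))
                (fun hh => hb (congrArg Fin.castSucc (Fin.ext hh)))
              rw [hH, triBlock_below h s x (i := j.castSucc) (j := b.castSucc) (by simpa using hbj),
                zero_mul]
        · simp
      have hvl : v (Fin.last _) ≠ 0 := fun h00 => hv0 (hdetsub v hv h00)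
      refine ⟨w (Fin.last _) / v (Fin.last _), sub_eq_zero.mp (hdetsub _ ?_ ?_)⟩
      · rw [mulVec_sub, mulVec_smul, hv, hw, smul_sub, smul_comm]
      · simp [hvl]
  have hHsc : SplitCyc H h := splitCyc_of_eigLine H h (charpoly_triBlock h s x) hline
  have hC : IsUnit (compMat (m := m) g).det := by
    rw [det_comp g hgm hgd, isUnit_iff_ne_zero]
    refine mul_ne_zero (pow_ne_zero _ (by simp)) fun h00 => ?_
    have h2 := det_eq_sign_charpoly_coeff ((A⁻¹ : GL (Fin (m + 2)) F) : Matrix (Fin (m + 2)) (Fin (m + 2)) F)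
    rw [← hg, h00, mul_zero] at h2
    exact ((Matrix.isUnit_iff_isUnit_det _).mp (A⁻¹).isUnit).ne_zero h2
  obtain ⟨R, hR⟩ := exists_conj_of_hasCyclic _ _ (hasCyclic_triBlock_mul_comp g h h0 s x) hA hchar
  obtain ⟨S, hS⟩ := exists_conj_of_hasCyclic _ _ (hasCyclic_comp (m := m) g) (hasCyclic_inv hA)
    (charpoly_comp g hgm hgd)
  set P : GL (Fin (m + 2)) F := R * A * R⁻¹
  set Q : GL (Fin (m + 2)) F := S * A * S⁻¹
  have hP : (P : Matrix (Fin (m + 2)) (Fin (m + 2)) F) = H * compMat (m := m) g := hR.symm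
  have hQ : ((Q⁻¹ : GL (Fin (m + 2)) F) : Matrix (Fin (m + 2)) (Fin (m + 2)) F) = compMat (m := m) g := by
    rw [show Q⁻¹ = S * A⁻¹ * S⁻¹ by simp [Q, mul_assoc]]
    exact hS.symm
  have hPQ : ((P * Q : GL (Fin (m + 2)) F) : Matrix (Fin (m + 2)) (Fin (m + 2)) F) = H := by
    rw [Units.val_mul, hP, ← hQ, mul_assoc, ← Units.val_mul, inv_mul_cancel, Units.val_one, mul_one]
  refine ⟨P, Q, ⟨⟨R, rfl⟩, ⟨S, rfl⟩, hPQ ▸ hHsc⟩, ?_, ?_, s, x, hs0, hP, hQ⟩
  · intro γ hγ u hu0 hu a hua
    rw [hPQ] at hu
    have hu00 : u 0 = 0 := by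
      have h1 := congrFun hu 0
      rw [Pi.smul_apply, vecMul, dotProduct, Finset.sum_eq_single (0 : Fin (m + 2))] at h1
      · rw [hH, triBlock_diag, smul_eq_mul] at h1
        by_contra hne
        have hh0 : h 0 = γ := mul_left_cancel₀ hne (h1.trans (mul_comm γ (u 0)))
        have he := hγ.resolve_left fun hh => hh hh0.symm
        have h2 := congrFun hu 1
        rw [Pi.smul_apply, vecMul, dotProduct,
          Finset.sum_eq_add (0 : Fin (m + 2)) 1 (by simp)] at h2
        · rw [hH, triBlock_diag h s x 1, he, hh0, smul_eq_mul, mul_comm (u 1) γ, add_eq_right] at h2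
          refine hne ((mul_eq_zero.mp h2).resolve_right ?_)
          rcases m with _ | m
          · have hl01 : h (Fin.last 1) = h (Fin.last 0).castSucc := he
            rw [show (1 : Fin (0 + 2)) = Fin.last 1 from rfl,
              show (0 : Fin (0 + 2)) = (0 : Fin 1).castSucc from rfl, triBlock_castSucc_last]
            exact (hxlast hl01).resolve_left fun hall => hall 0 he.symm
          · rw [show (1 : Fin (m + 1 + 2)) = (1 : Fin (m + 1 + 1)).castSucc from rfl,
              triBlock_castSucc, if_neg (by simp [Fin.ext_iff]), dif_pos (by simp)]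
            exact hs0 _
        · intro b _ hb
          rw [hH, triBlock_below h s x, mul_zero]
          rw [Fin.lt_def]
          have : (b : ℕ) ≠ 0 := fun hh => hb.1 (Fin.ext hh)
          have : (b : ℕ) ≠ 1 := fun hh => hb.2 (Fin.ext (by simpa using hh))
          simp
          omega
        · simp
        · simp
      · intro b _ hb
        rw [hH, triBlock_below h s x, mul_zero]
        exact Fin.pos_iff_ne_zero.mpr hb
      · simp
    rw [hP, ← vecMul_vecMul, hu, smul_vecMul] at hua
    by_cases hγ0 : γ = 0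
    · subst hγ0
      have hzero : u ᵥ* ((P * Q : GL (Fin (m + 2)) F) : Matrix (Fin (m + 2)) (Fin (m + 2)) F) = 0 := by rw [hPQ, hu, zero_smul]
      have := congrArg (fun z => z ᵥ* (((P * Q)⁻¹ : GL (Fin (m + 2)) F) : Matrix (Fin (m + 2)) (Fin (m + 2)) F)) hzero
      simp only [vecMul_vecMul, zero_vecMul, ← Units.val_mul, mul_inv_cancel, Units.val_one,
        vecMul_one] at this
      exact hu0 this
    · have hu' : u ᵥ* compMat (m := m) g = (γ⁻¹ * a) • u := by
        rw [mul_smul, ← hua, inv_smul_smul₀ hγ0]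
      exact hu0 (zero_of_vecMul_comp hu00 hu')
  · intro γ hγ w hw0 hw a hwa
    rw [hPQ] at hw
    have hwl := hlastcoord γ w hw hγ
    refine hw0 (zero_of_comp_mulVec (g := g) hwl (a := a) ?_)
    have := congrArg (fun z => ((Q⁻¹ : GL (Fin (m + 2)) F) : Matrix (Fin (m + 2)) (Fin (m + 2)) F) *ᵥ z) hwa
    rw [mulVec_mulVec, ← Units.val_mul, inv_mul_cancel, Units.val_one, one_mulVec, mulVec_smul,
      hQ] at this
    exact this

theorem exists_block_pair [Fintype F] (hq : 4 ≤ Fintype.card F) (A : GL (Fin (m + 2)) F)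
    (hA : HasCyclic (A : Matrix (Fin (m + 2)) (Fin (m + 2)) F)) (h : Fin (m + 2) → F) (h0 : ∀ i, h i ≠ 0)
    (hdet : ∏ i, h i = (A : Matrix (Fin (m + 2)) (Fin (m + 2)) F).det ^ 2) (hlist : GoodList A h) :
    ∃ P Q : GL (Fin (m + 2)) F, IsPair A P Q h ∧
      (∀ γ, γ ≠ h 0 ∨ h 1 = h 0 → GoodL (P : Matrix (Fin (m + 2)) (Fin (m + 2)) F) ((P * Q : GL (Fin (m + 2)) F) : Matrix (Fin (m + 2)) (Fin (m + 2)) F) γ) ∧
      (∀ γ, γ ≠ h (Fin.last _) ∨ h (Fin.last m).castSucc = h (Fin.last _) →
        GoodR (Q : Matrix (Fin (m + 2)) (Fin (m + 2)) F) ((P * Q : GL (Fin (m + 2)) F) : Matrix (Fin (m + 2)) (Fin (m + 2)) F) γ) := by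
  obtain ⟨P, Q, h1, h2, h3, -⟩ := exists_block_pair_form hq A hA h h0 hdet hlist
  exact ⟨P, Q, h1, h2, h3⟩

end CfsgLib.PSLCover
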