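import Cfsg.Agent.Lib.PSLCover.Cyclic

/-!
Cyclicity of triangular matrices with linked equal diagonal entries, and padding of coverings by one
more factor.
-/

set_option autoImplicit false
set_option linter.unusedSectionVars false

namespace CfsgLib.PSLCover

open Matrix

variable {F : Type*} [Field F]

section Tri

variable {n : ℕ}

/-- An upper triangular matrix with contiguous equal diagonal entries, linked on the superdiagonal,
has one eigenline for each scalar. -/
theorem eigLine_of_upperTri (X : Matrix (Fin n) (Fin n) F) (hX : ∀ i j, j < i → X i j = 0)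
    (hlink : ∀ i j : Fin n, i < j → X i i = X j j →
      ∃ k : Fin n, k.val + 1 = j.val ∧ X k k = X j j ∧ X k j ≠ 0) :
    EigLine X := by
  classical
  -- the top of the support of an eigenvector
  have top : ∀ (γ : F) (x : Fin n → F), X *ᵥ x = γ • x → x ≠ 0 →
      ∃ m, x m ≠ 0 ∧ (∀ l, m < l → x l = 0) ∧ X m m = γ ∧
        ∀ k : Fin n, k.val + 1 = m.val → (X k k - γ) * x k + X k m * x m = 0 := by
    intro γ x hx hx0
    obtain ⟨i₀, hi₀⟩ := Function.ne_iff.1 hx0
    set S := Finset.univ.filter fun i => x i ≠ 0 with hS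
    have hne : S.Nonempty := ⟨i₀, by simpa [hS] using hi₀⟩
    set m := S.max' hne
    have hm : x m ≠ 0 := (Finset.mem_filter.1 (S.max'_mem hne)).2
    have habove : ∀ l, m < l → x l = 0 := fun l hl => by
      by_contra e
      exact (not_lt.2 (S.le_max' l (by simpa [hS] using e))) hl
    have hrow : ∀ i, (∑ l, X i l * x l) = γ * x i := fun i => congrFun hx i
    refine ⟨m, hm, habove, ?_, fun k hk => ?_⟩
    · have h1 := hrow m
      rw [Finset.sum_eq_single m (fun l _ hl => ?_) (by simp)] at h1
      · exact mul_right_cancel₀ hm h1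
      · rcases lt_or_gt_of_ne hl with h | h
        · rw [hX m l h, zero_mul]
        · rw [habove l h, mul_zero]
    · have hkm : k ≠ m := fun e => by rw [e] at hk; omega
      have h1 := hrow k
      rw [← Finset.sum_subset (s₁ := {k, m}) (Finset.subset_univ _)] at h1
      · rw [Finset.sum_pair hkm] at h1
        linear_combination h1
      · intro l _ hl
        simp only [Finset.mem_insert, Finset.mem_singleton, not_or] at hl
        rcases lt_or_gt_of_ne hl.1 with h | h
        · rw [hX k l h, zero_mul]
        · have h1 := Fin.lt_def.1 h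
          have h2 : l.val ≠ m.val := fun e => hl.2 (Fin.ext e)
          rw [habove l (Fin.lt_def.2 (by omega)), mul_zero]
  intro γ x y hx hy hx0
  -- every nonzero eigenvector has its top at the first index with that diagonal entry
  have key : ∀ z : Fin n → F, X *ᵥ z = γ • z → z ≠ 0 →
      ∃ t, z t ≠ 0 ∧ X t t = γ ∧ ∀ i : Fin n, X i i = γ → t ≤ i := by
    intro z hz hz0
    obtain ⟨t, h1, -, h3, h4⟩ := top γ z hz hz0
    refine ⟨t, h1, h3, fun i hi => le_of_not_gt fun hlt => ?_⟩
    obtain ⟨k, hk, hkk, hks⟩ := hlink i t hlt (hi.trans h3.symm)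
    have h5 := h4 k hk
    rw [hkk, h3, sub_self, zero_mul, zero_add] at h5
    exact mul_ne_zero hks h1 h5
  obtain ⟨t, ht, htγ, htle⟩ := key x hx hx0
  refine ⟨y t / x t, ?_⟩
  by_contra hne
  have hz : X *ᵥ (y - (y t / x t) • x) = γ • (y - (y t / x t) • x) := by
    rw [mulVec_sub, mulVec_smul, hx, hy, smul_sub, smul_comm]
  obtain ⟨u, hu, huγ, hule⟩ := key _ hz (sub_ne_zero.2 hne)
  obtain rfl : u = t := le_antisymm (hule t htγ) (htle u huγ)
  exact hu (by simp [div_mul_cancel₀ _ ht])

/-- An upper triangular matrix with linked equal diagonal entries is `SplitCyc`. -/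
theorem splitCyc_of_upperTri (X : Matrix (Fin n) (Fin n) F) (hX : ∀ i j, j < i → X i j = 0)
    (hlink : ∀ i j : Fin n, i < j → X i i = X j j →
      ∃ k : Fin n, k.val + 1 = j.val ∧ X k k = X j j ∧ X k j ≠ 0) :
    SplitCyc X fun i => X i i :=
  splitCyc_of_eigLine X _ (Matrix.charpoly_of_isUpperTriangular X fun i j h => hX i j h)
    (eigLine_of_upperTri X hX hlink)

end Tri

variable {ι : Type*} [Fintype ι] [DecidableEq ι]

/-- A matrix whose conjugates by transvections are scalar multiples of it is scalar. -/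
theorem exists_conj_ne_smul {A : GL ι F} (hA : NonScalar A) :
    ∃ g : GL ι F, GeneralLinearGroup.det g = 1 ∧
      ∀ z : F, ((g * A * g⁻¹ : GL ι F) : Matrix ι ι F) ≠ z • (A : Matrix ι ι F) := by
  by_contra h
  push Not at h
  have hc : ∀ t : Matrix.TransvectionStruct ι F, Commute t.toMatrix (A : Matrix ι ι F) := by
    intro t
    let g : GL ι F := GeneralLinearGroup.mkOfDetNeZero t.toMatrix (by rw [t.det]; exact one_ne_zero)
    have hg : (g : Matrix ι ι F) = t.toMatrix := rfl
    obtain ⟨z, hz⟩ := h g (Units.ext (by simp [g, t.det]))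
    have h2 : t.toMatrix * (A : Matrix ι ι F) = z • ((A : Matrix ι ι F) * t.toMatrix) := by
      rw [← hg, ← Matrix.smul_mul, ← hz, ← Units.val_mul, ← Units.val_mul, inv_mul_cancel_right]
    suffices z = 1 by rw [commute_iff_eq, h2, this, one_smul]
    by_contra hz1
    obtain ⟨i, j, hij, c⟩ := t
    simp only [Matrix.TransvectionStruct.toMatrix_mk] at h2 hg
    have h3 : ((A⁻¹ : GL ι F) : Matrix ι ι F) * (transvection i j c - 1) * (A : Matrix ι ι F) =
        (z - 1) • transvection i j (z * c / (z - 1)) := by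
      rw [mul_sub, sub_mul, mul_one, mul_assoc, h2, Matrix.mul_smul, ← mul_assoc, ← Units.val_mul,
        inv_mul_cancel, Units.val_one, one_mul, transvection, transvection, smul_add, smul_add,
        Matrix.smul_single, Matrix.smul_single, smul_eq_mul, smul_eq_mul,
        mul_div_cancel₀ _ (sub_ne_zero.2 hz1), sub_smul, one_smul]
      abel
    have h4 := congrArg Matrix.det h3
    rw [det_mul, det_mul, det_smul, det_transvection_of_ne _ _ hij, mul_one,
      show (transvection i j c - 1 : Matrix ι ι F) = single i j c by rw [transvection]; abel] at h4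
    rw [det_eq_zero_of_row_eq_zero (A := single i j c) j (fun l => by simp [hij]), mul_zero,
      zero_mul] at h4
    exact sub_ne_zero.2 hz1 (eq_zero_of_pow_eq_zero h4.symm)
  obtain ⟨c, hc'⟩ := Matrix.mem_range_scalar_of_commute_transvectionStruct hc
  exact hA c (by rw [← hc', smul_one_eq_diagonal, scalar_apply])

/-- For every `B` some conjugate `y` of `A` makes `B * y⁻¹` non-scalar. -/
theorem exists_mul_inv_nonScalar {A : GL ι F} (hA : NonScalar A) (B : GL ι F) :
    ∃ y : GL ι F, CovS 1 A y ∧ NonScalar (B * y⁻¹) := by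
  by_contra h
  push Not at h
  obtain ⟨g, hg, hne⟩ := exists_conj_ne_smul hA
  have h1 : ∀ y : GL ι F, CovS 1 A y → ∃ c : F, (B : Matrix ι ι F) = c • (y : Matrix ι ι F) := by
    intro y hy
    have := h y hy
    simp only [NonScalar, not_forall, ne_eq, not_not] at this
    obtain ⟨c, hc⟩ := this
    refine ⟨c, ?_⟩
    calc (B : Matrix ι ι F) = ((B * y⁻¹ : GL ι F) : Matrix ι ι F) * (y : Matrix ι ι F) := by
          rw [← Units.val_mul, inv_mul_cancel_right]
      _ = c • (y : Matrix ι ι F) := by rw [hc]; simp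
  obtain ⟨c, hc⟩ := h1 A (by simpa using covS_one A 1 (map_one _))
  obtain ⟨d, hd⟩ := h1 (g * A * g⁻¹) (covS_one A g hg)
  have hd0 : d ≠ 0 := fun e => by
    refine hne 0 ?_
    rw [e, zero_smul] at hd
    have : ((B : Matrix ι ι F) = 0) := hd
    rw [zero_smul]
    calc ((g * A * g⁻¹ : GL ι F) : Matrix ι ι F)
        = ((g * A * g⁻¹ * B⁻¹ : GL ι F) : Matrix ι ι F) * (B : Matrix ι ι F) := by
          rw [← Units.val_mul, inv_mul_cancel_right]
      _ = 0 := by rw [this, mul_zero]
  refine hne (c / d) ?_
  rw [div_eq_inv_mul, ← smul_smul, ← hc, hd, smul_smul, inv_mul_cancel₀ hd0, one_smul]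

/-- A covering of the non-scalar elements by `k` conjugates covers everything with one more. -/
theorem covS_succ {A : GL ι F} (hA : NonScalar A) {k : ℕ}
    (h : ∀ B, NonScalar B → GeneralLinearGroup.det B = GeneralLinearGroup.det A ^ k → CovS k A B)
    (B : GL ι F) (hB : GeneralLinearGroup.det B = GeneralLinearGroup.det A ^ (k + 1)) :
    CovS (k + 1) A B := by
  obtain ⟨y, hy, hns⟩ := exists_mul_inv_nonScalar hA B
  have h1 := h (B * y⁻¹) hns (by
    rw [map_mul, map_inv, hB, hy.cov.det_eq, pow_one, pow_succ, mul_inv_cancel_right])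
  simpa using h1.mul hy

/-- Padding by any number of factors. -/
theorem covS_pad {A : GL ι F} (hA : NonScalar A) {k m : ℕ} (hkm : k ≤ m)
    (h : ∀ B, NonScalar B → GeneralLinearGroup.det B = GeneralLinearGroup.det A ^ k → CovS k A B) :
    (∀ B, NonScalar B → GeneralLinearGroup.det B = GeneralLinearGroup.det A ^ m → CovS m A B) ∧
      (k < m → ∀ B, GeneralLinearGroup.det B = GeneralLinearGroup.det A ^ m → CovS m A B) := by
  induction hkm with
  | refl => exact ⟨h, fun e => absurd e (lt_irrefl k)⟩
  | step _ ih => exact ⟨fun B _ hB => covS_succ hA ih.1 B hB, fun _ B hB => covS_succ hA ih.1 B hB⟩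

end CfsgLib.PSLCover
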