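import Cfsg.Agent.Lib.PSLCover.SourourStep

/-!
# Scalar plus rank one as a product of two cyclic maps

Two companion maps differ by rank one, and so do a cyclic map and a suitable conjugate of it; this
gives every map `c + ψ ⊗ w` as a product of cyclic maps with prescribed roots.
-/

set_option autoImplicit false
set_option linter.unusedSectionVars false
set_option linter.unusedVariables false

open Module Polynomial
open LinearMap (ker range mem_ker)
open CfsgLib.KnownSimple.RegUnip (proj coe_proj proj_coe proj_self finrank_ker_phi)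

namespace CfsgLib.PSLCover

variable {K : Type*} [Field K] {V : Type*} [AddCommGroup V] [Module K V]

/-- Cyclic data move along a linear equivalence. -/
lemma Cyc.conj {n : ℕ} {f : End K V} {g : Fin n → K} (h : Cyc f g) (S : V ≃ₗ[K] V) :
    Cyc (S.toLinearMap ∘ₗ f ∘ₗ S.symm.toLinearMap) g := by
  obtain ⟨⟨w, hw⟩, hann⟩ := h
  have hS : ∀ u, (S.toLinearMap ∘ₗ f ∘ₗ S.symm.toLinearMap) (S u) = S (f u) := fun u => by simp
  refine ⟨⟨S w, fun u => ?_⟩, LinearMap.ext fun u => ?_⟩
  · obtain ⟨p, hp⟩ := hw (S.symm u)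
    exact ⟨p, by rw [show S w = S.toLinearMap w from rfl,
      aeval_intertwine S.toLinearMap hS p w, hp]; simp⟩
  · rw [← S.apply_symm_apply u, show S (S.symm u) = S.toLinearMap (S.symm u) from rfl,
      aeval_intertwine S.toLinearMap hS _ _, hann]
    simp

/-- The companion map of `p` in a basis. -/
noncomputable def comp {n : ℕ} (b : Basis (Fin n) K V) (p : K[X]) : End K V :=
  b.constr K fun i => if h : (i : ℕ) + 1 < n then b ⟨i + 1, h⟩ else -∑ j : Fin n, p.coeff j • b j

lemma comp_pow {n : ℕ} (b : Basis (Fin (n + 1)) K V) (p : K[X]) :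
    ∀ i : ℕ, ∀ h : i < n + 1, (comp b p ^ i) (b 0) = b ⟨i, h⟩ := by
  intro i
  induction i with
  | zero => intro h; simp
  | succ i ih =>
    intro h
    rw [pow_succ', Module.End.mul_apply, ih (by omega), comp, Basis.constr_basis, dif_pos h]

lemma gen_comp {n : ℕ} (b : Basis (Fin (n + 1)) K V) (p : K[X]) : Gen (comp b p) (b 0) := by
  intro u
  refine ⟨∑ i : Fin (n + 1), C (b.repr u i) * X ^ (i : ℕ), ?_⟩
  conv_rhs => rw [← b.sum_repr u]
  simp [comp_pow b p _ (Fin.isLt _), Module.algebraMap_end_apply]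

lemma aeval_comp {n : ℕ} (b : Basis (Fin (n + 1)) K V) {p : K[X]} (hp : p.Monic)
    (hdeg : p.natDegree = n + 1) : aeval (comp b p) p = 0 := by
  have h0 : aeval (comp b p) p (b 0) = 0 := by
    rw [aeval_eq_sum_range, hdeg, LinearMap.sum_apply, Finset.sum_range_succ,
      Finset.sum_range fun i => (p.coeff i • comp b p ^ i) (b 0)]
    have htop : p.coeff (n + 1) = 1 := by rw [← hdeg]; exact hp.coeff_natDegree
    have hlast : (comp b p ^ (n + 1)) (b 0) = -∑ j : Fin (n + 1), p.coeff j • b j := by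
      rw [pow_succ', Module.End.mul_apply, comp_pow b p n (by omega), comp, Basis.constr_basis,
        dif_neg (by simp)]
    simp only [LinearMap.smul_apply, comp_pow b p _ (Fin.isLt _), hlast, htop, one_smul]
    exact add_neg_cancel _
  refine LinearMap.ext fun u => ?_
  obtain ⟨q, rfl⟩ := gen_comp b p u
  rw [← Module.End.mul_apply, ← map_mul, mul_comm, map_mul, Module.End.mul_apply, h0]
  simp

lemma comp_sub {n : ℕ} (b : Basis (Fin (n + 1)) K V) (p p' : K[X]) (u : V) :
    comp b p u = comp b p' u +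
      b.coord (Fin.last n) u • ∑ j : Fin (n + 1), (p'.coeff j - p.coeff j) • b j := by
  refine LinearMap.congr_fun (f := comp b p) (g := comp b p' +
    (b.coord (Fin.last n)).smulRight (∑ j : Fin (n + 1), (p'.coeff j - p.coeff j) • b j))
    (b.ext fun i => ?_) u
  simp only [comp, LinearMap.add_apply, LinearMap.smulRight_apply, Basis.constr_basis,
    Basis.coord_apply, Basis.repr_self, Finsupp.single_apply]
  by_cases h : (i : ℕ) + 1 < n + 1
  · rw [dif_pos h, dif_pos h, if_neg (by intro h'; subst h'; simp at h), zero_smul, add_zero]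
  · rw [dif_neg h, dif_neg h, if_pos (Fin.ext (by simp; omega)), one_smul]
    simp only [sub_smul, Finset.sum_sub_distrib]
    abel

/-- Two cyclic maps with prescribed roots differing by rank one. -/
lemma exists_cyc_pair [FiniteDimensional K V] {n : ℕ} (hn : finrank K V = n + 1) (h2 : 2 ≤ n)
    (g g' : Fin (n + 1) → K) :
    ∃ M L : End K V, ∃ (ψ : Dual K V) (w : V), Cyc M g' ∧ Cyc L g ∧ ψ ≠ 0 ∧ w ≠ 0 ∧
      ∀ u, L u = M u + ψ u • w := by
  let b := Module.finBasisOfFinrankEq K V hn
  set p := rootPoly g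
  set p' := rootPoly g' with hp'
  have hcyc : ∀ g : Fin (n + 1) → K, Cyc (comp b (rootPoly g)) g := fun g =>
    ⟨⟨b 0, gen_comp b _⟩, aeval_comp b (rootPoly_monic g) (rootPoly_natDegree g)⟩
  by_cases hpp : p = p'
  · -- a conjugate of the companion map
    set M := comp b p' with hM
    set r := g' 0
    set q := rootPoly (Fin.tail g')
    have hsmall : ∀ q' : K[X], q'.Monic → q'.natDegree < n + 1 → aeval M q' (b 0) ≠ 0 := by
      intro q' hq' hlt h
      have h1 := Polynomial.natDegree_le_of_dvd (dvd_of_aeval_eq_zero hn (gen_comp b p')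
        (rootPoly_monic g') (rootPoly_natDegree g') (hcyc g').2 h) hq'.ne_zero
      rw [rootPoly_natDegree] at h1
      omega
    have hq0 : aeval M q (b 0) ≠ 0 :=
      hsmall q (rootPoly_monic _) (by rw [rootPoly_natDegree]; omega)
    obtain ⟨f, hf⟩ : ∃ f : Dual K V, f (aeval M q (b 0)) = 1 := by
      obtain ⟨f, hf⟩ : ∃ f : Dual K V, f (aeval M q (b 0)) ≠ 0 := by
        by_contra! h
        exact hq0 ((Module.forall_dual_apply_eq_zero_iff K _).1 h)
      exact ⟨(f (aeval M q (b 0)))⁻¹ • f, by simp [hf]⟩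
    set φ : Dual K V := f ∘ₗ aeval M q with hφ
    have hkill : ∀ u, φ (M u - r • u) = 0 := fun u => by
      rw [hφ, LinearMap.comp_apply, ← aeval_X_sub, ← Module.End.mul_apply, ← map_mul, mul_comm,
        ← rootPoly_succ, hM, (hcyc g').2]
      simp
    set h := M (b 0) - r • b 0 with hh
    have hφh : φ h = 0 := hkill _
    let S : V ≃ₗ[K] V := LinearEquiv.transvection (f := φ) (v := h) hφh
    have hS : ∀ u, S u = u + φ u • h := fun u => by
      simp [S, LinearEquiv.transvection, LinearMap.transvection.apply]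
    have hSs : ∀ u, S.symm u = u - φ u • h := fun u => S.injective (by
      rw [S.apply_symm_apply, hS, map_sub, map_smul, hφh, smul_zero, sub_zero, sub_add_cancel])
    have hw : M h - r • h ≠ 0 := by
      intro h0
      refine hsmall ((X - C r) * (X - C r)) ((monic_X_sub_C r).mul (monic_X_sub_C r)) ?_ ?_
      · rw [natDegree_mul (X_sub_C_ne_zero r) (X_sub_C_ne_zero r), natDegree_X_sub_C]
        omega
      · rw [map_mul, Module.End.mul_apply, aeval_X_sub, aeval_X_sub]
        exact h0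
    refine ⟨M, S.toLinearMap ∘ₗ M ∘ₗ S.symm.toLinearMap, φ, r • h - M h, hcyc g', ?_, ?_, ?_,
      fun u => ?_⟩
    · have hc := (hcyc g').conj S
      refine ⟨hc.1, ?_⟩
      rw [show rootPoly g = rootPoly g' from hpp]
      exact hc.2
    · intro h0
      have h1 : φ (b 0) = 1 := by rw [hφ, LinearMap.comp_apply, hf]
      rw [h0] at h1
      simp at h1
    · rw [← neg_sub]
      exact neg_ne_zero.2 hw
    · have h1 : φ (M (u - φ u • h)) = r * φ u := by
        have h2 := hkill (u - φ u • h)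
        rw [map_sub, map_smul, smul_eq_mul, sub_eq_zero] at h2
        rw [h2, map_sub, map_smul, hφh, smul_zero, sub_zero]
      simp only [LinearMap.comp_apply, LinearEquiv.coe_coe, hSs, hS, h1]
      simp only [map_sub, map_smul]
      module
  · refine ⟨comp b p', comp b p, b.coord (Fin.last n), _, hcyc g', hcyc g, ?_, ?_, comp_sub b p p'⟩
    · intro h0
      simpa using LinearMap.congr_fun h0 (b (Fin.last n))
    · intro h0
      refine hpp (Polynomial.ext fun i => ?_)
      have hco := Fintype.linearIndependent_iff.1 b.linearIndependent _ h0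
      rcases lt_trichotomy i (n + 1) with h | rfl | h
      · exact (sub_eq_zero.1 (hco ⟨i, h⟩)).symm
      · conv_lhs => rw [← rootPoly_natDegree g, (rootPoly_monic g).coeff_natDegree]
        conv_rhs => rw [← rootPoly_natDegree g', (rootPoly_monic g').coeff_natDegree]
      · rw [coeff_eq_zero_of_natDegree_lt ((rootPoly_natDegree g).trans_lt h),
          coeff_eq_zero_of_natDegree_lt ((rootPoly_natDegree g').trans_lt h)]

lemma aeval_prod_congr {ι : Type*} (s : Finset ι) {f : End K V} {A B : ι → K[X]}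
    (h : ∀ i ∈ s, aeval f (A i) = aeval f (B i)) :
    aeval f (∏ i ∈ s, A i) = aeval f (∏ i ∈ s, B i) := by
  classical
  induction s using Finset.induction with
  | empty => simp
  | @insert a s ha ih =>
    rw [Finset.prod_insert ha, Finset.prod_insert ha, map_mul, map_mul,
      h a (Finset.mem_insert_self _ _), ih fun i hi => h i (Finset.mem_insert_of_mem hi)]

/-- A scalar over a cyclic map is cyclic, with the quotients as roots. -/
lemma exists_cyc_div [FiniteDimensional K V] {n : ℕ} {M : End K V} {c : K} {d : Fin n → K}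
    (hc : c ≠ 0) (hd : ∀ i, d i ≠ 0) (h : Cyc M fun i => c / d i) :
    ∃ U : End K V, (∀ u, M (U u) = c • u) ∧ (∀ u, U (M u) = c • u) ∧ Cyc U d := by
  obtain ⟨⟨w, hw⟩, hann⟩ := h
  set P := rootPoly fun i => c / d i with hP
  have hP0 : P.coeff 0 ≠ 0 := by
    rw [coeff_zero_eq_eval_zero]
    intro h0
    obtain ⟨i, hi⟩ := (eval_rootPoly _ _).1 h0
    exact div_ne_zero hc (hd i) hi
  set t := C (-(c / P.coeff 0)) * P.divX with ht
  have hXt : X * t = C c - C (c / P.coeff 0) * P := by
    have e2 : C c = C (c / P.coeff 0) * C (P.coeff 0) := by rw [← C_mul, div_mul_cancel₀ _ hP0]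
    rw [e2, ht, map_neg]
    linear_combination (-C (c / P.coeff 0)) * (X_mul_divX_add P)
  set U := aeval M t with hU
  have hMU : ∀ u, M (U u) = c • u := fun u => by
    have h1 := LinearMap.congr_fun (congrArg (aeval M) hXt) u
    simpa [hann, Module.algebraMap_end_apply] using h1
  have hUM : ∀ u, U (M u) = c • u := fun u => by
    have h1 := LinearMap.congr_fun (congrArg (aeval M) ((mul_comm t X).trans hXt)) u
    simpa [hann, Module.algebraMap_end_apply] using h1
  have hUinj : Function.Injective U := fun a b hab => by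
    have := congrArg M hab
    rw [hMU, hMU] at this
    exact smul_right_injective V hc this
  refine ⟨U, hMU, hUM, ⟨w, ?_⟩, ?_⟩
  · set W := LinearMap.range
      (((aeval U).toLinearMap : K[X] →ₗ[K] V →ₗ[K] V).flip w) with hW
    have hmemW : ∀ u, u ∈ W ↔ ∃ q : K[X], aeval U q w = u := fun u => by simp [hW]
    have hUW : W.map U = W := by
      refine Submodule.eq_of_le_of_finrank_le ?_ (Submodule.equivMapOfInjective U hUinj W).finrank_eq.le
      rintro _ ⟨u, hu, rfl⟩
      obtain ⟨q, rfl⟩ := (hmemW u).1 hu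
      exact (hmemW _).2 ⟨X * q, by simp⟩
    have hMW : ∀ u ∈ W, M u ∈ W := fun u hu => by
      rw [← hUW] at hu
      obtain ⟨u', hu', rfl⟩ := hu
      rw [hMU]
      exact W.smul_mem c hu'
    have hall : ∀ (q : K[X]) (u), u ∈ W → aeval M q u ∈ W := fun q => by
      induction q using Polynomial.induction_on with
      | C a => intro u hu; simpa [Module.algebraMap_end_apply] using W.smul_mem a hu
      | add p q hp hq => intro u hu; simpa using W.add_mem (hp u hu) (hq u hu)
      | monomial k a ih =>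
        intro u hu
        rw [pow_succ, ← mul_assoc, map_mul, Module.End.mul_apply, aeval_X]
        exact ih _ (hMW u hu)
    intro u
    obtain ⟨q, rfl⟩ := hw u
    exact (hmemW _).1 (hall q w ((hmemW w).2 ⟨1, by simp⟩))
  · have hMinj : Function.Injective M := fun a b hab => by
      have := congrArg U hab
      rw [hUM, hUM] at this
      exact smul_right_injective V hc this
    have key : aeval U (rootPoly d) * M ^ n = 0 := by
      have h1 : aeval U (rootPoly d) = aeval M (∏ i, (t - C (d i))) := by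
        rw [hU, ← Polynomial.aeval_comp]
        simp [rootPoly, Polynomial.prod_comp]
      have h2 : (∏ i, (t - C (d i))) * X ^ n = ∏ i, ((t - C (d i)) * X) := by
        rw [Finset.prod_mul_distrib, Finset.prod_const, Finset.card_univ, Fintype.card_fin]
      rw [h1, show M ^ n = aeval M ((X : K[X]) ^ n) by simp, ← map_mul, h2,
        aeval_prod_congr (B := fun i => C (-d i) * (X - C (c / d i))) _ fun i _ => ?_,
        Finset.prod_mul_distrib, map_mul, ← rootPoly, ← hP, hann, mul_zero]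
      have h3 : (t - C (d i)) * X = C (-d i) * (X - C (c / d i)) - C (c / P.coeff 0) * P := by
        have e2 : C c = C (d i) * C (c / d i) := by rw [← C_mul, mul_div_cancel₀ _ (hd i)]
        rw [map_neg]
        linear_combination hXt + e2
      rw [h3, map_sub, map_mul (aeval M) (C (c / P.coeff 0)), hann, mul_zero, sub_zero]
    refine LinearMap.ext fun u => ?_
    obtain ⟨u', rfl⟩ : ∃ u', (M ^ n) u' = u :=
      LinearMap.surjective_of_injective (by rw [Module.End.coe_pow]; exact hMinj.iterate n) u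
    exact LinearMap.congr_fun key u'

/-- An equivalence carrying one rank-one datum to another of the same value. -/
lemma exists_equiv_rank_one [FiniteDimensional K V] {ψ₁ ψ₂ : Dual K V} {w₁ w₂ : V} (h1 : ψ₁ ≠ 0)
    (h2 : ψ₂ ≠ 0) (hw1 : w₁ ≠ 0) (hw2 : w₂ ≠ 0) (hs : ψ₁ w₁ = ψ₂ w₂) :
    ∃ S : V ≃ₗ[K] V, S w₁ = w₂ ∧ ∀ u, ψ₂ (S u) = ψ₁ u := by
  have hone : ∀ ψ : Dual K V, ψ ≠ 0 → ∃ u, ψ u = 1 := fun ψ hψ => by
    obtain ⟨u, hu⟩ : ∃ u, ψ u ≠ 0 := by
      by_contra! h
      exact hψ (LinearMap.ext h)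
    exact ⟨(ψ u)⁻¹ • u, by simp [hu]⟩
  -- automorphisms of a space move any non-zero vector to any other
  have htr : ∀ {W : Type _} [AddCommGroup W] [Module K W] [FiniteDimensional K W] (a b : W),
      a ≠ 0 → b ≠ 0 → ∃ e : W ≃ₗ[K] W, e a = b := by
    intro W _ _ _ a b ha hb
    obtain ⟨f, hfa, hfb⟩ : ∃ f : Dual K W, f a ≠ 0 ∧ f b ≠ 0 := by
      obtain ⟨p, hp⟩ : ∃ p : Dual K W, p a ≠ 0 := by
        by_contra! h
        exact ha ((Module.forall_dual_apply_eq_zero_iff K a).1 h)
      obtain ⟨q, hq⟩ : ∃ q : Dual K W, q b ≠ 0 := by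
        by_contra! h
        exact hb ((Module.forall_dual_apply_eq_zero_iff K b).1 h)
      by_cases hpb : p b = 0
      · by_cases hqa : q a = 0
        · exact ⟨p + q, by simp [hqa, hp], by simp [hpb, hq]⟩
        · exact ⟨q, hqa, hq⟩
      · exact ⟨p, hp, hpb⟩
    let E : End K W := LinearMap.id + ((f a)⁻¹ • f).smulRight (b - a)
    have hE : ∀ z, E z = z + ((f a)⁻¹ * f z) • (b - a) := fun z => by simp [E, mul_smul]
    refine ⟨LinearEquiv.ofInjectiveEndo E (LinearMap.ker_eq_bot.1
      (LinearMap.ker_eq_bot'.2 fun z hz => ?_)), ?_⟩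
    · have h := congrArg f hz
      rw [hE, map_add, map_smul, map_sub, map_zero, smul_eq_mul] at h
      have hfz : f z = 0 := by
        field_simp at h
        have h' : f z * f b = 0 := by linear_combination h
        exact (mul_eq_zero.1 h').resolve_right hfb
      rw [hE, hfz, mul_zero, zero_smul, add_zero] at hz
      exact hz
    · rw [LinearEquiv.coe_ofInjectiveEndo, hE, inv_mul_cancel₀ hfa, one_smul, add_sub_cancel]
  obtain ⟨u₁, u₂, hu1, hu2, hiff⟩ : ∃ u₁ u₂, ψ₁ u₁ = 1 ∧ ψ₂ u₂ = 1 ∧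
      (w₁ - ψ₁ w₁ • u₁ = 0 ↔ w₂ - ψ₂ w₂ • u₂ = 0) := by
    by_cases h0 : ψ₁ w₁ = 0
    · obtain ⟨u₁, hu1⟩ := hone ψ₁ h1
      obtain ⟨u₂, hu2⟩ := hone ψ₂ h2
      exact ⟨u₁, u₂, hu1, hu2, by simp [h0, ← hs, hw1, hw2]⟩
    · have h0' : ψ₂ w₂ ≠ 0 := hs ▸ h0
      exact ⟨(ψ₁ w₁)⁻¹ • w₁, (ψ₂ w₂)⁻¹ • w₂, by simp [h0], by simp [h0'],
        by simp [smul_smul, h0, h0']⟩
  obtain ⟨e₀⟩ : Nonempty (ker ψ₁ ≃ₗ[K] ker ψ₂) := FiniteDimensional.nonempty_linearEquiv_of_finrank_eq
    (by have := finrank_ker_phi hu1; have := finrank_ker_phi hu2; omega)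
  obtain ⟨e, he⟩ : ∃ e : ker ψ₁ ≃ₗ[K] ker ψ₂, e (proj hu1 w₁) = proj hu2 w₂ := by
    by_cases hz : proj hu1 w₁ = 0
    · refine ⟨e₀, ?_⟩
      rw [hz, map_zero]
      refine Subtype.ext ?_
      rw [coe_proj, hiff.1 (by simpa [coe_proj] using congrArg Subtype.val hz)]
      rfl
    · obtain ⟨a, ha⟩ := htr (e₀ (proj hu1 w₁)) (proj hu2 w₂) (by simpa using hz) (fun h => hz
        (Subtype.ext (by
          rw [coe_proj, hiff.2 (by simpa [coe_proj] using congrArg Subtype.val h)]
          rfl)))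
      exact ⟨e₀.trans a, ha⟩
  let E : End K V := ψ₁.smulRight u₂ + (ker ψ₂).subtype ∘ₗ e.toLinearMap ∘ₗ proj hu1
  have hE : ∀ u, E u = ψ₁ u • u₂ + (e (proj hu1 u) : V) := fun u => by simp [E]
  have hψE : ∀ u, ψ₂ (E u) = ψ₁ u := fun u => by
    simp [hE, hu2, mem_ker.1 (e (proj hu1 u)).2]
  refine ⟨LinearEquiv.ofInjectiveEndo E (LinearMap.ker_eq_bot.1
    (LinearMap.ker_eq_bot'.2 fun z hz => ?_)), ?_, hψE⟩
  · have h := hψE z
    rw [hz, map_zero] at h
    rw [hE, ← h, zero_smul, zero_add, Submodule.coe_eq_zero, LinearEquiv.map_eq_zero_iff] at hz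
    have h' := congrArg Subtype.val hz
    rwa [coe_proj, ← h, zero_smul, sub_zero] at h'
  · rw [LinearEquiv.coe_ofInjectiveEndo, hE, he, coe_proj, hs, add_sub_cancel]

/-- Scalar plus rank one is a product of two cyclic maps with prescribed roots. -/
theorem cyc_mul_of_rank_one [FiniteDimensional K V] {n : ℕ} (hn : finrank K V = n + 1) (h2 : 2 ≤ n)
    {T : End K V} {c : K} {g d : Fin (n + 1) → K} (hd : ∀ i, d i ≠ 0) (hc : c ≠ 0)
    (hT : finrank K (range (T - c • (1 : End K V))) = 1)
    (hdet : ∀ L U : End K V, Cyc L g → Cyc U d → LinearMap.det (L * U) = LinearMap.det T) :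
    ∃ L U : End K V, T = L * U ∧ Cyc L g ∧ Cyc U d := by
  obtain ⟨M, L, ψ, w, hM, hL, hψ, hw, hLM⟩ := exists_cyc_pair hn h2 g fun i => c / d i
  obtain ⟨U, hMU, hUM, hU⟩ := exists_cyc_div hc hd hM
  set ψ₁ : Dual K V := ψ ∘ₗ U with hψ₁
  have hLU : ∀ u, (L * U) u = c • u + ψ₁ u • w := fun u => by
    rw [Module.End.mul_apply, hLM, hMU]
    rfl
  have hψ₁0 : ψ₁ ≠ 0 := by
    intro h
    refine hψ (LinearMap.ext fun u => ?_)
    have h' := LinearMap.congr_fun h (M u)
    rw [hψ₁, LinearMap.comp_apply, hUM, map_smul, LinearMap.zero_apply, smul_eq_mul,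
      mul_eq_zero] at h'
    exact h'.resolve_left hc
  obtain ⟨⟨w₂, hw₂m⟩, hw₂, hspan⟩ := finrank_eq_one_iff'.1 hT
  have hw₂0 : w₂ ≠ 0 := fun h => hw₂ (Subtype.ext h)
  obtain ⟨f, hf⟩ : ∃ f : Dual K V, f w₂ = 1 := by
    obtain ⟨f, hf⟩ : ∃ f : Dual K V, f w₂ ≠ 0 := by
      by_contra! h
      exact hw₂0 ((Module.forall_dual_apply_eq_zero_iff K w₂).1 h)
    exact ⟨(f w₂)⁻¹ • f, by simp [hf]⟩
  set ψ₂ : Dual K V := f ∘ₗ (T - c • (1 : End K V)) with hψ₂
  have hT₂ : ∀ u, T u = c • u + ψ₂ u • w₂ := fun u => by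
    obtain ⟨a, ha⟩ := hspan ⟨_, LinearMap.mem_range_self (T - c • (1 : End K V)) u⟩
    have ha' : a • w₂ = (T - c • (1 : End K V)) u := congrArg Subtype.val ha
    rw [hψ₂, LinearMap.comp_apply, ← ha', map_smul, hf, smul_eq_mul, mul_one, ha']
    simp
  have hψ₂0 : ψ₂ ≠ 0 := fun h => by
    obtain ⟨u, hu⟩ := hw₂m
    refine hw₂0 ?_
    rw [← hu]
    simp [hT₂, h]
  have hdetf : ∀ (A : End K V) (φ : Dual K V) (v : V), (∀ u, A u = c • u + φ u • v) →
      LinearMap.det A = c ^ (n + 1) * (1 + c⁻¹ * φ v) := by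
    intro A φ v h
    have hA : A = c • LinearMap.transvection (c⁻¹ • φ) v := LinearMap.ext fun u => by
      rw [h, LinearMap.smul_apply, LinearMap.transvection.apply, smul_add, smul_smul]
      congr 1
      simp [← mul_assoc, hc]
    rw [hA, LinearMap.det_smul, hn, LinearMap.transvection.det]
    simp
  have hval : ψ₁ w = ψ₂ w₂ := by
    have h := hdet L U hL hU
    rw [hdetf _ _ _ hLU, hdetf _ _ _ hT₂] at h
    exact mul_left_cancel₀ (inv_ne_zero hc) (add_left_cancel (mul_left_cancel₀ (pow_ne_zero _ hc) h))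
  obtain ⟨S, hSw, hSψ⟩ := exists_equiv_rank_one hψ₁0 hψ₂0 hw hw₂0 hval
  refine ⟨_, _, LinearMap.ext fun u => ?_, hL.conj S, hU.conj S⟩
  obtain ⟨z, rfl⟩ := S.surjective u
  simp only [Module.End.mul_apply, LinearMap.comp_apply, LinearEquiv.coe_coe, S.symm_apply_apply]
  rw [← Module.End.mul_apply, hLU, map_add, map_smul, map_smul, hSw, hT₂, hSψ]

end CfsgLib.PSLCover
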