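import Cfsg.Agent.Lib.PSLCover.SourourStep

/-!
# The last two steps of the factorisation into two cyclic maps

In dimension three a cyclic vector leaves a non-scalar map without a given eigenvalue; in dimension
two such a map always takes one more step.
-/

set_option autoImplicit false
set_option linter.unusedSectionVars false
set_option linter.unusedVariables false

open Module
open LinearMap (ker range mem_ker mem_range_self)
open CfsgLib.KnownSimple.RegUnip (HasMoreThan exists_notMem exists_affine_avoid exists_noneigen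
  notMem_span_of comap_ne_top finrank_ker_phi)

namespace CfsgLib.PSLCover

variable {K : Type*} [Field K] {V : Type*} [AddCommGroup V] [Module K V] {μ : K}

/-- The step in dimension two. -/
lemma exists_step_two [FiniteDimensional K V] (hK : HasMoreThan K 3) {T : End K V}
    (hn : finrank K V = 2) (hns : ¬ ∃ c : K, T = c • 1)
    (hinj : ker (T - μ • (1 : End K V)) = ⊥) (hμ : μ ≠ 0) {x : V} {y : Dual K V} (hx : x ≠ 0)
    (hy : y ≠ 0) :
    ∃ v, ∃ φ : Dual K V, φ (T v) = μ ∧ φ v = 1 ∧ φ x ≠ 0 ∧ y v ≠ 0 ∧ T v ∉ K ∙ v ∧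
      ∃ u, φ (T u) ≠ μ * φ u := by
  have hrk := LinearMap.finrank_range_add_finrank_ker (T - μ • (1 : End K V))
  rw [hinj, finrank_bot, add_zero, hn] at hrk
  obtain ⟨v, hv1, hv2, hne⟩ := exists_noneigen hK hns
    (fun h => hy (LinearMap.ker_eq_top.1 h) : ker y ≠ ⊤) (comap_ne_top hrk.ge x)
  obtain ⟨φ, h1, h2, h3, h4⟩ := exists_functional hK hμ hne [x] (by
    intro z hz
    rw [List.mem_singleton] at hz
    subst hz
    exact notMem_span_of hx (by simpa using hv2)) hrk.ge (Or.inl (by simp))
  exact ⟨v, φ, h2, h1, h3 x (by simp), by simpa using hv1, hne, h4⟩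

/-- Outside the proper invariant planes and off eigenvectors a vector is cyclic in dimension
three. -/
lemma cyclic_of_avoid [FiniteDimensional K V] {T : End K V} (hn : finrank K V = 3) (hW : Wide T)
    {v : V} (hne : T v ∉ K ∙ v)
    (hR : ∀ e : K, range (T - e • (1 : End K V)) ≠ ⊤ → v ∉ range (T - e • (1 : End K V))) :
    T (T v) ∉ Submodule.span K ({v, T v} : Set V) := by
  intro h
  have hv0 : v ≠ 0 := fun h0 => hne (by simp [h0])
  set P := Submodule.span K ({v, T v} : Set V) with hP
  have hsup : P = (K ∙ v) ⊔ K ∙ T v := by rw [hP, Submodule.span_insert]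
  have hP2 : finrank K P = 2 := by
    rw [hsup, finrank_sup_line hne, finrank_span_singleton hv0]
  have hPT : ∀ z ∈ P, T z ∈ P := by
    intro z hz
    obtain ⟨a, b, rfl⟩ := Submodule.mem_span_pair.1 hz
    rw [map_add, map_smul, map_smul]
    exact P.add_mem (P.smul_mem _ (Submodule.subset_span (by simp))) (P.smul_mem _ h)
  obtain ⟨u, hu⟩ : ∃ u, u ∉ P := by
    by_contra! hall
    rw [show P = ⊤ from eq_top_iff.2 fun z _ => hall z, finrank_top] at hP2
    omega
  obtain ⟨f, hfu, hfP⟩ := Submodule.exists_dual_map_eq_bot_of_notMem hu inferInstance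
  have hle : P ≤ ker f := fun z hz => by
    simpa [hfP] using Submodule.mem_map_of_mem (f := f) hz
  have hker : P = ker f := Submodule.eq_of_le_of_finrank_le hle (by
    have h1 := finrank_ker_phi (φ := (f u)⁻¹ • f) (v := u) (by simp [hfu])
    rw [LinearMap.ker_smul _ _ (inv_ne_zero hfu)] at h1
    omega)
  set e := f (T u) / f u with he
  have hrange : range (T - e • (1 : End K V)) ≤ P := by
    rintro _ ⟨z, rfl⟩
    rw [hker, mem_ker]
    have h1 : f (T (z - (f z / f u) • u)) = 0 := hle (hPT _ (by
      rw [hker, mem_ker, map_sub, map_smul, smul_eq_mul, div_mul_cancel₀ _ hfu, sub_self]))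
    rw [map_sub, map_smul, map_sub, map_smul, smul_eq_mul, sub_eq_zero] at h1
    simp only [LinearMap.sub_apply, LinearMap.smul_apply, Module.End.one_apply, map_sub, map_smul,
      smul_eq_mul, h1, he]
    field_simp
    ring
  have heq : range (T - e • (1 : End K V)) = P :=
    Submodule.eq_of_le_of_finrank_le hrange (by rw [hP2]; exact hW e)
  exact hR e (fun htop => hu (by rw [← heq, htop]; trivial))
    (by rw [heq]; exact Submodule.subset_span (by simp))

/-- A cyclic vector outside two given subspaces in dimension three. -/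
lemma exists_cyclic_avoid [FiniteDimensional K V] [Fintype K] (hK : HasMoreThan K 3) {T : End K V}
    (hn : finrank K V = 3) (hW : Wide T) {A B : Submodule K V} (hA : A ≠ ⊤) (hB : B ≠ ⊤) :
    ∃ v, v ∉ A ∧ v ∉ B ∧ T v ∉ K ∙ v ∧ T (T v) ∉ Submodule.span K ({v, T v} : Set V) ∧
      ∀ e : K, range (T - e • (1 : End K V)) ≠ ⊤ → v ∉ range (T - e • (1 : End K V)) := by
  classical
  let R : K → Submodule K V := fun c => range (T - c • (1 : End K V))
  let N : K → Submodule K V := fun c => ker (T - c • (1 : End K V))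
  set E := (Finset.univ : Finset K).filter fun e => R e ≠ ⊤ with hE
  have hmem : ∀ e, e ∈ E ↔ R e ≠ ⊤ := fun e => by simp [hE]
  have hN1 : ∀ e ∈ E, 1 ≤ finrank K (N e) := fun e he => by
    have h1 := LinearMap.finrank_range_add_finrank_ker (T - e • (1 : End K V))
    have h2 := Submodule.finrank_lt ((hmem e).1 he)
    simp only [R, N] at *
    omega
  have hE3 : E.card ≤ 3 := by
    have h1 := sum_finrank_ker_le T E
    have h2 : ∑ _c ∈ E, 1 ≤ ∑ c ∈ E, finrank K (ker (T - c • (1 : End K V))) :=
      Finset.sum_le_sum hN1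
    simp at h2
    omega
  obtain ⟨v, hv1, hv2, hvR, hvN⟩ : ∃ v, v ∉ A ∧ v ∉ B ∧ (∀ e ∈ E, v ∉ R e) ∧
      ∀ e, E = {e} → v ∉ N e := by
    rcases Nat.lt_or_ge E.card 3 with h3 | h3
    · by_cases h1 : ∃ a, E = {a}
      · obtain ⟨a, ha⟩ := h1
        obtain ⟨v, hv⟩ := exists_notMem hK {A, B, R a, N a} Finset.card_le_four (by
          simp [hA, hB, (hmem a).1 (by simp [ha]), N, ker_ne_top_of_wide hW a])
        simp only [Finset.mem_insert, Finset.mem_singleton, forall_eq_or_imp, forall_eq] at hv
        refine ⟨v, hv.1, hv.2.1, fun e he => ?_, fun e he => ?_⟩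
        · rw [ha, Finset.mem_singleton] at he
          subst he
          exact hv.2.2.1
        · rw [ha, Finset.singleton_inj] at he
          subst he
          exact hv.2.2.2
      · obtain ⟨v, hv⟩ := exists_notMem hK (insert A (insert B (E.image R)))
          (by
            have := Finset.card_image_le (s := E) (f := R)
            have := Finset.card_insert_le A (insert B (E.image R))
            have := Finset.card_insert_le B (E.image R)
            omega)
          (by
            simp only [Finset.mem_insert, Finset.mem_image, forall_eq_or_imp, forall_exists_index,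
              and_imp]
            exact ⟨hA, hB, fun S e he hS => hS ▸ (hmem e).1 he⟩)
        simp only [Finset.mem_insert, Finset.mem_image, forall_eq_or_imp, forall_exists_index,
          and_imp] at hv
        exact ⟨v, hv.1, hv.2.1, fun e he => hv.2.2 _ e he rfl, fun e he => absurd ⟨e, he⟩ h1⟩
    · obtain ⟨a, b, c, hab, hac, hbc, habc⟩ := Finset.card_eq_three.1 (le_antisymm hE3 h3)
      have haE : a ∈ E := by simp [habc]
      have hbE : b ∈ E := by simp [habc]
      have hcE : c ∈ E := by simp [habc]
      obtain ⟨v, hv⟩ := exists_notMem hK {A, B, R a, R b} Finset.card_le_four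
        (by simp [hA, hB, (hmem a).1 haE, (hmem b).1 hbE])
      simp only [Finset.mem_insert, Finset.mem_singleton, forall_eq_or_imp, forall_eq] at hv
      obtain ⟨hv1, hv2, hv3, hv4⟩ := hv
      have hex : ∀ e ∈ E, ∃ k, k ≠ 0 ∧ T k = e • k := fun e he => by
        obtain ⟨k, hk, hk0⟩ := Submodule.exists_mem_ne_zero_of_ne_bot
          (fun h : N e = ⊥ => by have := hN1 e he; rw [h, finrank_bot] at this; omega)
        exact ⟨k, hk0, sub_eq_zero.1 (by simpa [N] using hk)⟩
      obtain ⟨ka, hka0, hka⟩ := hex a haE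
      obtain ⟨kb, hkb0, hkb⟩ := hex b hbE
      obtain ⟨kc, hkc0, hkc⟩ := hex c hcE
      have hnc : kc ∉ R c := by
        intro hin
        have hli : LinearIndependent K ![ka, kb, kc] := by
          refine Module.End.eigenvectors_linearIndependent' T ![a, b, c] ?_ _ ?_
          · intro i j hij
            fin_cases i <;> fin_cases j <;> simp_all [eq_comm]
          · intro i
            fin_cases i <;>
              simp [Module.End.hasEigenvector_iff, Module.End.mem_eigenspace_iff, hka, hkb, hkc,
                hka0, hkb0, hkc0]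
        have htop := hli.span_eq_top_of_card_eq_finrank (by simp [hn])
        refine (hmem c).1 hcE (eq_top_iff.2 (htop ▸ Submodule.span_le.2 ?_))
        rintro _ ⟨i, rfl⟩
        fin_cases i
        · exact mem_range_of_eigen hka hac
        · exact mem_range_of_eigen hkb hbc
        · exact hin
      obtain ⟨d, hd, hd'⟩ := exists_affine_avoid hK (K ∙ kc) v {A, B, R c} Finset.card_le_three (by
        simp only [Finset.mem_insert, Finset.mem_singleton, forall_eq_or_imp, forall_eq]
        refine ⟨⟨0, Submodule.zero_mem _, by simpa⟩, ⟨0, Submodule.zero_mem _, by simpa⟩, ?_⟩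
        by_cases hvc : v ∈ R c
        · exact ⟨kc, Submodule.mem_span_singleton_self _, fun h => hnc
            (by simpa using Submodule.sub_mem _ h hvc)⟩
        · exact ⟨0, Submodule.zero_mem _, by simpa⟩)
      simp only [Finset.mem_insert, Finset.mem_singleton, forall_eq_or_imp, forall_eq] at hd'
      obtain ⟨s, rfl⟩ := Submodule.mem_span_singleton.1 hd
      have hstay : ∀ e : K, c ≠ e → v ∉ R e → v + s • kc ∉ R e := fun e he hve h => hve (by
        simpa using Submodule.sub_mem _ h (Submodule.smul_mem _ s (mem_range_of_eigen hkc he)))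
      refine ⟨v + s • kc, hd'.1, hd'.2.1, ?_, fun e he => ?_⟩
      · rw [habc]
        simp only [Finset.mem_insert, Finset.mem_singleton, forall_eq_or_imp, forall_eq]
        exact ⟨hstay a hac.symm hv3, hstay b hbc.symm hv4, hd'.2.2⟩
      · exfalso
        have := congrArg Finset.card he
        rw [Finset.card_singleton] at this
        omega
  have hne : T v ∉ K ∙ v := by
    intro h
    obtain ⟨e, he⟩ := Submodule.mem_span_singleton.1 h
    have hv0 : v ≠ 0 := fun h0 => hv1 (by simp [h0])
    have heE : e ∈ E := (hmem e).2 fun htop => hv0 ((Submodule.mem_bot K).1 (by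
      have h1 : N e = ⊥ := LinearMap.ker_eq_bot.2
        (LinearMap.injective_iff_surjective.2 (LinearMap.range_eq_top.1 htop))
      rw [← h1]
      simp [N, ← he]))
    by_cases h1 : ∃ b ∈ E, b ≠ e
    · obtain ⟨b, hb, hbe⟩ := h1
      exact hvR b hb (mem_range_of_eigen he.symm hbe.symm)
    · push Not at h1
      exact hvN e (Finset.eq_singleton_iff_unique_mem.2 ⟨heE, h1⟩) (by simp [N, ← he])
  exact ⟨v, hv1, hv2, hne, cyclic_of_avoid hn hW hne fun e he => hvR e ((hmem e).2 he),
    fun e he => hvR e ((hmem e).2 he)⟩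

/-- The step in dimension three leaves a non-scalar map without the eigenvalue `a`. -/
lemma exists_step_three [FiniteDimensional K V] [Fintype K] (hK : HasMoreThan K 3) {T : End K V}
    (hn : finrank K V = 3) (hW : Wide T) (hdet : LinearMap.det T ≠ 0) (hμ : μ ≠ 0) (a : K) {x : V}
    {y : Dual K V} (hx : x ≠ 0) (hy : y ≠ 0) :
    ∃ v, ∃ φ : Dual K V, ∃ hTv : φ (T v) = μ,
      φ v = 1 ∧ φ x ≠ 0 ∧ y v ≠ 0 ∧ T v ∉ K ∙ v ∧ (∃ u, φ (T u) ≠ μ * φ u) ∧
      (¬ ∃ c : K, rest T hμ hTv = c • 1) ∧
      ker (rest T hμ hTv - a • (1 : End K (ker φ))) = ⊥ := by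
  obtain ⟨v, hv1, hv2, hne, hcyc, hR⟩ := exists_cyclic_avoid hK hn hW
    (fun h => hy (LinearMap.ker_eq_top.1 h) : ker y ≠ ⊤) (comap_ne_top (hW μ) x)
  have hT0 : range (T - (0 : K) • (1 : End K V)) = ⊤ := by
    have hunit : IsUnit T := (LinearMap.isUnit_iff_isUnit_det T).2 (isUnit_iff_ne_zero.2 hdet)
    simp only [zero_smul, sub_zero]
    exact LinearMap.range_eq_top.2 ((Module.End.isUnit_iff T).1 hunit).2
  have hline : ∀ c : K, ∃ w, w ≠ 0 ∧ (T - c • (1 : End K V)) w ∈ K ∙ T v ∧
      ∀ h, (T - c • (1 : End K V)) h ∈ K ∙ T v → h ∈ K ∙ w := by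
    intro c
    have hTv0 : T v ≠ 0 := fun h => hne (by simp [h])
    by_cases htop : range (T - c • (1 : End K V)) = ⊤
    · have hinj := LinearMap.injective_iff_surjective.2 (LinearMap.range_eq_top.1 htop)
      obtain ⟨w, hw⟩ := LinearMap.range_eq_top.1 htop (T v)
      refine ⟨w, fun h => hTv0 (by rw [← hw, h, map_zero]),
        by rw [hw]; exact Submodule.mem_span_singleton_self _, fun h hh => ?_⟩
      obtain ⟨t, ht⟩ := Submodule.mem_span_singleton.1 hh
      exact Submodule.mem_span_singleton.2 ⟨t, hinj (by rw [map_smul, hw, ht])⟩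
    · have hc : c ≠ 0 := fun h => htop (h ▸ hT0)
      have h1 := LinearMap.finrank_range_add_finrank_ker (T - c • (1 : End K V))
      have h2 := Submodule.finrank_lt htop
      have h3 := hW c
      have hN : finrank K (ker (T - c • (1 : End K V))) = 1 := by omega
      obtain ⟨w, hw, hw0⟩ := Submodule.exists_mem_ne_zero_of_ne_bot
        (fun h : ker (T - c • (1 : End K V)) = ⊥ => by rw [h, finrank_bot] at hN; omega)
      refine ⟨w, hw0, by rw [mem_ker.1 hw]; exact Submodule.zero_mem _, fun h hh => ?_⟩
      obtain ⟨t, ht⟩ := Submodule.mem_span_singleton.1 hh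
      have ht0 : t = 0 := by
        by_contra ht0
        refine apply_notMem_range hc (hR c htop) ((Submodule.smul_mem_iff _ ht0).1 ?_)
        rw [ht]
        exact mem_range_self _ h
      rw [ht0, zero_smul] at ht
      have heq : K ∙ w = ker (T - c • (1 : End K V)) := Submodule.eq_of_le_of_finrank_le
        ((Submodule.span_singleton_le_iff_mem _ _).2 hw) (by rw [hN, finrank_span_singleton hw0])
      rw [heq, mem_ker, ← ht]
  obtain ⟨w, hw0, hw, hwh⟩ := hline a
  have hwn : w ∉ K ∙ (T v - μ • v) := by
    intro h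
    obtain ⟨s, hs⟩ := Submodule.mem_span_singleton.1 h
    have hs0 : s ≠ 0 := fun h0 => hw0 (by rw [← hs, h0, zero_smul])
    rw [← hs, map_smul, Submodule.smul_mem_iff _ hs0] at hw
    obtain ⟨t, ht⟩ := Submodule.mem_span_singleton.1 hw
    refine hcyc (Submodule.mem_span_pair.2 ⟨-(a * μ), t + μ + a, ?_⟩)
    simp only [LinearMap.sub_apply, LinearMap.smul_apply, Module.End.one_apply, map_sub,
      map_smul] at ht
    linear_combination (norm := module) ht
  obtain ⟨φ, hφv, hφT, hφZ, hφe⟩ := exists_functional hK hμ hne [x, w] (by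
    intro z hz
    simp only [List.mem_cons, List.not_mem_nil, or_false] at hz
    rcases hz with rfl | rfl
    · exact notMem_span_of hx (by simpa using hv2)
    · exact hwn) (hW μ) (Or.inl (by simp))
  have hmem : ∀ (c : K) (h : ker φ), rest T hμ hφT h = c • h →
      (T - c • (1 : End K V)) (h : V) ∈ K ∙ T v := by
    intro c h he
    have := congrArg Subtype.val he
    rw [coe_rest, Submodule.coe_smul, sub_eq_iff_eq_add] at this
    refine Submodule.mem_span_singleton.2 ⟨μ⁻¹ * φ (T h), ?_⟩
    rw [LinearMap.sub_apply, LinearMap.smul_apply, Module.End.one_apply, eq_sub_iff_add_eq, add_comm]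
    exact this.symm
  refine ⟨v, φ, hφT, hφv, hφZ x (by simp), by simpa using hv1, hne, hφe, ?_, ?_⟩
  · rintro ⟨c, hc⟩
    obtain ⟨u, hu0, -, hu⟩ := hline c
    have hle : ker φ ≤ K ∙ u := fun h hh => hu h (hmem c ⟨h, hh⟩ (by simp [hc]))
    have h1 := finrank_ker_phi hφv
    have h2 := Submodule.finrank_mono hle
    rw [finrank_span_singleton hu0] at h2
    omega
  · refine LinearMap.ker_eq_bot'.2 fun h hh => ?_
    rw [LinearMap.sub_apply, sub_eq_zero, LinearMap.smul_apply, Module.End.one_apply] at hh
    obtain ⟨t, ht⟩ := Submodule.mem_span_singleton.1 (hwh _ (hmem a h hh))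
    have h0 := mem_ker.1 h.2
    rw [← ht, map_smul, smul_eq_mul, mul_eq_zero] at h0
    refine Subtype.ext ?_
    rw [← ht, h0.resolve_right (hφZ w (by simp)), zero_smul, Submodule.coe_zero]

end CfsgLib.PSLCover
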