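import Cfsg.Agent.Lib.PSLCover.Basic
import Cfsg.Agent.Lib.PSLCover.SourourSmall
import Cfsg.Agent.Lib.PSLCover.SourourRankOne

/-!
# Products of two cyclic matrices with prescribed roots

Every non-scalar invertible matrix of degree at least three over a finite field with at least four
elements is a product of two cyclic matrices with any prescribed non-zero root lists of the right
determinant.
-/

set_option autoImplicit false
set_option linter.unusedSectionVars false
set_option linter.unusedVariables false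

open Module Polynomial
open LinearMap (ker range mem_ker)
open CfsgLib.KnownSimple.RegUnip (HasMoreThan hasMoreThan_of_le_mk proj coe_proj finrank_ker_phi)

namespace CfsgLib.PSLCover

universe u

variable {K : Type*} [Field K] {V : Type u} [AddCommGroup V] [Module K V]

/-- The recursion. -/
theorem factors [Fintype K] (hK : HasMoreThan K 3) (n : ℕ) :
    ∀ {V : Type u} [AddCommGroup V] [Module K V] [FiniteDimensional K V], finrank K V = n + 1 →
      ∀ (T : End K V) (g d : Fin (n + 1) → K), Grouped g → Grouped d → (∀ i, g i ≠ 0) →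
      (∀ i, d i ≠ 0) → LinearMap.det T = (∏ i, g i) * ∏ i, d i →
      (n = 1 → (¬ ∃ c : K, T = c • 1) ∧ ker (T - (g 0 * d 0) • (1 : End K V)) = ⊥) →
      (2 ≤ n → Wide T) →
      ∀ (x : V) (y : Dual K V), x ≠ 0 → y ≠ 0 → Factors g d T x y := by
  induction n with
  | zero =>
    intro V _ _ _ hn T g d _ _ hg hd hdet _ _ x y hx hy
    obtain ⟨b, hb⟩ : ∃ b : V, b ≠ 0 :=
      have : Nontrivial V := Module.nontrivial_of_finrank_pos (R := K) (by omega)
      exists_ne 0
    obtain ⟨c, hc⟩ := (finrank_eq_one_iff_of_nonzero' b hb).1 hn (T b)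
    have hT : T = c • 1 := LinearMap.ext fun u => by
      obtain ⟨a, rfl⟩ := (finrank_eq_one_iff_of_nonzero' b hb).1 hn u
      rw [map_smul, ← hc, LinearMap.smul_apply, Module.End.one_apply, smul_comm]
    have hc' : c = g 0 * d 0 := by
      rw [hT, LinearMap.det_smul, hn, map_one, mul_one] at hdet
      simpa using hdet
    have hcyc : ∀ f : Fin (0 + 1) → K, Cyc (f 0 • (1 : End K V)) f := fun f => by
      refine ⟨⟨b, fun u => ?_⟩, ?_⟩
      · obtain ⟨a, rfl⟩ := (finrank_eq_one_iff_of_nonzero' b hb).1 hn u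
        exact ⟨C a, by simp [Module.algebraMap_end_apply]⟩
      · simp [rootPoly, Algebra.algebraMap_eq_smul_one]
    obtain ⟨e, he⟩ : ∃ e, y e ≠ 0 := by
      by_contra! h0
      exact hy (LinearMap.ext h0)
    refine ⟨g 0 • 1, d 0 • 1, ?_, hcyc g, hcyc d, ?_, e, by simp, he⟩
    · rw [hT, hc', smul_mul_smul_comm, one_mul]
    · simpa using hx
  | succ m ih =>
    intro V _ _ _ hn T g d hgg hdg hg hd hdet h2 h3 x y hx hy
    have hμ : g 0 * d 0 ≠ 0 := mul_ne_zero (hg 0) (hd 0)
    have hdetT : LinearMap.det T ≠ 0 := by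
      rw [hdet]
      exact mul_ne_zero (Finset.prod_ne_zero_iff.2 fun i _ => hg i)
        (Finset.prod_ne_zero_iff.2 fun i _ => hd i)
    have finish : ∀ (v : V) (φ : Dual K V) (hTv : φ (T v) = g 0 * d 0), φ v = 1 → φ x ≠ 0 →
        y v ≠ 0 → T v ∉ K ∙ v → (∃ u, φ (T u) ≠ g 0 * d 0 * φ u) →
        (m = 1 → (¬ ∃ c : K, rest T hμ hTv = c • 1) ∧ ker (rest T hμ hTv -
          (Fin.tail g 0 * Fin.tail d 0) • (1 : End K (ker φ))) = ⊥) →
        (2 ≤ m → Wide (rest T hμ hTv)) → Factors g d T x y := by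
      intro v φ hTv hv hφx hyv hne ⟨u, hu⟩ hone hwide
      have hk : finrank K (ker φ) = m + 1 := by have := finrank_ker_phi hv; omega
      refine factors_extend hgg hdg (hg 0) (hd 0) hμ hv hTv hk hφx hyv fun x' c hx' hc => ?_
      refine ih hk _ _ _ hgg.tail hdg.tail (fun i => hg _) (fun i => hd _) ?_ hone hwide x' c ?_ ?_
      · have h := det_rest (T := T) hv hμ hTv
        rw [hdet, Fin.prod_univ_succ (f := g), Fin.prod_univ_succ (f := d), mul_mul_mul_comm] at h
        exact (mul_left_cancel₀ hμ h).symm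
      · intro h0
        rw [h0, Submodule.coe_zero, eq_comm, sub_eq_zero] at hx'
        refine hne (Submodule.mem_span_singleton.2 ⟨d 0 * g 0, ?_⟩)
        rw [mul_smul, ← hx', smul_inv_smul₀ (hd 0)]
      · intro h0
        refine hu ?_
        have h := LinearMap.congr_fun h0 (proj hv u)
        rw [hc] at h
        simp only [LinearMap.smul_apply, LinearMap.comp_apply, Submodule.subtype_apply,
          LinearMap.zero_apply, smul_eq_mul, mul_eq_zero, inv_eq_zero, hg 0, false_or, coe_proj,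
          map_sub, map_smul, hTv, sub_eq_zero] at h
        rw [h, mul_comm]
    rcases Nat.lt_or_ge m 1 with hm | hm
    · obtain ⟨hns, hinj⟩ := h2 (by omega)
      obtain ⟨v, φ, hTv, hv, hφx, hyv, hne, hu⟩ :=
        exists_step_two hK (by omega) hns hinj hμ hx hy
      exact finish v φ hTv hv hφx hyv hne hu (fun h => absurd h (by omega))
        (fun h => absurd h (by omega))
    · rcases Nat.lt_or_ge m 2 with hm' | hm'
      · obtain ⟨v, φ, hTv, hv, hφx, hyv, hne, hu, hns, hinj⟩ :=
          exists_step_three hK (by omega) (h3 (by omega)) hdetT hμ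
            (Fin.tail g 0 * Fin.tail d 0) hx hy
        exact finish v φ hTv hv hφx hyv hne hu (fun _ => ⟨hns, hinj⟩) (fun h => absurd h (by omega))
      · obtain ⟨v, φ, hTv, hv, hφx, hyv, hne, hu, hW⟩ :=
          exists_step_large hK (h3 (by omega)) (by omega) hdetT hμ hx hy
        exact finish v φ hTv hv hφx hyv hne hu (fun h => absurd h (by omega)) (fun _ => hW)

lemma Cyc.charpoly_eq [FiniteDimensional K V] {n : ℕ} (hn : finrank K V = n) {f : End K V}
    {g : Fin n → K} (h : Cyc f g) : f.charpoly = rootPoly g := by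
  obtain ⟨⟨w, hw⟩, hann⟩ := h
  exact Polynomial.eq_of_monic_of_dvd_of_natDegree_le (rootPoly_monic g) f.charpoly_monic
    (dvd_of_aeval_eq_zero hn hw (rootPoly_monic g) (rootPoly_natDegree g) hann
      (by rw [LinearMap.aeval_self_charpoly]; rfl))
    (by rw [LinearMap.charpoly_natDegree, rootPoly_natDegree, hn])

lemma Cyc.det_eq [FiniteDimensional K V] {n : ℕ} (hn : finrank K V = n) {f : End K V}
    {g : Fin n → K} (h : Cyc f g) : LinearMap.det f = ∏ i, g i := by
  rw [LinearMap.det_eq_sign_charpoly_coeff, h.charpoly_eq hn, hn, coeff_zero_eq_eval_zero,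
    rootPoly, eval_prod]
  simp [Finset.prod_neg, ← mul_assoc, ← mul_pow]

lemma exists_grouped [Fintype K] {n : ℕ} (g : Fin n → K) :
    ∃ σ : Equiv.Perm (Fin n), Grouped (g ∘ σ) := by
  let e := Fintype.equivFin K
  refine ⟨Tuple.sort (e ∘ g), fun i j k hij hjk h => ?_⟩
  have hm := Tuple.monotone_sort (e ∘ g)
  have h1 : e (g (Tuple.sort (e ∘ g) i)) ≤ e (g (Tuple.sort (e ∘ g) j)) := hm hij
  have h2 : e (g (Tuple.sort (e ∘ g) j)) ≤ e (g (Tuple.sort (e ∘ g) k)) := hm hjk
  simp only [Function.comp_apply] at h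
  rw [← h] at h2
  exact e.injective (le_antisymm h2 h1)

variable {F : Type*} [Field F]

lemma splitCyc_of_cyc {n : ℕ} {X : Matrix (Fin n) (Fin n) F} {g β : Fin n → F}
    {σ : Equiv.Perm (Fin n)} (hσ : g = β ∘ σ) (h : Cyc (Matrix.toLinAlgEquiv' X) g) :
    SplitCyc X β := by
  refine ⟨?_, ?_⟩
  · obtain ⟨⟨w, hw⟩, -⟩ := h
    refine ⟨w, eq_top_iff.2 fun u _ => ?_⟩
    obtain ⟨p, rfl⟩ := hw u
    rw [aeval_eq_sum_range, LinearMap.sum_apply]
    refine Submodule.sum_mem _ fun i _ => ?_
    rw [LinearMap.smul_apply, ← map_pow, Matrix.toLinAlgEquiv'_apply]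
    exact Submodule.smul_mem _ _ (Submodule.subset_span ⟨i, rfl⟩)
  · have h1 := h.charpoly_eq (finrank_fin_fun F)
    rw [show Matrix.toLinAlgEquiv' X = Matrix.toLin' X from rfl, Matrix.charpoly_toLin'] at h1
    rw [h1, rootPoly, hσ]
    exact Equiv.prod_comp σ fun i => Polynomial.X - Polynomial.C (β i)

theorem exists_splitCyc_mul {n : ℕ} (hn : 3 ≤ n) [Fintype F] (hq : 4 ≤ Fintype.card F)
    (B : GL (Fin n) F) (hB : NonScalar B) (β γ : Fin n → F) (hb : ∀ i, β i ≠ 0)
    (hc : ∀ i, γ i ≠ 0)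
    (hdet : (B : Matrix (Fin n) (Fin n) F).det = (∏ i, β i) * ∏ i, γ i) :
    ∃ L U : GL (Fin n) F, B = L * U ∧ SplitCyc (L : Matrix (Fin n) (Fin n) F) β ∧
      SplitCyc (U : Matrix (Fin n) (Fin n) F) γ := by
  obtain ⟨m, rfl⟩ : ∃ m, n = m + 1 := ⟨n - 1, by omega⟩
  have hK : HasMoreThan F 3 := hasMoreThan_of_le_mk (by
    rw [Cardinal.mk_fintype, Nat.cast_le]; exact hq)
  let A : Matrix (Fin (m + 1)) (Fin (m + 1)) F ≃ₐ[F] End F (Fin (m + 1) → F) :=
    Matrix.toLinAlgEquiv'
  obtain ⟨σ, hσ⟩ := exists_grouped β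
  obtain ⟨τ, hτ⟩ := exists_grouped γ
  set T := A (B : Matrix (Fin (m + 1)) (Fin (m + 1)) F) with hTdef
  have hTdet : LinearMap.det T = (∏ i, (β ∘ σ) i) * ∏ i, (γ ∘ τ) i := by
    rw [show T = Matrix.toLin' (B : Matrix (Fin (m + 1)) (Fin (m + 1)) F) from rfl,
      LinearMap.det_toLin', hdet]
    congr 1
    · exact (Equiv.prod_comp σ β).symm
    · exact (Equiv.prod_comp τ γ).symm
  have hfin : finrank F (Fin (m + 1) → F) = m + 1 := finrank_fin_fun F
  obtain ⟨L, U, hLU, hL, hU⟩ : ∃ L U : End F (Fin (m + 1) → F),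
      T = L * U ∧ Cyc L (β ∘ σ) ∧ Cyc U (γ ∘ τ) := by
    by_cases hW : Wide T
    · have : Nontrivial (Fin (m + 1) → F) := Module.nontrivial_of_finrank_pos (R := F) (by omega)
      obtain ⟨x, hx⟩ := exists_ne (0 : Fin (m + 1) → F)
      obtain ⟨y, hy⟩ := exists_ne (0 : Dual F (Fin (m + 1) → F))
      obtain ⟨L, U, h1, h2, h3, -⟩ := factors hK m hfin T _ _ hσ hτ (fun i => hb _) (fun i => hc _)
        hTdet (fun h => absurd h (by omega)) (fun _ => hW) x y hx hy
      exact ⟨L, U, h1, h2, h3⟩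
    · simp only [Wide, not_forall, not_le] at hW
      obtain ⟨c, hc'⟩ := hW
      have h1 : finrank F (range (T - c • (1 : End F (Fin (m + 1) → F)))) = 1 := by
        refine le_antisymm (by omega) (Nat.one_le_iff_ne_zero.2 fun h0 => hB c (A.injective ?_))
        rw [map_smul, map_one]
        exact sub_eq_zero.1 (LinearMap.range_eq_bot.1 (Submodule.finrank_eq_zero.1 h0))
      have hc0 : c ≠ 0 := by
        rintro rfl
        have hd0 : LinearMap.det T ≠ 0 := by
          rw [hTdet]
          exact mul_ne_zero (Finset.prod_ne_zero_iff.2 fun i _ => hb _)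
            (Finset.prod_ne_zero_iff.2 fun i _ => hc _)
        have hunit : IsUnit T := (LinearMap.isUnit_iff_isUnit_det T).2 (isUnit_iff_ne_zero.2 hd0)
        rw [zero_smul, sub_zero, LinearMap.range_eq_top.2 ((Module.End.isUnit_iff T).1 hunit).2,
          finrank_top, hfin] at h1
        omega
      exact cyc_mul_of_rank_one hfin (by omega) (fun i => hc _) hc0 h1 fun L U hL hU => by
        rw [map_mul, hL.det_eq hfin, hU.det_eq hfin, hTdet]
  have hdL : IsUnit (A.symm L).det ∧ IsUnit (A.symm U).det := by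
    have h : IsUnit ((A.symm L).det * (A.symm U).det) := by
      rw [← Matrix.det_mul, ← map_mul, ← hLU, hTdef, A.symm_apply_apply]
      exact (Matrix.isUnit_iff_isUnit_det _).1 B.isUnit
    exact IsUnit.mul_iff.1 h
  obtain ⟨Lg, hLg⟩ := (Matrix.isUnit_iff_isUnit_det _).2 hdL.1
  obtain ⟨Ug, hUg⟩ := (Matrix.isUnit_iff_isUnit_det _).2 hdL.2
  refine ⟨Lg, Ug, Units.ext ?_, ?_, ?_⟩
  · rw [Units.val_mul, hLg, hUg, ← map_mul, ← hLU, hTdef, A.symm_apply_apply]
  · rw [hLg]
    exact splitCyc_of_cyc rfl (show Cyc (A (A.symm L)) _ by rwa [A.apply_symm_apply])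
  · rw [hUg]
    exact splitCyc_of_cyc rfl (show Cyc (A (A.symm U)) _ by rwa [A.apply_symm_apply])

end CfsgLib.PSLCover
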