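import Cfsg.Agent.Lib.PSLCover.Arrange
import Cfsg.Agent.Lib.PSLCover.Sourour
import Cfsg.Agent.Lib.PSLCover.Helpers

/-!
Four conjugates cover, for matrices with a split cyclic product of two conjugates.
-/

set_option autoImplicit false
set_option linter.style.haveILetI false
set_option linter.unusedSectionVars false

namespace CfsgLib.PSLCover

open Matrix Polynomial

variable {F : Type*} [Field F] {ι : Type*} [Fintype ι] [DecidableEq ι]

theorem det_eq_prod_of_splitCyc {X : Matrix ι ι F} {h : ι → F} (hX : SplitCyc X h) :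
    X.det = ∏ i, h i := by
  rw [Matrix.det_eq_sign_charpoly_coeff, hX.2, ← constantCoeff_apply, map_prod]
  simp [Finset.prod_neg, ← mul_assoc, ← mul_pow]

/-- Two split cyclic matrices with the same roots are conjugate. -/
theorem exists_conj_splitCyc {X Y : GL ι F} {h : ι → F} (hX : SplitCyc (X : Matrix ι ι F) h)
    (hY : SplitCyc (Y : Matrix ι ι F) h) : ∃ g : GL ι F, X = g * Y * g⁻¹ := by
  obtain ⟨g, hg⟩ := exists_conj_of_hasCyclic _ _ hX.1 hY.1 (by rw [hX.2, hY.2])
  exact ⟨g, Units.ext hg⟩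

/-- A split cyclic product of `j` conjugates yields every non-scalar matrix as a product of
`2 * j` conjugates. -/
theorem cov_double [Fintype F] (hq : 4 ≤ Fintype.card F) {n j : ℕ} (hn : 3 ≤ n)
    {A X : GL (Fin n) F} {h : Fin n → F} (hX : Cov j A X) (hnz : ∀ i, h i ≠ 0)
    (hs : SplitCyc (X : Matrix (Fin n) (Fin n) F) h) (B : GL (Fin n) F) (hB : NonScalar B)
    (hdet : GeneralLinearGroup.det B = GeneralLinearGroup.det A ^ (j + j)) : Cov (j + j) A B := by
  have hX' := congrArg Units.val hX.det_eq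
  have hB' : (B : Matrix (Fin n) (Fin n) F).det = (∏ i, h i) * ∏ i, h i := by
    have h1 := congrArg Units.val hdet
    rw [pow_add, Units.val_mul, ← hX'] at h1
    rw [← det_eq_prod_of_splitCyc hs]
    exact h1
  obtain ⟨L, U, hLU, hL, hU⟩ := exists_splitCyc_mul hn hq B hB h h hnz hnz hB'
  obtain ⟨g1, rfl⟩ := exists_conj_splitCyc hL hs
  obtain ⟨g2, rfl⟩ := exists_conj_splitCyc hU hs
  rw [hLU]
  exact (hX.conj g1).mul (hX.conj g2)

theorem fullDet_conj_of {A : GL ι F} (h : FullDet A) (g : GL ι F) : FullDet (g * A * g⁻¹) := by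
  intro δ
  obtain ⟨c, hc, hd⟩ := h δ
  refine ⟨g * c * g⁻¹, ?_, by simp [map_mul, hd]⟩
  calc g * c * g⁻¹ * (g * A * g⁻¹) = g * (c * A) * g⁻¹ := by group
    _ = g * (A * c) * g⁻¹ := by rw [hc]
    _ = g * A * g⁻¹ * (g * c * g⁻¹) := by group

theorem fullDet_scalar_block {κ : Type*} [Fintype κ] [DecidableEq κ] (K : GL ι F) (a : Fˣ) (j : κ) :
    FullDet (blockGL K (scalarGL κ a)) := by
  intro δ
  have hd : (Matrix.diagonal (Function.update (1 : κ → F) j (δ : F))).det = (δ : F) := by
    rw [det_diagonal, Finset.prod_eq_single j]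
    · simp
    · intro b _ hb; simp [hb]
    · simp
  let D : GL κ F := GeneralLinearGroup.mkOfDetNeZero _ (hd ▸ δ.ne_zero : _ ≠ (0 : F))
  refine ⟨blockGL 1 D, ?_, ?_⟩
  · rw [blockGL_mul, blockGL_mul, one_mul, mul_one]
    congr 1
    exact Units.ext (by simp)
  · rw [det_blockGL, map_one, one_mul]
    exact Units.ext hd

theorem fullDet_reindex {κ : Type*} [Fintype κ] [DecidableEq κ] {A : GL ι F} (h : FullDet A)
    (e : ι ≃ κ) : FullDet (reindexGL e A) := by
  intro δ
  obtain ⟨c, hc, hd⟩ := h δ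
  exact ⟨reindexGL e c, by rw [← map_mul, hc, map_mul], by rw [det_reindexGL, hd]⟩

end CfsgLib.PSLCover
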