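import Cfsg.Agent.Lib.PSLCover.Decompose

/-!
Matrix forms of the cyclicity lemmas.
-/

set_option autoImplicit false
set_option linter.style.haveILetI false
set_option linter.unusedSectionVars false

namespace CfsgLib.PSLCover

open Matrix Module

variable {F : Type*} [Field F] {ι κ : Type*} [Fintype ι] [DecidableEq ι] [Fintype κ] [DecidableEq κ]

/-- At most one line of eigenvectors for each scalar. -/
def EigLine (X : Matrix ι ι F) : Prop :=
  ∀ (γ : F) (x y : ι → F), X *ᵥ x = γ • x → X *ᵥ y = γ • y → x ≠ 0 → ∃ c : F, y = c • x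

theorem toLin'_pow_apply (X : Matrix ι ι F) (i : ℕ) (v : ι → F) :
    ((toLin' X) ^ i) v = (X ^ i) *ᵥ v := by
  rw [← toLin'_pow, toLin'_apply]

theorem hasCyclic_iff_orbitSpan (X : Matrix ι ι F) :
    HasCyclic X ↔ ∃ v, orbitSpan (toLin' X) v = ⊤ := by
  simp only [HasCyclic, orbitSpan, toLin'_pow_apply]

/-- A split matrix with at most one line of eigenvectors per scalar is cyclic. -/
theorem hasCyclic_of_eigLine (X : Matrix ι ι F) (hs : X.charpoly.Splits) (h : EigLine X) :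
    HasCyclic X := by
  rw [hasCyclic_iff_orbitSpan]
  refine exists_cyclic_of_eigenspace_le_one _ (by rwa [Matrix.charpoly_toLin']) fun γ => ?_
  set K := LinearMap.ker (toLin' X - γ • 1)
  have hK : ∀ z, z ∈ K → X *ᵥ z = γ • z := fun z hz => by
    simpa [K, sub_eq_zero] using hz
  by_cases h0 : K = ⊥
  · rw [h0, finrank_bot]; exact zero_le_one
  obtain ⟨x, hx, hx0⟩ := Submodule.exists_mem_ne_zero_of_ne_bot h0
  refine finrank_le_one ⟨x, hx⟩ fun y => ?_
  obtain ⟨c, hc⟩ := h γ x y (hK x hx) (hK y y.2) hx0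
  exact ⟨c, Subtype.ext hc.symm⟩

theorem splitCyc_of_eigLine (X : Matrix ι ι F) (γ : ι → F)
    (hc : X.charpoly = ∏ i, (Polynomial.X - Polynomial.C (γ i))) (h : EigLine X) :
    SplitCyc X γ := by
  refine ⟨hasCyclic_of_eigLine X ?_ h, hc⟩
  rw [hc]
  exact Polynomial.Splits.prod fun i _ => Polynomial.Splits.X_sub_C _

/-- Cyclic matrices with the same characteristic polynomial are conjugate. -/
theorem exists_conj_of_hasCyclic (X Y : Matrix ι ι F) (hX : HasCyclic X) (hY : HasCyclic Y)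
    (hc : X.charpoly = Y.charpoly) :
    ∃ P : GL ι F, X = (P : Matrix ι ι F) * Y * ((P⁻¹ : GL ι F) : Matrix ι ι F) := by
  obtain ⟨v, hv⟩ := (hasCyclic_iff_orbitSpan X).mp hX
  obtain ⟨w, hw⟩ := (hasCyclic_iff_orbitSpan Y).mp hY
  obtain ⟨e, he⟩ := exists_equiv_of_cyclic (toLin' Y) (toLin' X) hw hv
    (by simp [Matrix.charpoly_toLin', hc])
  refine ⟨⟨LinearMap.toMatrix' e.toLinearMap, LinearMap.toMatrix' e.symm.toLinearMap, ?_, ?_⟩, ?_⟩
  · rw [← LinearMap.toMatrix'_comp]; simp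
  · rw [← LinearMap.toMatrix'_comp]; simp
  · show X = LinearMap.toMatrix' e.toLinearMap * Y * LinearMap.toMatrix' e.symm.toLinearMap
    conv_rhs => rw [← LinearMap.toMatrix'_toLin' Y]
    rw [← LinearMap.toMatrix'_comp, ← LinearMap.toMatrix'_comp]
    conv_lhs => rw [← LinearMap.toMatrix'_toLin' X]
    congr 1
    refine LinearMap.ext fun x => ?_
    simp only [LinearMap.comp_apply, LinearEquiv.coe_coe, he, LinearEquiv.apply_symm_apply]

theorem HasCyclic.conj {X : Matrix ι ι F} (h : HasCyclic X) (P : GL ι F) :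
    HasCyclic ((P : Matrix ι ι F) * X * ((P⁻¹ : GL ι F) : Matrix ι ι F)) := by
  obtain ⟨v, hv⟩ := h
  refine ⟨(P : Matrix ι ι F) *ᵥ v, ?_⟩
  have hpow : ∀ i : ℕ, ((P : Matrix ι ι F) * X * ((P⁻¹ : GL ι F) : Matrix ι ι F)) ^ i *ᵥ
      ((P : Matrix ι ι F) *ᵥ v) = toLin' (P : Matrix ι ι F) ((X ^ i) *ᵥ v) := fun i => by
    rw [toLin'_apply, mulVec_mulVec, mulVec_mulVec]
    congr 1
    induction i with
    | zero => simp
    | succ i ih =>
      rw [pow_succ', mul_assoc, ih, pow_succ']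
      simp [mul_assoc]
  simp only [hpow]
  rw [Set.range_comp' (toLin' (P : Matrix ι ι F)), Submodule.span_image, hv, Submodule.map_top,
    LinearMap.range_eq_top]
  intro z
  refine ⟨((P⁻¹ : GL ι F) : Matrix ι ι F) *ᵥ z, ?_⟩
  rw [toLin'_apply, mulVec_mulVec, ← Units.val_mul, mul_inv_cancel, Units.val_one, one_mulVec]

theorem SplitCyc.conj {X : Matrix ι ι F} {γ : ι → F} (h : SplitCyc X γ) (P : GL ι F) :
    SplitCyc ((P : Matrix ι ι F) * X * ((P⁻¹ : GL ι F) : Matrix ι ι F)) γ :=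
  ⟨h.1.conj P, by rw [← h.2, Matrix.coe_units_inv]; exact Matrix.charpoly_units_conj P X⟩

theorem HasCyclic.reindex {X : Matrix ι ι F} (h : HasCyclic X) (e : ι ≃ κ) :
    HasCyclic (Matrix.reindex e e X) := by
  obtain ⟨v, hv⟩ := h
  refine ⟨v ∘ e.symm, ?_⟩
  have hpow : ∀ i : ℕ, (Matrix.reindex e e X) ^ i *ᵥ (v ∘ e.symm) =
      LinearEquiv.funCongrLeft F F e.symm ((X ^ i) *ᵥ v) := fun i => by
    rw [show (Matrix.reindex e e X) ^ i = Matrix.reindex e e (X ^ i) from
      (map_pow (Matrix.reindexAlgEquiv F F e) X i).symm]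
    funext k
    simp [Matrix.mulVec, dotProduct, LinearEquiv.funCongrLeft_apply, LinearMap.funLeft_apply]
    refine Fintype.sum_equiv e.symm _ _ fun x => ?_
    simp
  simp only [hpow]
  rw [Set.range_comp' (LinearEquiv.funCongrLeft F F e.symm), ← LinearEquiv.coe_coe,
    Submodule.span_image, hv, Submodule.map_top, LinearEquiv.range]

theorem SplitCyc.reindex {X : Matrix ι ι F} {γ : ι → F} (h : SplitCyc X γ) (e : ι ≃ κ) :
    SplitCyc (Matrix.reindex e e X) (γ ∘ e.symm) := by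
  refine ⟨h.1.reindex e, ?_⟩
  rw [Matrix.charpoly_reindex, h.2]
  exact Fintype.prod_equiv e _ _ fun i => by simp

end CfsgLib.PSLCover
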