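import Cfsg.Agent.Lib.PSLCover.Basic

/-!
Cyclic decompositions of an endomorphism, the eigenspace criterion for cyclicity, and similarity of
cyclic endomorphisms with equal characteristic polynomials.
-/

set_option autoImplicit false
set_option linter.style.haveILetI false
set_option linter.unusedSectionVars false

namespace CfsgLib.PSLCover

open Module Polynomial

variable {F : Type*} [Field F] {V : Type*} [AddCommGroup V] [Module F V] [FiniteDimensional F V]

/-- The span of the orbit of `v` under `E`. -/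
def orbitSpan (E : End F V) (v : V) : Submodule F V :=
  Submodule.span F (Set.range fun i : ℕ => (E ^ i) v)

theorem pow_mem_orbitSpan (E : End F V) (v : V) (i : ℕ) : (E ^ i) v ∈ orbitSpan E v :=
  Submodule.subset_span ⟨i, rfl⟩

theorem aeval_mem_orbitSpan (E : End F V) (v : V) (p : F[X]) : aeval E p v ∈ orbitSpan E v := by
  rw [aeval_eq_sum_range, LinearMap.sum_apply]
  exact Submodule.sum_mem _ fun i _ => Submodule.smul_mem _ _ (pow_mem_orbitSpan E v i)

/-- Some vector has the minimal polynomial as annihilator. -/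
theorem exists_max_vector (E : End F V) :
    ∃ v : V, ∀ p : F[X], aeval E p v = 0 → minpoly F E ∣ p := by
  obtain ⟨x, hx⟩ := exists_ker_toSpanSingleton_eq_annihilator (R := F[X]) (M := AEval' E)
  refine ⟨(AEval'.of E).symm x, fun p hp => ?_⟩
  rw [← Ideal.mem_span_singleton, span_minpoly_eq_annihilator, ← hx, LinearMap.mem_ker,
    LinearMap.toSpanSingleton_apply]
  apply (AEval'.of E).symm.injective
  rw [map_zero, AEval.of_symm_smul]
  exact hp

/-- A cyclic piece of maximal degree has an invariant complement. -/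
theorem exists_invariant_compl (E : End F V) :
    ∃ (v : V) (W : Submodule F V),
      LinearIndependent F (fun i : Fin (minpoly F E).natDegree => (E ^ (i : ℕ)) v) ∧
      (∀ x ∈ W, E x ∈ W) ∧ IsCompl (orbitSpan E v) W ∧
      finrank F (orbitSpan E v) = (minpoly F E).natDegree := by
  classical
  obtain ⟨v, hv⟩ := exists_max_vector E
  set μ := minpoly F E with hμ
  set k := μ.natDegree with hk
  have hμm : μ.Monic := minpoly.monic (Algebra.IsIntegral.isIntegral E)
  have hli : LinearIndependent F (fun i : Fin k => (E ^ (i : ℕ)) v) := by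
    rw [Fintype.linearIndependent_iff]
    intro g hg i
    set p : F[X] := ∑ j : Fin k, monomial (j : ℕ) (g j) with hp
    have h0 : aeval E p v = 0 := by
      simpa [hp, map_sum, aeval_monomial, LinearMap.sum_apply, Algebra.algebraMap_eq_smul_one] using hg
    have hdeg : p.degree < μ.degree := by
      refine lt_of_le_of_lt (degree_sum_le _ _) ?_
      rw [degree_eq_natDegree hμm.ne_zero, Finset.sup_lt_iff (WithBot.bot_lt_coe _)]
      intro j _
      exact lt_of_le_of_lt (degree_monomial_le _ _) (WithBot.coe_lt_coe.mpr j.isLt)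
    have hp0 : p = 0 := eq_zero_of_dvd_of_degree_lt (hv p h0) hdeg
    have := congrArg (fun q => q.coeff (i : ℕ)) hp0
    simpa [hp, finset_sum_coeff, coeff_monomial, Fin.val_inj] using this
  have hCspan : orbitSpan E v = Submodule.span F (Set.range fun i : Fin k => (E ^ (i : ℕ)) v) := by
    refine le_antisymm (Submodule.span_le.mpr ?_) (Submodule.span_mono ?_)
    · rintro _ ⟨j, rfl⟩
      have h : (E ^ j) v = aeval E ((X ^ j) %ₘ μ) v := by
        rw [aeval_modByMonic_eq_self_of_root (minpoly.aeval F E)]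
        simp
      show (E ^ j) v ∈ Submodule.span F (Set.range fun i : Fin k => (E ^ (i : ℕ)) v)
      rw [h]
      have hlt : ((X ^ j) %ₘ μ).natDegree < k ∨ (X ^ j) %ₘ μ = 0 := by
        by_cases h0 : (X ^ j) %ₘ μ = 0
        · exact Or.inr h0
        · exact Or.inl (natDegree_lt_natDegree h0 (degree_modByMonic_lt _ hμm))
      rcases hlt with hlt | h0
      · rw [aeval_eq_sum_range' hlt, LinearMap.sum_apply]
        refine Submodule.sum_mem _ fun i hi => ?_
        exact Submodule.smul_mem _ _ (Submodule.subset_span ⟨⟨i, Finset.mem_range.mp hi⟩, rfl⟩)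
      · simp [h0]
    · rintro _ ⟨i, rfl⟩
      exact ⟨i, rfl⟩
  have hCrank : finrank F (orbitSpan E v) = k := by
    rw [hCspan, finrank_span_eq_card hli, Fintype.card_fin]
  obtain ⟨ψ, hψ⟩ : ∃ ψ : Dual F V, ∀ i : Fin k, ψ ((E ^ (i : ℕ)) v) =
      if (i : ℕ) + 1 = k then 1 else 0 := by
    let b := Basis.extend hli.linearIndepOn_id
    refine ⟨b.constr F fun x => if h : ∃ i : Fin k, (E ^ (i : ℕ)) v = (x : V) then
      (if (h.choose : ℕ) + 1 = k then 1 else 0) else 0, fun i => ?_⟩
    have hmem : (E ^ (i : ℕ)) v ∈ hli.linearIndepOn_id.extend (Set.subset_univ _) :=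
      hli.linearIndepOn_id.subset_extend _ ⟨i, rfl⟩
    have hb : b ⟨_, hmem⟩ = (E ^ (i : ℕ)) v := Basis.extend_apply_self _ _
    conv_lhs => rw [← hb]
    rw [Basis.constr_basis]
    have hex : ∃ j : Fin k, (E ^ (j : ℕ)) v = (E ^ (i : ℕ)) v := ⟨i, rfl⟩
    rw [dif_pos hex, show hex.choose = i from hli.injective hex.choose_spec]
  let Φ : V →ₗ[F] (Fin k → F) := LinearMap.pi fun i => ψ.comp (E ^ (i : ℕ))
  have hΦ : ∀ x, x ∈ LinearMap.ker Φ → ∀ p : F[X], ψ (aeval E p x) = 0 := by
    intro x hx p
    have hk0 : ∀ i : Fin k, ψ ((E ^ (i : ℕ)) x) = 0 := fun i => congrFun hx i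
    have heq : aeval E p = aeval E (p %ₘ μ) :=
      (aeval_modByMonic_eq_self_of_root (minpoly.aeval F E)).symm
    rw [heq]
    by_cases h0 : p %ₘ μ = 0
    · simp [h0]
    rw [aeval_eq_sum_range' (natDegree_lt_natDegree h0 (degree_modByMonic_lt _ hμm)),
      LinearMap.sum_apply, map_sum]
    refine Finset.sum_eq_zero fun i hi => ?_
    rw [LinearMap.smul_apply, map_smul, hk0 ⟨i, Finset.mem_range.mp hi⟩, smul_zero]
  have hWinv : ∀ x ∈ LinearMap.ker Φ, E x ∈ LinearMap.ker Φ := by
    intro x hx
    refine funext fun i => ?_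
    have := hΦ x hx (X ^ ((i : ℕ) + 1))
    simpa [Φ, pow_succ] using this
  have hdisj : orbitSpan E v ⊓ LinearMap.ker Φ = ⊥ := by
    rw [eq_bot_iff]
    rintro x ⟨hxC, hxW⟩
    rw [SetLike.mem_coe, hCspan, Submodule.mem_span_range_iff_exists_fun] at hxC
    obtain ⟨c, rfl⟩ := hxC
    have hc : ∀ i, c i = 0 := by
      by_contra hne
      push Not at hne
      obtain ⟨i0, hi0⟩ := hne
      obtain ⟨j, hj, hjmax⟩ := Finset.exists_max_image
        (Finset.univ.filter fun i => c i ≠ 0) (fun i => (i : ℕ)) ⟨i0, by simp [hi0]⟩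
      have hjk : (j : ℕ) + 1 ≤ k := j.isLt
      have h := congrFun (LinearMap.mem_ker.mp hxW) ⟨k - 1 - j, by omega⟩
      simp only [Φ, LinearMap.pi_apply, LinearMap.comp_apply, map_sum, map_smul, Pi.zero_apply,
        smul_eq_mul, ← Module.End.mul_apply, ← pow_add] at h
      rw [Finset.sum_eq_single j] at h
      · rw [show k - 1 - (j : ℕ) + (j : ℕ) = k - 1 by omega] at h
        have := hψ ⟨k - 1, by omega⟩
        simp only [show k - 1 + 1 = k by omega, if_true] at this
        rw [this, mul_one] at h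
        exact (Finset.mem_filter.mp hj).2 h
      · intro i _ hij
        by_cases hci : c i = 0
        · simp [hci]
        have hlt : (i : ℕ) < j := lt_of_le_of_ne (hjmax i (by simp [hci]))
          (fun h => hij (Fin.ext h))
        have := hψ ⟨k - 1 - j + i, by omega⟩
        rw [if_neg (by simp; omega)] at this
        simp [this]
      · simp
    simp [hc]
  have hrank : finrank F V ≤ finrank F (LinearMap.ker Φ) + k := by
    have h1 := LinearMap.finrank_range_add_finrank_ker Φ
    have h2 := Submodule.finrank_le (LinearMap.range Φ)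
    rw [Module.finrank_fin_fun] at h2
    omega
  have hsup : orbitSpan E v ⊔ LinearMap.ker Φ = ⊤ := by
    refine Submodule.eq_top_of_finrank_eq ?_
    have h := Submodule.finrank_sup_add_finrank_inf_eq (orbitSpan E v) (LinearMap.ker Φ)
    rw [hdisj, finrank_bot, hCrank] at h
    have := Submodule.finrank_le (orbitSpan E v ⊔ LinearMap.ker Φ)
    omega
  exact ⟨v, LinearMap.ker Φ, hli, hWinv, ⟨disjoint_iff.mpr hdisj, codisjoint_iff.mpr hsup⟩, hCrank⟩

/-- A split endomorphism whose eigenspaces are lines has a cyclic vector. -/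
theorem exists_cyclic_of_eigenspace_le_one (E : End F V) (hs : E.charpoly.Splits)
    (h : ∀ γ : F, finrank F (LinearMap.ker (E - γ • 1)) ≤ 1) :
    ∃ v : V, orbitSpan E v = ⊤ := by
  obtain ⟨v, W, hli, hW, hc, hCrank⟩ := exists_invariant_compl E
  refine ⟨v, ?_⟩
  by_contra hne
  have hW0 : W ≠ ⊥ := fun h0 => hne (by simpa [h0] using hc.sup_eq_top)
  let EW : End F W := E.restrict hW
  have hμ0 : minpoly F E ≠ 0 := minpoly.ne_zero (Algebra.IsIntegral.isIntegral E)
  have hμs : (minpoly F E).Splits :=
    hs.of_dvd (LinearMap.charpoly_monic E).ne_zero E.minpoly_dvd_charpoly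
  have : Nontrivial W := Submodule.nontrivial_iff_ne_bot.mpr hW0
  have haev : ∀ (p : F[X]) (w : W), ((aeval EW p w : W) : V) = aeval E p (w : V) := by
    intro p w
    induction p using Polynomial.induction_on' with
    | add p q hp hq => simp [hp, hq]
    | monomial i a =>
      simp [aeval_monomial, Algebra.algebraMap_eq_smul_one, EW, Module.End.pow_restrict i]
  have hdvd : minpoly F EW ∣ minpoly F E := by
    refine minpoly.dvd F EW (LinearMap.ext fun w => Subtype.ext ?_)
    rw [haev, minpoly.aeval]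
    rfl
  have hEWs : (minpoly F EW).Splits := hμs.of_dvd hμ0 hdvd
  obtain ⟨γ, hγ⟩ : ∃ γ, (minpoly F EW).IsRoot γ := by
    obtain ⟨γ, hγ⟩ := hEWs.exists_eval_eq_zero
      (minpoly.degree_pos (Algebra.IsIntegral.isIntegral EW)).ne'
    exact ⟨γ, hγ⟩
  obtain ⟨w, hw, hw0⟩ := (Module.End.hasEigenvalue_iff_isRoot.mpr hγ).exists_hasEigenvector
  have hwV : E (w : V) = γ • (w : V) := by
    simpa [EW] using congrArg Subtype.val (Module.End.mem_eigenspace_iff.mp hw)
  obtain ⟨g, hg⟩ := (dvd_iff_isRoot.mpr (hγ.dvd hdvd) : X - C γ ∣ minpoly F E)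
  set u := aeval E g v with hu
  have hg0 : g ≠ 0 := fun h0 => hμ0 (by rw [hg, h0, mul_zero])
  have hu0 : u ≠ 0 := by
    intro h0
    have hd : (minpoly F E).natDegree = g.natDegree + 1 := by
      rw [hg, natDegree_mul (X_sub_C_ne_zero γ) hg0, natDegree_X_sub_C, add_comm]
    have hsum : aeval E g v = ∑ i : Fin (minpoly F E).natDegree, g.coeff i • (E ^ (i : ℕ)) v := by
      rw [aeval_eq_sum_range' (show g.natDegree < (minpoly F E).natDegree by omega),
        LinearMap.sum_apply]
      rw [← Fin.sum_univ_eq_sum_range (fun i => (g.coeff i • E ^ i) v)]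
      rfl
    rw [hu, hsum] at h0
    have := Fintype.linearIndependent_iff.mp hli _ h0 ⟨g.natDegree, by omega⟩
    exact hg0 (leadingCoeff_eq_zero.mp this)
  have hEu : E u = γ • u := by
    have h0 : aeval E ((X - C γ) * g) v = 0 := by rw [← hg, minpoly.aeval]; rfl
    rw [map_mul, map_sub, aeval_X, aeval_C, Module.End.mul_apply, LinearMap.sub_apply, sub_eq_zero,
      Module.algebraMap_end_apply] at h0
    exact h0
  have huC : u ∈ orbitSpan E v := aeval_mem_orbitSpan E v g
  have hmem : ∀ x : V, E x = γ • x → x ∈ LinearMap.ker (E - γ • 1) := fun x hx => by simp [hx]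
  have hle := h γ
  set K := LinearMap.ker (E - γ • 1)
  have hline : Submodule.span F {u} = K := by
    refine Submodule.eq_of_le_of_finrank_le
      ((Submodule.span_singleton_le_iff_mem _ _).mpr (hmem u hEu)) ?_
    rw [finrank_span_singleton hu0]
    exact hle
  have hwu : (w : V) ∈ Submodule.span F {u} := hline ▸ hmem _ hwV
  have : (w : V) ∈ orbitSpan E v ⊓ W :=
    ⟨(Submodule.span_singleton_le_iff_mem _ _).mpr huC hwu, w.2⟩
  rw [hc.inf_eq_bot, Submodule.mem_bot] at this
  exact hw0 (Subtype.ext this)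

theorem span_pow_of_cyclic (H : End F V) (p : F[X]) (hpm : p.Monic) (hH : aeval H p = 0) {z : V}
    (hz : orbitSpan H z = ⊤) :
    ⊤ ≤ Submodule.span F (Set.range fun i : Fin p.natDegree => (H ^ (i : ℕ)) z) := by
  rw [← hz]
  refine Submodule.span_le.mpr ?_
  rintro _ ⟨j, rfl⟩
  show (H ^ j) z ∈ Submodule.span F (Set.range fun i : Fin p.natDegree => (H ^ (i : ℕ)) z)
  have h1 : (H ^ j) z = aeval H ((X ^ j) %ₘ p) z := by
    rw [aeval_modByMonic_eq_self_of_root hH]; simp
  rw [h1]
  by_cases h0 : (X ^ j) %ₘ p = 0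
  · simp [h0]
  rw [aeval_eq_sum_range' (natDegree_lt_natDegree h0 (degree_modByMonic_lt _ hpm)),
    LinearMap.sum_apply]
  exact Submodule.sum_mem _ fun i hi =>
    Submodule.smul_mem _ _ (Submodule.subset_span ⟨⟨i, Finset.mem_range.mp hi⟩, rfl⟩)

/-- Cyclic endomorphisms with the same characteristic polynomial are similar. -/
theorem exists_equiv_of_cyclic {U : Type*} [AddCommGroup U] [Module F U] [FiniteDimensional F U]
    (E : End F V) (G : End F U) {v : V} {w : U} (hv : orbitSpan E v = ⊤) (hw : orbitSpan G w = ⊤)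
    (hchar : E.charpoly = G.charpoly) :
    ∃ e : V ≃ₗ[F] U, ∀ x, e (E x) = G (e x) := by
  set p := E.charpoly with hp
  have hVdim : finrank F V = p.natDegree := (LinearMap.charpoly_natDegree E).symm
  have hUdim : finrank F U = p.natDegree := by rw [hchar, LinearMap.charpoly_natDegree]
  set n := p.natDegree with hn
  let bV := basisOfTopLeSpanOfCardEqFinrank (fun i : Fin n => (E ^ (i : ℕ)) v)
    (span_pow_of_cyclic E E.charpoly (LinearMap.charpoly_monic E)
      (LinearMap.aeval_self_charpoly E) hv) (by simp [hVdim])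
  let bU := basisOfTopLeSpanOfCardEqFinrank (fun i : Fin n => (G ^ (i : ℕ)) w)
    (span_pow_of_cyclic G E.charpoly (LinearMap.charpoly_monic E)
      (by rw [← hp, hchar]; exact LinearMap.aeval_self_charpoly G) hw) (by simp [hUdim])
  let e := bV.equiv bU (Equiv.refl _)
  have he : ∀ i : Fin n, e ((E ^ (i : ℕ)) v) = (G ^ (i : ℕ)) w := by
    intro i
    have : bV i = (E ^ (i : ℕ)) v := by simp [bV]
    rw [← this]
    simp [e, bU]
  refine ⟨e, fun x => LinearMap.congr_fun
    (show e.toLinearMap ∘ₗ E = G ∘ₗ e.toLinearMap from bV.ext fun i => ?_) x⟩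
  have hbi : bV i = (E ^ (i : ℕ)) v := by simp [bV]
  simp only [LinearMap.comp_apply, LinearEquiv.coe_coe, hbi, he]
  rw [← Module.End.mul_apply, ← pow_succ', ← Module.End.mul_apply, ← pow_succ']
  by_cases hi : (i : ℕ) + 1 < n
  · exact he ⟨(i : ℕ) + 1, hi⟩
  · have hi' : (i : ℕ) + 1 = n := by omega
    rw [hi']
    have hE : (E ^ n) v = - ∑ j : Fin n, p.coeff j • (E ^ (j : ℕ)) v := by
      have h := LinearMap.congr_fun (LinearMap.aeval_self_charpoly E) v
      rw [aeval_eq_sum_range, Finset.sum_range_succ, (LinearMap.charpoly_monic E).coeff_natDegree,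
        one_smul, LinearMap.add_apply, LinearMap.sum_apply, LinearMap.zero_apply,
        ← Fin.sum_univ_eq_sum_range (fun i => (p.coeff i • E ^ i) v)] at h
      exact eq_neg_of_add_eq_zero_right h
    have hG : (G ^ n) w = - ∑ j : Fin n, p.coeff j • (G ^ (j : ℕ)) w := by
      have h := LinearMap.congr_fun (LinearMap.aeval_self_charpoly G) w
      rw [← hchar, aeval_eq_sum_range, Finset.sum_range_succ,
        (LinearMap.charpoly_monic E).coeff_natDegree, one_smul, LinearMap.add_apply,
        LinearMap.sum_apply, LinearMap.zero_apply,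
        ← Fin.sum_univ_eq_sum_range (fun i => (p.coeff i • G ^ i) w)] at h
      exact eq_neg_of_add_eq_zero_right h
    rw [hE, hG, map_neg, map_sum]
    simp [map_smul, he]

end CfsgLib.PSLCover
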