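import Cfsg.Agent.Lib.PSLCover.Peel
import Cfsg.Agent.Lib.PSLCover.Bidiag
import Cfsg.Agent.Lib.PSLCover.CoreCover
import Cfsg.Agent.Lib.Generators.SemisimpleCentralizer

/-!
Cyclic and pseudo-cyclic normal forms of three by three matrices, and conjugacy by elements of
determinant one through determinants of Krylov matrices.
-/

set_option autoImplicit false
set_option linter.style.haveILetI false
set_option linter.unusedSectionVars false

namespace CfsgLib.PSLCover.Three

open Matrix Polynomial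
open CfsgLib.PSLCover
open scoped Classical

variable {F : Type*} [Field F]

local notation "M₃" => Matrix (Fin 3) (Fin 3) F
local notation "GL₃" => GL (Fin 3) F

/-- The second coefficient of the characteristic polynomial. -/
def m2 (M : M₃) : F :=
  M 0 0 * M 1 1 - M 0 1 * M 1 0 + (M 0 0 * M 2 2 - M 0 2 * M 2 0) +
    (M 1 1 * M 2 2 - M 1 2 * M 2 1)

theorem charpoly_three (M : M₃) :
    M.charpoly = X ^ 3 - C M.trace * X ^ 2 + C (m2 M) * X - C M.det := by
  rw [Matrix.charpoly, det_fin_three, det_fin_three, trace_fin_three]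
  simp only [charmatrix_apply_eq, charmatrix_apply_ne _ _ _ (show (0 : Fin 3) ≠ 1 by decide),
    charmatrix_apply_ne _ _ _ (show (0 : Fin 3) ≠ 2 by decide),
    charmatrix_apply_ne _ _ _ (show (1 : Fin 3) ≠ 0 by decide),
    charmatrix_apply_ne _ _ _ (show (1 : Fin 3) ≠ 2 by decide),
    charmatrix_apply_ne _ _ _ (show (2 : Fin 3) ≠ 0 by decide),
    charmatrix_apply_ne _ _ _ (show (2 : Fin 3) ≠ 1 by decide),
    m2, map_add, map_sub, map_mul]
  ring

theorem charpoly_eq_three {M N : M₃} (ht : M.trace = N.trace) (hm : m2 M = m2 N)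
    (hd : M.det = N.det) : M.charpoly = N.charpoly := by
  rw [charpoly_three, charpoly_three, ht, hm, hd]

/-- A companion matrix. -/
def comp3 (c₀ c₁ c₂ : F) : M₃ := !![0, 0, c₀; 1, 0, c₁; 0, 1, c₂]

theorem comp3_coeff (c₀ c₁ c₂ : F) :
    (comp3 c₀ c₁ c₂).trace = c₂ ∧ m2 (comp3 c₀ c₁ c₂) = -c₁ ∧ (comp3 c₀ c₁ c₂).det = c₀ := by
  refine ⟨?_, ?_, ?_⟩
  · simp [comp3, trace_fin_three]
  · simp [comp3, m2]
  · simp [comp3, det_fin_three]

theorem charpoly_comp3 (M : M₃) : (comp3 M.det (-m2 M) M.trace).charpoly = M.charpoly := by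
  obtain ⟨h1, h2, h3⟩ := comp3_coeff M.det (-m2 M) M.trace
  exact charpoly_eq_three h1 (by rw [h2, neg_neg]) h3

/-- The matrix with columns `v`, `M v`, `M (M v)`. -/
def kry (M : M₃) (v : Fin 3 → F) : M₃ := Matrix.of fun i j => (![v, M *ᵥ v, M *ᵥ (M *ᵥ v)] j) i

theorem kry_mulVec (M : M₃) (v w : Fin 3 → F) :
    kry M v *ᵥ w = w 0 • v + w 1 • (M *ᵥ v) + w 2 • (M *ᵥ (M *ᵥ v)) := by
  funext i
  simp [kry, mulVec, dotProduct, Fin.sum_univ_three]
  ring

theorem hasCyclic_of_kry {M : M₃} {v : Fin 3 → F} (h : (kry M v).det ≠ 0) : HasCyclic M := by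
  refine ⟨v, eq_top_iff.2 fun x _ => ?_⟩
  have hx : kry M v *ᵥ ((kry M v)⁻¹ *ᵥ x) = x := by
    rw [mulVec_mulVec, Matrix.mul_nonsing_inv _ (isUnit_iff_ne_zero.2 h), one_mulVec]
  set w := (kry M v)⁻¹ *ᵥ x
  rw [← hx, kry_mulVec]
  have h0 : ∀ i : ℕ, (M ^ i) *ᵥ v ∈ Submodule.span F (Set.range fun i : ℕ => (M ^ i) *ᵥ v) :=
    fun i => Submodule.subset_span ⟨i, rfl⟩
  refine add_mem (add_mem (Submodule.smul_mem _ _ ?_) (Submodule.smul_mem _ _ ?_))
    (Submodule.smul_mem _ _ ?_)
  · simpa using h0 0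
  · simpa using h0 1
  · simpa [pow_two, mulVec_mulVec] using h0 2

theorem kry_smul (M : M₃) (v : Fin 3 → F) (c : F) :
    (kry M (c • v)).det = c ^ 3 * (kry M v).det := by
  have : kry M (c • v) = c • kry M v := by
    refine Matrix.ext fun i j => ?_
    fin_cases j <;> simp [kry, mulVec_smul]
  rw [this, det_smul, Fintype.card_fin]

theorem kry_conj_comp (M : M₃) (v : Fin 3 → F) :
    M * kry M v = kry M v * comp3 M.det (-m2 M) M.trace := by
  have h := congrArg (fun X : M₃ => X *ᵥ v) (Matrix.aeval_self_charpoly M)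
  simp only [charpoly_three, map_add, map_sub, map_mul, map_pow, aeval_X, aeval_C,
    Algebra.algebraMap_eq_smul_one, add_mulVec, sub_mulVec, smul_mul_assoc, one_mul, smul_mulVec,
    pow_succ', pow_zero, mul_one, ← mulVec_mulVec, one_mulVec, zero_mulVec] at h
  refine Matrix.ext_of_mulVec_single fun j => ?_
  rw [← mulVec_mulVec, ← mulVec_mulVec, kry_mulVec, kry_mulVec]
  fin_cases j
  · simp [comp3, mulVec_smul]
  · simp [comp3, mulVec_smul]
  · simp only [mulVec_add, mulVec_smul]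
    simp [comp3]
    simp only [mulVec_mulVec] at h ⊢
    linear_combination (norm := module) h

/-- Cyclic matrices with equal characteristic polynomials whose Krylov determinants differ by a
cube are conjugate by an element of determinant one. -/
theorem exists_sl_conj {P Q : GL₃} (hc : (P : M₃).charpoly = (Q : M₃).charpoly)
    (v w : Fin 3 → F) (δ : F) (hw : (kry (Q : M₃) w).det ≠ 0) (hδ : δ ≠ 0)
    (h : (kry (P : M₃) v).det = δ ^ 3 * (kry (Q : M₃) w).det) :
    ∃ g : GL₃, GeneralLinearGroup.det g = 1 ∧ P = g * Q * g⁻¹ := by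
  have hcoef : ∀ i, (P : M₃).charpoly.coeff i = (Q : M₃).charpoly.coeff i := fun i => by rw [hc]
  have ht : (P : M₃).trace = (Q : M₃).trace := by
    have := hcoef 2
    simpa [charpoly_three, coeff_X, coeff_C, coeff_X_pow] using this
  have hm : m2 (P : M₃) = m2 (Q : M₃) := by
    have := hcoef 1
    simpa [charpoly_three, coeff_X, coeff_C, coeff_X_pow] using this
  have hd : (P : M₃).det = (Q : M₃).det := by
    have := hcoef 0
    simpa [charpoly_three, coeff_X, coeff_C, coeff_X_pow] using this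
  have hK : (kry (P : M₃) (δ⁻¹ • v)).det = (kry (Q : M₃) w).det := by
    rw [kry_smul, h, inv_pow, inv_mul_cancel_left₀ (pow_ne_zero _ hδ)]
  let K : GL₃ := GeneralLinearGroup.mkOfDetNeZero (kry (P : M₃) (δ⁻¹ • v)) (hK ▸ hw)
  let L : GL₃ := GeneralLinearGroup.mkOfDetNeZero (kry (Q : M₃) w) hw
  refine ⟨K * L⁻¹, Units.ext (by simp [map_mul, map_inv, K, L, hK, hw]), ?_⟩
  have hCd : (comp3 (P : M₃).det (-m2 (P : M₃)) (P : M₃).trace).det ≠ 0 := by
    rw [(comp3_coeff _ _ _).2.2]
    exact ((Matrix.isUnit_iff_isUnit_det _).1 P.isUnit).ne_zero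
  let C₀ : GL₃ := GeneralLinearGroup.mkOfDetNeZero _ hCd
  have h1 : P * K = K * C₀ := Units.ext (kry_conj_comp _ _)
  have h2 : Q * L = L * C₀ := Units.ext (by
    show (Q : M₃) * kry (Q : M₃) w = kry (Q : M₃) w * comp3 (P : M₃).det (-m2 (P : M₃)) (P : M₃).trace
    rw [kry_conj_comp, ht, hm, hd])
  rw [_root_.mul_inv_rev, inv_inv, show K * L⁻¹ * Q * (L * K⁻¹) = K * (L⁻¹ * (Q * L)) * K⁻¹ by group, h2,
    inv_mul_cancel_left, ← h1, mul_inv_cancel_right]

theorem aeval_toLin (M : M₃) (p : F[X]) :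
    aeval (Matrix.toLinAlgEquiv' M) p = Matrix.toLinAlgEquiv' (aeval M p) :=
  aeval_algHom_apply (Matrix.toLinAlgEquiv' : M₃ ≃ₐ[F] _).toAlgHom M p

theorem exists_kry_ne_zero {M : M₃} (h : 3 ≤ (minpoly F M).natDegree) :
    ∃ v, (kry M v).det ≠ 0 := by
  obtain ⟨v, hv⟩ := exists_independent_three (E := Matrix.toLinAlgEquiv' M)
    (by rw [minpoly.algEquiv_eq]; exact h)
  refine ⟨v, ?_⟩
  have hcols : LinearIndependent F (kry M v).col := by
    rw [show (kry M v).col = ![v, M *ᵥ v, M *ᵥ (M *ᵥ v)] from funext fun j => rfl]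
    simpa using hv
  exact ((Matrix.isUnit_iff_isUnit_det _).1
    (Matrix.linearIndependent_cols_iff_isUnit.1 hcols)).ne_zero

theorem hasCyclic_of_minpoly {M : M₃} (h : 3 ≤ (minpoly F M).natDegree) : HasCyclic M :=
  have ⟨_, hv⟩ := exists_kry_ne_zero h
  hasCyclic_of_kry hv

theorem hasCyclic_hess {M : M₃} (h20 : M 2 0 = 0) (h10 : M 1 0 ≠ 0) (h21 : M 2 1 ≠ 0) :
    HasCyclic M :=
  hasCyclic_of_hessenberg M (fun i j hij => by fin_cases i <;> fin_cases j <;> simp_all)
    (fun j => by fin_cases j <;> assumption)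

/-- A cyclic matrix is conjugate to its companion matrix. -/
theorem exists_comp3 (B : GL₃) (h : HasCyclic (B : M₃)) :
    ∃ g : GL₃, (B : M₃) = g * comp3 (B : M₃).det (-m2 (B : M₃)) (B : M₃).trace *
      ((g⁻¹ : GL₃) : M₃) :=
  exists_conj_of_hasCyclic _ _ h
    (hasCyclic_hess (by simp [comp3]) (by simp [comp3]) (by simp [comp3])) (charpoly_comp3 _).symm

/-- Upper form of a matrix differing from a scalar by rank one. -/
def upForm (p f g c : F) : M₃ := !![p, f, g; 0, c, 0; 0, 0, c]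

/-- A non-cyclic, non-scalar matrix differs from a scalar by rank one. -/
theorem exists_upForm (B : GL₃) (hns : NonScalar B)
    (hB : (minpoly F (B : M₃)).natDegree ≤ 2) :
    ∃ (h : GL₃) (p f g c : F), c ≠ 0 ∧ p ≠ 0 ∧ (p = c → f ≠ 0 ∨ g ≠ 0) ∧
      (B : M₃) = h * upForm p f g c * ((h⁻¹ : GL₃) : M₃) := by
  classical
  set μ := minpoly F (B : M₃) with hμdef
  have hint : IsIntegral F (B : M₃) := Algebra.IsIntegral.isIntegral _
  have hμm : μ.Monic := minpoly.monic hint
  have hdvd : μ ∣ (B : M₃).charpoly := Matrix.minpoly_dvd_charpoly _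
  have hμ0 := minpoly.natDegree_pos hint
  obtain ⟨a, ha⟩ : ∃ a : F, (B : M₃).charpoly.IsRoot a := by
    by_contra hno
    push Not at hno
    have hirr : Irreducible (B : M₃).charpoly := by
      rw [Polynomial.irreducible_iff_roots_eq_zero_of_degree_le_three
        (by rw [charpoly_natDegree_eq_dim]; simp) (by rw [charpoly_natDegree_eq_dim]; simp)]
      refine Multiset.eq_zero_of_forall_notMem fun a ha => hno a (isRoot_of_mem_roots ha)
    rcases hirr.dvd_iff.1 hdvd with hu | hass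
    · exact minpoly.not_isUnit F _ hu
    · have := natDegree_eq_of_degree_eq (degree_eq_degree_of_associated hass)
      rw [charpoly_natDegree_eq_dim, Fintype.card_fin] at this
      omega
  obtain ⟨x, hx0, hx⟩ := exists_eigvec_of_isRoot ha
  have hμa : μ.IsRoot a := by
    have h1 := congrArg (fun X : M₃ => X *ᵥ x) (minpoly.aeval F (B : M₃))
    rw [show (aeval (B : M₃) μ) *ᵥ x = μ.eval a • x from by
      have := aeval_eigen (f := Matrix.toLinAlgEquiv' (B : M₃)) (a := a) (u := x)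
        (by simpa using hx) μ
      rw [aeval_toLin] at this
      simpa using this] at h1
    simpa [smul_eq_zero, hx0] using h1
  obtain ⟨p, hp⟩ := dvd_iff_isRoot.2 hμa
  have hpm : p.Monic := (monic_X_sub_C a).of_mul_monic_left (hp ▸ hμm)
  have hpd : p.natDegree ≤ 1 := by
    have := congrArg natDegree hp
    rw [(monic_X_sub_C a).natDegree_mul hpm, natDegree_X_sub_C] at this
    omega
  obtain ⟨b, hb⟩ : ∃ b : F, ((B : M₃) - a • 1) * ((B : M₃) - b • 1) = 0 := by
    have h0 := minpoly.aeval F (B : M₃)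
    rw [← hμdef, hp, map_mul] at h0
    simp only [map_sub, aeval_X, aeval_C, Algebra.algebraMap_eq_smul_one] at h0
    rcases Nat.le_one_iff_eq_zero_or_eq_one.1 hpd with h | h
    · rw [eq_one_of_monic_natDegree_zero hpm h, map_one, mul_one] at h0
      exact absurd (sub_eq_zero.1 h0) (hns a)
    · refine ⟨-p.coeff 0, ?_⟩
      rw [hpm.eq_X_add_C h, map_add, aeval_X, aeval_C, Algebra.algebraMap_eq_smul_one] at h0
      rwa [neg_smul, sub_neg_eq_add]
  -- one of the two differences has rank at most one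
  obtain ⟨c, w, hcw⟩ : ∃ (c : F) (w : Fin 3 → F), ∀ z, ∃ r : F,
      ((B : M₃) - c • 1) *ᵥ z = r • w := by
    let L₁ := Matrix.toLin' ((B : M₃) - a • 1)
    let L₂ := Matrix.toLin' ((B : M₃) - b • 1)
    have hle : LinearMap.range L₂ ≤ LinearMap.ker L₁ := by
      rintro _ ⟨z, rfl⟩
      simp only [L₁, L₂, LinearMap.mem_ker, toLin'_apply, mulVec_mulVec, hb, zero_mulVec]
    have h1 := Submodule.finrank_mono hle
    have h2 := L₁.finrank_range_add_finrank_ker
    rw [Module.finrank_fintype_fun_eq_card, Fintype.card_fin] at h2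
    have key : ∀ (c : F), Module.finrank F (LinearMap.range (Matrix.toLin' ((B : M₃) - c • 1))) ≤ 1 →
        ∃ w : Fin 3 → F, ∀ z, ∃ r : F, ((B : M₃) - c • 1) *ᵥ z = r • w := fun c hc => by
      obtain ⟨w, hw⟩ := (Submodule.finrank_le_one_iff_isPrincipal _).1 hc
      exact ⟨w, fun z => by
        obtain ⟨r, hr⟩ := Submodule.mem_span_singleton.1
          (hw ▸ LinearMap.mem_range_self (Matrix.toLin' ((B : M₃) - c • 1)) z)
        exact ⟨r, by rw [hr, toLin'_apply]⟩⟩
    by_cases hk : Module.finrank F (LinearMap.range L₂) ≤ 1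
    · exact ⟨b, key b hk⟩
    · exact ⟨a, key a (show Module.finrank F (LinearMap.range L₁) ≤ 1 by omega)⟩
  have hw0 : w ≠ 0 := fun h => hns c (Matrix.ext_of_mulVec_single fun i => by
    obtain ⟨r, hr⟩ := hcw (Pi.single i 1)
    rw [h, smul_zero, sub_mulVec, sub_eq_zero] at hr
    exact hr)
  obtain ⟨i, hi⟩ := Function.ne_iff.1 hw0
  let W : M₃ := ((1 : M₃).updateCol i w).submatrix id (Equiv.swap 0 i)
  have hWd : W.det ≠ 0 := by
    rw [show W = ((1 : M₃).updateCol i w).submatrix id (Equiv.swap 0 i) from rfl, det_permute']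
    refine mul_ne_zero ?_ ?_
    · rcases Int.units_eq_one_or (Equiv.Perm.sign (Equiv.swap (0 : Fin 3) i)) with h | h <;>
        simp [h]
    · rw [← cramer_apply, cramer_one]; simpa using hi
  let h : GL₃ := GeneralLinearGroup.mkOfDetNeZero W hWd
  have hW0 : ∀ r : F, r • w = (h : M₃) *ᵥ (r • Pi.single 0 1) := fun r => by
    rw [mulVec_smul]
    congr 1
    funext k
    simp [h, W]
  have hrows : ∀ j (k : Fin 3), k ≠ 0 →
      (((h⁻¹ : GL₃) : M₃) * ((B : M₃) - c • 1) * (h : M₃)) k j = 0 := fun j k hk => by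
    obtain ⟨r, hr⟩ := hcw ((h : M₃) *ᵥ Pi.single j 1)
    rw [show (((h⁻¹ : GL₃) : M₃) * ((B : M₃) - c • 1) * (h : M₃)) k j =
      ((((h⁻¹ : GL₃) : M₃) * ((B : M₃) - c • 1) * (h : M₃)) *ᵥ Pi.single j 1) k by simp,
      ← mulVec_mulVec, ← mulVec_mulVec, hr, hW0, mulVec_mulVec, ← Units.val_mul, inv_mul_cancel,
      Units.val_one, one_mulVec]
    simp [hk]
  set N := ((h⁻¹ : GL₃) : M₃) * (B : M₃) * (h : M₃) with hN
  have hNc : ((h⁻¹ : GL₃) : M₃) * ((B : M₃) - c • 1) * (h : M₃) = N - c • 1 := by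
    rw [mul_sub, sub_mul, mul_smul_comm, mul_one, smul_mul_assoc, Units.inv_mul]
  have hform : N = upForm (N 0 0) (N 0 1) (N 0 2) c := by
    refine Matrix.ext fun k j => ?_
    by_cases hk : k = 0
    · subst hk; fin_cases j <;> simp [upForm]
    have := hrows j k hk
    rw [hNc, Matrix.sub_apply, sub_eq_zero] at this
    rw [this]
    fin_cases k <;> fin_cases j <;> simp_all [upForm]
  have hBN : (B : M₃) = h * upForm (N 0 0) (N 0 1) (N 0 2) c * ((h⁻¹ : GL₃) : M₃) := by
    rw [← hform, hN, ← mul_assoc, ← mul_assoc, ← Units.val_mul, mul_inv_cancel, Units.val_one,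
      one_mul, mul_assoc, ← Units.val_mul, mul_inv_cancel, Units.val_one, mul_one]
  have hdet : N.det ≠ 0 := by
    rw [hN, det_mul, det_mul, mul_comm, ← mul_assoc, ← det_mul, ← Units.val_mul, mul_inv_cancel,
      Units.val_one, det_one, one_mul]
    exact ((Matrix.isUnit_iff_isUnit_det _).1 B.isUnit).ne_zero
  rw [hform] at hdet
  refine ⟨h, N 0 0, N 0 1, N 0 2, c, fun h0 => ?_, fun h0 => ?_, fun hpc => ?_, hBN⟩
  · exact hdet (by simp [upForm, det_fin_three, h0])
  · exact hdet (by simp [upForm, det_fin_three, h0])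
  · by_contra hfg
    push Not at hfg
    refine hns c ?_
    rw [hBN, hfg.1, hfg.2, hpc, show upForm c 0 0 c = c • (1 : M₃) by
      refine Matrix.ext fun k j => ?_
      fin_cases k <;> fin_cases j <;> simp [upForm]]
    rw [mul_smul_comm, mul_one, smul_mul_assoc, ← Units.val_mul, mul_inv_cancel, Units.val_one]

/-- The normal form of a rank-one difference depends only on its diagonal. -/
theorem upForm_conj (p f g c : F) (hnd : p = c → f ≠ 0 ∨ g ≠ 0) :
    ∃ h : GL₃, (h : M₃) * upForm p f g c =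
      upForm p (if p = c then 1 else 0) 0 c * (h : M₃) := by
  by_cases hpc : p = c
  · subst hpc
    by_cases hf : f = 0
    · have hg := (hnd rfl).resolve_left (fun h => h hf)
      refine ⟨GeneralLinearGroup.mkOfDetNeZero !![1, 0, 0; 0, 0, g; 0, 1, 0] (by
        simp [det_fin_three, hg]), Matrix.ext fun i j => ?_⟩
      fin_cases i <;> fin_cases j <;>
        simp [upForm, hf, Matrix.mul_apply, Fin.sum_univ_three, mul_comm]
    · refine ⟨GeneralLinearGroup.mkOfDetNeZero !![1, 0, 0; 0, f, g; 0, 0, 1] (by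
        simp [det_fin_three, hf]), Matrix.ext fun i j => ?_⟩
      fin_cases i <;> fin_cases j <;>
        simp [upForm, Matrix.mul_apply, Fin.sum_univ_three, mul_comm]
  · have he : p - c ≠ 0 := sub_ne_zero.2 hpc
    refine ⟨GeneralLinearGroup.mkOfDetNeZero !![1, f / (p - c), g / (p - c); 0, 1, 0; 0, 0, 1] (by
      simp [det_fin_three]), Matrix.ext fun i j => ?_⟩
    fin_cases i <;> fin_cases j <;>
      simp [upForm, hpc, Matrix.mul_apply, Fin.sum_univ_three] <;> field_simp <;> ring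

/-- Matrices with the same diagonal of their normal forms are conjugate. -/
theorem exists_conj_upForm {B C' : GL₃} {p f g f' g' c : F} (hnd : p = c → f ≠ 0 ∨ g ≠ 0)
    (hnd' : p = c → f' ≠ 0 ∨ g' ≠ 0) (k : GL₃)
    (hB : (B : M₃) = k * upForm p f g c * ((k⁻¹ : GL₃) : M₃))
    (hC : (C' : M₃) = upForm p f' g' c) : ∃ u : GL₃, B = u * C' * u⁻¹ := by
  obtain ⟨h, hh⟩ := upForm_conj p f g c hnd
  obtain ⟨h', hh'⟩ := upForm_conj p f' g' c hnd'
  refine ⟨k * h⁻¹ * h', Units.ext ?_⟩
  rw [_root_.mul_inv_rev, _root_.mul_inv_rev, inv_inv, show k * h⁻¹ * h' * C' * (h'⁻¹ * (h * k⁻¹)) =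
    k * (h⁻¹ * (h' * C' * h'⁻¹) * h) * k⁻¹ by group]
  simp only [Units.val_mul]
  have h1 : (h' : M₃) * (C' : M₃) * ((h'⁻¹ : GL₃) : M₃) = upForm p (if p = c then 1 else 0) 0 c := by
    rw [hC, hh', mul_assoc, ← Units.val_mul, mul_inv_cancel, Units.val_one, mul_one]
  rw [h1, mul_assoc (((h⁻¹ : GL₃) : M₃)), ← hh, ← mul_assoc (((h⁻¹ : GL₃) : M₃)), ← Units.val_mul,
    inv_mul_cancel, Units.val_one, one_mul, hB]

theorem fullDet_upForm {B : GL₃} {p f g c : F} (hnd : p = c → f ≠ 0 ∨ g ≠ 0) (k : GL₃)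
    (hp : p ≠ 0) (hc : c ≠ 0) (hB : (B : M₃) = k * upForm p f g c * ((k⁻¹ : GL₃) : M₃)) :
    FullDet B := by
  let C' : GL₃ := GeneralLinearGroup.mkOfDetNeZero (upForm p (if p = c then 1 else 0) 0 c)
    (by simp [upForm, det_fin_three, hp, hc])
  obtain ⟨u, rfl⟩ := exists_conj_upForm (C' := C') hnd (fun h => Or.inl (by simp [h])) k hB rfl
  refine fullDet_conj_of (fun δ => ?_) u
  by_cases hpc : p = c
  · refine ⟨GeneralLinearGroup.mkOfDetNeZero !![1, 0, 0; 0, 1, 0; 0, 0, (δ : F)] (by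
      simp [det_fin_three]), Units.ext (Matrix.ext fun i j => ?_), Units.ext (by simp [det_fin_three])⟩
    fin_cases i <;> fin_cases j <;>
      simp [C', upForm, hpc, Matrix.mul_apply, Fin.sum_univ_three, mul_comm]
  · refine ⟨GeneralLinearGroup.mkOfDetNeZero !![(δ : F), 0, 0; 0, 1, 0; 0, 0, 1] (by
      simp [det_fin_three]), Units.ext (Matrix.ext fun i j => ?_), Units.ext (by simp [det_fin_three])⟩
    fin_cases i <;> fin_cases j <;>
      simp [C', upForm, hpc, Matrix.mul_apply, Fin.sum_univ_three, mul_comm]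

/-- A cyclic matrix has full centraliser determinants or a single triple eigenvalue. -/
theorem fullDet_or_triple [Fintype F] (A : GL₃) (hA : HasCyclic (A : M₃)) :
    FullDet A ∨ ∃ a : F, (A : M₃).charpoly = (X - C a) ^ 3 := by
  classical
  set χ := (A : M₃).charpoly with hχ
  have hχm : χ.Monic := charpoly_monic _
  have hdeg : χ.natDegree = 3 := by rw [hχ, charpoly_natDegree_eq_dim]; simp
  have hsimple : ∀ b : F, χ.IsRoot b → ∀ r : F[X], χ = (X - C b) * r → r.eval b ≠ 0 → FullDet A := by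
    intro b hb r hr hrb δ
    set E := (r.eval b)⁻¹ • aeval (A : M₃) r with hE
    have hAE : ∀ z, (A : M₃) *ᵥ (E *ᵥ z) = b • (E *ᵥ z) := fun z => by
      have h0 := Matrix.aeval_self_charpoly (A : M₃)
      rw [← hχ, hr, map_mul, map_sub, aeval_X, aeval_C, Algebra.algebraMap_eq_smul_one, sub_mul,
        smul_mul_assoc, one_mul, sub_eq_zero] at h0
      rw [mulVec_mulVec, hE, mul_smul_comm, h0, ← smul_assoc, smul_eq_mul, mul_comm, mul_smul,
        smul_mulVec]
    have hrx : ∀ x, (A : M₃) *ᵥ x = b • x → E *ᵥ x = x := fun x hx => by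
      have := aeval_eigen (f := Matrix.toLinAlgEquiv' (A : M₃)) (a := b) (u := x)
        (by simpa using hx) r
      rw [aeval_toLin] at this
      rw [hE, smul_mulVec, show (aeval (A : M₃) r) *ᵥ x = r.eval b • x by simpa using this,
        inv_smul_smul₀ hrb]
    obtain ⟨x, hx0, hx⟩ := exists_eigvec_of_isRoot hb
    have hline := eigLine_of_hasCyclic hA
    choose ψ hψ using fun j => hline b x (E *ᵥ Pi.single j 1) hx (hAE _) hx0
    have hEv : E = Matrix.vecMulVec x ψ := Matrix.ext fun i j => by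
      have := congrFun (hψ j) i
      simpa [vecMulVec_apply, mul_comm] using this
    have hψx : ψ ⬝ᵥ x = 1 := by
      have h1 := hrx x hx
      rw [hEv, vecMulVec_mulVec] at h1
      obtain ⟨i, hi⟩ := Function.ne_iff.1 hx0
      have h2 := congrFun h1 i
      simp only [Pi.smul_apply, MulOpposite.smul_eq_mul_unop, MulOpposite.unop_op] at h2
      exact (mul_eq_left₀ hi).1 h2
    have hdet : (1 + ((δ : F) - 1) • E).det = δ := by
      rw [hEv, ← smul_vecMulVec, vecMulVec_eq Unit, det_one_add_replicateCol_mul_replicateRow,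
        dotProduct_smul, hψx]
      simp
    refine ⟨GeneralLinearGroup.mkOfDetNeZero _ (by rw [hdet]; exact δ.ne_zero),
      Units.ext ?_, Units.ext hdet⟩
    show (1 + ((δ : F) - 1) • E) * (A : M₃) = (A : M₃) * (1 + ((δ : F) - 1) • E)
    have hcomm : aeval (A : M₃) r * (A : M₃) = (A : M₃) * aeval (A : M₃) r := by
      simpa using ((Commute.all r X).map (aeval (A : M₃))).eq
    rw [hE, smul_smul, add_mul, mul_add, one_mul, mul_one, smul_mul_assoc, mul_smul_comm, hcomm]
  by_cases hroot : ∃ a : F, χ.IsRoot a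
  swap
  · left
    intro δ
    push Not at hroot
    have hirr : Irreducible χ := by
      rw [Polynomial.irreducible_iff_roots_eq_zero_of_degree_le_three (by omega) (by omega)]
      exact Multiset.eq_zero_of_forall_notMem fun a ha => hroot a (isRoot_of_mem_roots ha)
    have hss : Module.End.IsSemisimple (Matrix.toLinAlgEquiv' (A : M₃)) :=
      Module.End.isSemisimple_of_squarefree_aeval_eq_zero hirr.squarefree (by
        rw [aeval_toLin, hχ, Matrix.aeval_self_charpoly, map_zero])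
    obtain ⟨M, hM, hd⟩ := Generators.exists_commute_det_of_isSemisimple _ hss (δ : F)
    refine ⟨GeneralLinearGroup.mkOfDetNeZero (Matrix.toLinAlgEquiv'.symm M) ?_, Units.ext ?_,
      Units.ext ?_⟩
    · rw [← LinearMap.det_toMatrix'] at hd
      exact hd ▸ δ.ne_zero
    · apply Matrix.toLinAlgEquiv'.injective
      show Matrix.toLinAlgEquiv' (Matrix.toLinAlgEquiv'.symm M * (A : M₃)) =
        Matrix.toLinAlgEquiv' ((A : M₃) * Matrix.toLinAlgEquiv'.symm M)
      rw [map_mul, map_mul, AlgEquiv.apply_symm_apply]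
      exact hM.eq
    · rw [← LinearMap.det_toMatrix'] at hd
      exact hd
  obtain ⟨a, ha⟩ := hroot
  obtain ⟨r, hr⟩ := dvd_iff_isRoot.2 ha
  by_cases hra : r.eval a ≠ 0
  · exact Or.inl (hsimple a ha r hr hra)
  push Not at hra
  obtain ⟨s, hs⟩ := dvd_iff_isRoot.2 (show r.IsRoot a from hra)
  have hsm : s.Monic := (monic_X_sub_C a).of_mul_monic_left
    (hs ▸ (monic_X_sub_C a).of_mul_monic_left (hr ▸ hχm))
  have hsd : s.natDegree = 1 := by
    have h1 := congrArg natDegree hr
    rw [hdeg, hs, (monic_X_sub_C a).natDegree_mul ((monic_X_sub_C a).mul hsm),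
      (monic_X_sub_C a).natDegree_mul hsm, natDegree_X_sub_C] at h1
    omega
  obtain ⟨b, hb⟩ : ∃ b : F, s = X - C b :=
    ⟨-s.coeff 0, by rw [C_neg, sub_neg_eq_add]; exact hsm.eq_X_add_C hsd⟩
  subst hb
  by_cases hab : b = a
  · exact Or.inr ⟨a, by rw [hr, hs, hab]; ring⟩
  · refine Or.inl (hsimple b ?_ ((X - C a) * (X - C a)) (by rw [hr, hs]; ring) ?_)
    · rw [IsRoot, hr, hs]; simp
    · simp [sub_eq_zero, hab]

end CfsgLib.PSLCover.Three
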