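import Cfsg.Agent.Lib.PSLCover.Basic
import Cfsg.Agent.Lib.PSLCover.Chain

/-!
Peeling one dimension: a matrix with a one-dimensional summand and minimal polynomial of degree at
least three covers the non-scalar matrices of the right determinant with one factor more than its
complementary summand.
-/

set_option autoImplicit false
set_option linter.style.haveILetI false
set_option linter.unusedSectionVars false

namespace CfsgLib.PSLCover

open Module Matrix
open LinearMap (ker range mem_ker)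

variable {F : Type*} [Field F] {V : Type*} [AddCommGroup V] [Module F V] [FiniteDimensional F V]

theorem peel_finrank_inf {φ₁ φ₂ : Dual F V} {v₁ v₂ : V} {c : F} (h11 : φ₁ v₁ = 0)
    (h12 : φ₁ v₂ = 1) (h21 : φ₂ v₁ = 1) (h22 : φ₂ v₂ = c) :
    finrank F (ker φ₁ ⊓ ker φ₂ : Submodule F V) + 2 = finrank F V := by
  have h := LinearMap.finrank_range_add_finrank_ker (φ₁.prod φ₂)
  have hr : range (φ₁.prod φ₂) = ⊤ := eq_top_iff.2 fun p _ =>
    ⟨(p.2 - c * p.1) • v₁ + p.1 • v₂, by simp [h11, h12, h21, h22, mul_comm]⟩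
  rw [hr, finrank_top, Module.finrank_prod, Module.finrank_self, LinearMap.ker_prod] at h
  omega

theorem peel_exists_dual {W : Submodule F V} {x : V} (hx : x ∉ W) :
    ∃ f : Dual F V, f x = 1 ∧ ∀ z ∈ W, f z = 0 := by
  obtain ⟨f, hf, hfW⟩ := Submodule.exists_dual_map_eq_bot_of_notMem hx inferInstance
  refine ⟨(f x)⁻¹ • f, by simp [hf], fun z hz => ?_⟩
  have := Submodule.mem_map_of_mem (f := f) hz
  rw [hfW, Submodule.mem_bot] at this
  simp [this]

/-- A determinant-one equivalence matching two pairs of vectors and functionals of equal moments. -/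
theorem peel_exists_move {φ₁ φ₂ ψ₁ ψ₂ : Dual F V} {v₁ v₂ w₁ w₂ : V} {c : F}
    (h11 : φ₁ v₁ = 0) (h12 : φ₁ v₂ = 1) (h21 : φ₂ v₁ = 1) (h22 : φ₂ v₂ = c)
    (k11 : ψ₁ w₁ = 0) (k12 : ψ₁ w₂ = 1) (k21 : ψ₂ w₁ = 1) (k22 : ψ₂ w₂ = c)
    (hn : 3 ≤ finrank F V) :
    ∃ s : V ≃ₗ[F] V, LinearMap.det s.toLinearMap = 1 ∧ s v₁ = w₁ ∧ s v₂ = w₂ ∧
      (∀ z, ψ₁ (s z) = φ₁ z) ∧ ∀ z, ψ₂ (s z) = φ₂ z := by
  have d1 := peel_finrank_inf h11 h12 h21 h22
  have d2 := peel_finrank_inf k11 k12 k21 k22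
  obtain ⟨e⟩ : Nonempty ((ker φ₁ ⊓ ker φ₂ : Submodule F V) ≃ₗ[F] (ker ψ₁ ⊓ ker ψ₂ : Submodule F V)) :=
    FiniteDimensional.nonempty_linearEquiv_of_finrank_eq (by omega)
  let P : V →ₗ[F] (ker φ₁ ⊓ ker φ₂ : Submodule F V) :=
    (LinearMap.id - (φ₂ - c • φ₁).smulRight v₁ - φ₁.smulRight v₂).codRestrict _ fun z => by
      simp [h11, h12, h21, h22, mul_comm]
  have hP : ∀ z, (P z : V) = z - (φ₂ z - c * φ₁ z) • v₁ - φ₁ z • v₂ := fun z => by
    show (LinearMap.id - (φ₂ - c • φ₁).smulRight v₁ - φ₁.smulRight v₂ : End F V) z = _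
    simp
  let E : End F V := (φ₂ - c • φ₁).smulRight w₁ + φ₁.smulRight w₂ +
    (ker ψ₁ ⊓ ker ψ₂ : Submodule F V).subtype ∘ₗ e.toLinearMap ∘ₗ P
  have hE : ∀ z, E z = (φ₂ z - c * φ₁ z) • w₁ + φ₁ z • w₂ + (e (P z) : V) := fun z => by simp [E]
  have hψ1 : ∀ z, ψ₁ (E z) = φ₁ z := fun z => by
    simp [hE, k11, k12, mem_ker.1 (Submodule.mem_inf.1 (e (P z)).2).1]
  have hψ2 : ∀ z, ψ₂ (E z) = φ₂ z := fun z => by
    simp [hE, k21, k22, mem_ker.1 (Submodule.mem_inf.1 (e (P z)).2).2, mul_comm]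
  have hinj : Function.Injective E := LinearMap.ker_eq_bot.1 (LinearMap.ker_eq_bot'.2 fun z hz => by
    have a1 : φ₁ z = 0 := by rw [← hψ1, hz, map_zero]
    have a2 : φ₂ z = 0 := by rw [← hψ2, hz, map_zero]
    rw [hE, a1, a2, mul_zero, sub_zero, zero_smul, zero_smul, zero_add, zero_add,
      Submodule.coe_eq_zero, LinearEquiv.map_eq_zero_iff] at hz
    have h := congrArg Subtype.val hz
    rwa [hP, a1, a2, mul_zero, sub_zero, zero_smul, zero_smul, sub_zero, sub_zero] at h)
  have hE1 : E v₁ = w₁ := by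
    have : P v₁ = 0 := Subtype.ext (by simp [hP, h11, h21])
    simp [hE, h11, h21, this]
  have hE2 : E v₂ = w₂ := by
    have : P v₂ = 0 := Subtype.ext (by simp [hP, h12, h22])
    simp [hE, h12, h22, this]
  have hdet : LinearMap.det E ≠ 0 := by
    rw [← isUnit_iff_ne_zero]
    exact LinearMap.isUnit_det E ((Module.End.isUnit_iff E).2
      ⟨hinj, LinearMap.injective_iff_surjective.1 hinj⟩)
  -- the correction of the determinant on the common kernel
  obtain ⟨u, hu, hu0⟩ := Submodule.exists_mem_ne_zero_of_ne_bot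
    (fun h : (ker ψ₁ ⊓ ker ψ₂ : Submodule F V) = ⊥ => by rw [h, finrank_bot] at d2; omega)
  obtain ⟨hu1, hu2⟩ := Submodule.mem_inf.1 hu
  rw [mem_ker] at hu1 hu2
  obtain ⟨f, hfu, hf⟩ := peel_exists_dual (W := Submodule.span F ({w₁, w₂} : Set V)) (x := u) (by
    intro h
    obtain ⟨p, r, rfl⟩ := Submodule.mem_span_pair.1 h
    simp [k11, k12] at hu1
    simp [k21, hu1] at hu2
    simp [hu1, hu2] at hu0)
  set δ := (LinearMap.det E)⁻¹
  let D : End F V := LinearMap.transvection ((δ - 1) • f) u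
  have hD : LinearMap.det D = δ := by simp [D, LinearMap.transvection.det, hfu]
  have hDz : ∀ z, D z = z + ((δ - 1) * f z) • u := fun z => by
    simp [D, LinearMap.transvection.apply]
  have hDE : LinearMap.det (D * E) = 1 := by rw [map_mul, hD, inv_mul_cancel₀ hdet]
  let s : V ≃ₗ[F] V := LinearMap.GeneralLinearGroup.generalLinearEquiv F V
    ((LinearMap.isUnit_iff_isUnit_det (D * E)).2 (hDE ▸ isUnit_one)).unit
  have hs : ∀ z, s z = D (E z) := fun z => rfl
  refine ⟨s, hDE, ?_, ?_, fun z => ?_, fun z => ?_⟩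
  · rw [hs, hE1, hDz, hf w₁ (Submodule.subset_span (by simp)), mul_zero, zero_smul, add_zero]
  · rw [hs, hE2, hDz, hf w₂ (Submodule.subset_span (by simp)), mul_zero, zero_smul, add_zero]
  · rw [hs, hDz, map_add, map_smul, hu1, smul_zero, add_zero, hψ1]
  · rw [hs, hDz, map_add, map_smul, hu2, smul_zero, add_zero, hψ2]

/-- Two conjugates of `A` agreeing with `T` at `v` and `φ`, of small difference. -/
theorem peel_two_conjugates (A T : End F V) (hn : 4 ≤ finrank F V) {v₀ v : V}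
    (hli : LinearIndependent F ![v₀, A v₀, A (A v₀)]) (hv : T v ∉ F ∙ v) :
    ∃ φ : Dual F V, φ v = 0 ∧ φ (T v) = 1 ∧ ∃ s s' : V ≃ₗ[F] V,
      LinearMap.det s.toLinearMap = 1 ∧ LinearMap.det s'.toLinearMap = 1 ∧
      s (A (s.symm v)) = T v ∧ s' (A (s'.symm v)) = T v ∧
      (∀ u, φ (s (A (s.symm u))) = φ (T u)) ∧ (∀ u, φ (s' (A (s'.symm u))) = φ (T u)) ∧
      s' (A (s'.symm (T v))) ≠ s (A (s.symm (T v))) ∧
      ∃ p r : V, ∀ u, s' (A (s'.symm u)) - s (A (s.symm u)) ∈ Submodule.span F ({p, r} : Set V) := by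
  obtain ⟨φ, hφT, hφv'⟩ := peel_exists_dual hv
  have hφv : φ v = 0 := hφv' v (Submodule.mem_span_singleton_self v)
  set c := φ (T (T v)) with hc
  obtain ⟨φ₀, hφ₀⟩ := LinearMap.exists_extend
    ((Finsupp.linearCombination F ![(0 : F), 1, c]).comp hli.repr)
  have hφ₀i : ∀ i, φ₀ (![v₀, A v₀, A (A v₀)] i) = ![(0 : F), 1, c] i := fun i => by
    have h := LinearMap.congr_fun hφ₀ ⟨_, Submodule.subset_span ⟨i, rfl⟩⟩
    rw [LinearMap.comp_apply, LinearMap.comp_apply, Submodule.subtype_apply,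
      hli.repr_eq_single i ⟨_, Submodule.subset_span ⟨i, rfl⟩⟩ rfl] at h
    simpa using h
  have hA0 : φ₀ v₀ = 0 := hφ₀i 0
  have hA1 : φ₀ (A v₀) = 1 := hφ₀i 1
  have hA2 : φ₀ (A (A v₀)) = c := hφ₀i 2
  obtain ⟨s, hsd, hs1, hs2, hs3, hs4⟩ := peel_exists_move (φ₁ := φ₀) (φ₂ := φ₀ ∘ₗ A) (ψ₁ := φ)
    (ψ₂ := φ ∘ₗ T) (v₁ := v₀) (v₂ := A v₀) (w₁ := v) (w₂ := T v) (c := c) hA0 hA1 hA1 hA2 hφv hφT
    hφT rfl (by omega)
  set y : End F V := s.toLinearMap ∘ₗ A ∘ₗ s.symm.toLinearMap with hy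
  have hya : ∀ u, y u = s (A (s.symm u)) := fun u => rfl
  have hv0 : s.symm v = v₀ := s.injective (by rw [s.apply_symm_apply, hs1])
  have hTv0 : s.symm (T v) = A v₀ := s.injective (by rw [s.apply_symm_apply, hs2])
  have hyv : y v = T v := by rw [hya, hv0, hs2]
  have hφy : ∀ u, φ (y u) = φ (T u) := fun u => by
    rw [hya, hs3]
    have h := hs4 (s.symm u)
    rw [s.apply_symm_apply] at h
    exact h.symm
  -- a transvection fixing the moments
  have hout : y (T v) ∉ Submodule.span F ({v, T v} : Set V) := by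
    rw [hya, hTv0, ← hs2, ← hs1]
    intro h
    obtain ⟨a, b, hab⟩ := Submodule.mem_span_pair.1 h
    rw [← map_smul, ← map_smul, ← map_add] at hab
    have h3 := Fintype.linearIndependent_iff.1 hli ![a, b, -1] (by
      simp [Fin.sum_univ_three, ← s.injective hab]
      abel) 2
    simp at h3
  obtain ⟨ψ, hψ1, hψ⟩ := peel_exists_dual hout
  have hψv : ψ v = 0 := hψ v (Submodule.subset_span (by simp))
  have hψT : ψ (T v) = 0 := hψ (T v) (Submodule.subset_span (by simp))
  obtain ⟨w, hwN, hw0⟩ : ∃ w, (φ w = 0 ∧ φ (T w) = 0 ∧ ψ w = 0) ∧ w ≠ 0 := by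
    have d := peel_finrank_inf (φ₁ := φ) (φ₂ := φ ∘ₗ T) (v₁ := v) (v₂ := T v) hφv hφT hφT
      (rfl : φ (T (T v)) = φ (T (T v)))
    set N := ker φ ⊓ ker (φ ∘ₗ T)
    have hk := LinearMap.finrank_range_add_finrank_ker (ψ ∘ₗ N.subtype)
    have h1 : finrank F (range (ψ ∘ₗ N.subtype)) ≤ 1 :=
      (Submodule.finrank_le _).trans (Module.finrank_self F).le
    obtain ⟨⟨w, hw⟩, hwk, hw0⟩ := Submodule.exists_mem_ne_zero_of_ne_bot
      (fun h : ker (ψ ∘ₗ N.subtype) = ⊥ => by rw [h, finrank_bot] at hk; omega)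
    exact ⟨w, ⟨(Submodule.mem_inf.1 hw).1, (Submodule.mem_inf.1 hw).2, hwk⟩,
      fun h => hw0 (Subtype.ext h)⟩
  obtain ⟨hwφ, hwT, hwψ⟩ := hwN
  let τ : V ≃ₗ[F] V := LinearEquiv.transvection (f := ψ) (v := w) hwψ
  have hτ : ∀ z, τ z = z + ψ z • w := fun z => by
    simp [τ, LinearEquiv.transvection, LinearMap.transvection.apply]
  have hτs : ∀ z, τ.symm z = z - ψ z • w := fun z => τ.injective (by
    rw [τ.apply_symm_apply, hτ, map_sub, map_smul, hwψ, smul_zero, sub_zero, sub_add_cancel])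
  have hτd : LinearMap.det τ.toLinearMap = 1 := by
    have : τ.toLinearMap = LinearMap.transvection ψ w := LinearMap.ext fun z => by
      simp [hτ, LinearMap.transvection.apply]
    rw [this, LinearMap.transvection.det, hwψ, add_zero]
  have hy' : ∀ u, (s.trans τ) (A ((s.trans τ).symm u)) = τ (y (τ.symm u)) := fun u => by
    simp [LinearEquiv.trans_symm, hya]
  refine ⟨φ, hφv, hφT, s, s.trans τ, hsd, ?_, hyv, ?_, hφy, ?_, ?_, w, y w, ?_⟩
  · rw [show (s.trans τ).toLinearMap = τ.toLinearMap * s.toLinearMap from rfl, map_mul, hτd, hsd,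
      one_mul]
  · rw [hy', hτs, hψv, zero_smul, sub_zero, hyv, hτ, hψT, zero_smul, add_zero]
  · intro u
    rw [hy', hτ, map_add, map_smul, hwφ, smul_zero, add_zero, hφy, hτs, map_sub, map_sub, map_smul,
      map_smul, hwT, smul_zero, sub_zero]
  · rw [hy', hτs, hψT, zero_smul, sub_zero, ← hya, hτ, hψ1, one_smul]
    simpa using hw0
  · intro u
    rw [hy', hτs, map_sub, map_smul, hτ, ← hya]
    refine Submodule.mem_span_pair.2 ⟨ψ (y u - ψ u • y w), -ψ u, ?_⟩
    module

theorem peel_exists_noneigen (f : End F V) (hf : ∀ c : F, f ≠ c • 1) : ∃ v, f v ∉ F ∙ v := by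
  by_contra! hall
  rcases subsingleton_or_nontrivial V with hV | hV
  · exact hf 0 (LinearMap.ext fun _ => Subsingleton.elim _ _)
  obtain ⟨u, hu⟩ := exists_ne (0 : V)
  obtain ⟨a, ha⟩ := Submodule.mem_span_singleton.1 (hall u)
  refine hf a (LinearMap.ext fun w => ?_)
  obtain ⟨b, hb⟩ := Submodule.mem_span_singleton.1 (hall w)
  by_cases hw : w ∈ F ∙ u
  · obtain ⟨r, rfl⟩ := Submodule.mem_span_singleton.1 hw
    rw [map_smul, ← ha, LinearMap.smul_apply, Module.End.one_apply, smul_comm]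
  · obtain ⟨e, he⟩ := Submodule.mem_span_singleton.1 (hall (w + u))
    rw [map_add, ← ha, ← hb] at he
    have h1 : (e - b) • w = (a - e) • u := by linear_combination (norm := module) he
    have h2 : e - b = 0 := by
      by_contra hne
      exact hw (Submodule.mem_span_singleton.2 ⟨(e - b)⁻¹ * (a - e), by
        rw [mul_smul, ← h1, inv_smul_smul₀ hne]⟩)
    rw [h2, zero_smul, eq_comm, smul_eq_zero] at h1
    rw [← hb, LinearMap.smul_apply, Module.End.one_apply, sub_eq_zero.1 (h1.resolve_right hu),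
      sub_eq_zero.1 h2]

theorem exists_independent_three {E : End F V} (h : 3 ≤ (minpoly F E).natDegree) :
    ∃ v, LinearIndependent F ![v, E v, E (E v)] := by
  obtain ⟨v, W, hli, -, -, -⟩ := exists_invariant_compl E
  refine ⟨v, ?_⟩
  have h3 := hli.comp (fun i : Fin 3 => (⟨i, by omega⟩ : Fin (minpoly F E).natDegree))
    (fun i j hij => Fin.ext (by simpa using congrArg Fin.val hij))
  convert h3 using 1
  funext i
  fin_cases i <;> simp [pow_two]

/-- Block form of an endomorphism fixing a line and a complementary hyperplane. -/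
theorem peel_block_form {m : ℕ} (H : GL (Fin (m + 1)) F) (e : Fin 1 ⊕ Fin m ≃ Fin (m + 1))
    (μ : Fˣ) (φ : Dual F (Fin (m + 1) → F)) (w : Fin (m + 1) → F) (hφw : φ w = 1)
    (hHw : Matrix.toLin' (H : Matrix (Fin (m + 1)) (Fin (m + 1)) F) w = (μ : F) • w)
    (hHφ : ∀ z, φ (Matrix.toLin' (H : Matrix (Fin (m + 1)) (Fin (m + 1)) F) z) = μ * φ z) :
    ∃ G : GL (Fin (m + 1)) F, ∃ B1 : GL (Fin m) F,
      H = G * reindexGL e (blockGL (scalarGL (Fin 1) μ) B1) * G⁻¹ ∧
      ∀ ν : F, (B1 : Matrix (Fin m) (Fin m) F) = ν • 1 →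
        ∀ z ∈ ker φ, Matrix.toLin' (H : Matrix (Fin (m + 1)) (Fin (m + 1)) F) z = ν • z := by
  classical
  set EH := Matrix.toLin' (H : Matrix (Fin (m + 1)) (Fin (m + 1)) F) with hEH
  have hkφ : finrank F (ker φ) = m := by
    have h := LinearMap.finrank_range_add_finrank_ker φ
    rw [LinearMap.range_eq_top.2 (fun c => ⟨c • w, by simp [hφw]⟩), finrank_top,
      Module.finrank_self, finrank_fin_fun] at h
    omega
  -- the matrix of the complement
  have hinv : ∀ z ∈ ker φ, EH z ∈ ker φ := fun z hz => by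
    rw [mem_ker, hHφ, mem_ker.1 hz, mul_zero]
  let bW := Module.finBasisOfFinrankEq F (ker φ) hkφ
  have hcompl : IsCompl (F ∙ w) (ker φ) := by
    refine IsCompl.of_eq ?_ (eq_top_iff.2 fun z _ => ?_)
    · refine (Submodule.disjoint_span_singleton' (fun h => by simp [h] at hφw)).2 ?_ |>.symm.eq_bot
      simp [hφw]
    · exact Submodule.mem_sup.2 ⟨φ z • w, Submodule.smul_mem _ _
        (Submodule.mem_span_singleton_self _), z - φ z • w, by simp [hφw],
        add_sub_cancel _ _⟩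
  have hw0 : w ≠ 0 := fun h => by simp [h] at hφw
  let bU : Basis (Fin 1) F (F ∙ w) :=
    (Module.Basis.singleton (Fin 1) F).map (LinearEquiv.toSpanNonzeroSingleton F _ _ hw0)
  let b : Basis (Fin 1 ⊕ Fin m) F (Fin (m + 1) → F) :=
    (bU.prod bW).map (Submodule.prodEquivOfIsCompl _ _ hcompl)
  have hbl : ∀ i, b (Sum.inl i) = w := fun i => by simp [b, bU]
  have hbr : ∀ i, b (Sum.inr i) = bW i := fun i => by simp [b]
  set K := LinearMap.toMatrix bW bW (EH.restrict hinv) with hK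
  have hM : LinearMap.toMatrix b b EH = fromBlocks ((μ : F) • 1) 0 0 K := by
    refine Matrix.ext fun i j => ?_
    rw [LinearMap.toMatrix_apply]
    rcases j with j | j
    · rw [hbl, hHw, ← hbl j, map_smul, Basis.repr_self]
      rcases i with i | i
      · simp [Subsingleton.elim i j]
      · simp
    · rw [hbr]
      have hsum : EH (bW j : Fin (m + 1) → F) = ∑ l, K l j • b (Sum.inr l) := by
        have h := congrArg Subtype.val (bW.sum_repr ((EH.restrict hinv) (bW j)))
        simp only [Submodule.coe_sum, Submodule.coe_smul, LinearMap.coe_restrict_apply] at h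
        simp only [hbr, hK, LinearMap.toMatrix_apply]
        exact h.symm
      rw [hsum, map_sum]
      simp only [map_smul, Basis.repr_self, Finsupp.coe_finsetSum, Finsupp.coe_smul,
        Finset.sum_apply, Pi.smul_apply, Finsupp.single_apply, smul_eq_mul]
      rcases i with i | i <;> simp
  let b' : Basis (Fin (m + 1)) F (Fin (m + 1) → F) := b.reindex e
  let G : GL (Fin (m + 1)) F :=
    ⟨(Pi.basisFun F (Fin (m + 1))).toMatrix b', b'.toMatrix (Pi.basisFun F (Fin (m + 1))),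
      Basis.toMatrix_mul_toMatrix_flip _ _, Basis.toMatrix_mul_toMatrix_flip _ _⟩
  have hKd : K.det ≠ 0 := by
    intro h
    have h1 : LinearMap.det EH ≠ 0 := by
      rw [hEH, LinearMap.det_toLin']
      exact ((Matrix.isUnit_iff_isUnit_det _).1 H.isUnit).ne_zero
    rw [← LinearMap.det_toMatrix b, hM, det_fromBlocks_zero₂₁, h, mul_zero] at h1
    exact h1 rfl
  let B1 : GL (Fin m) F := GeneralLinearGroup.mkOfDetNeZero K hKd
  refine ⟨G, B1, ?_, fun ν hν z hz => ?_⟩
  · refine Units.ext ?_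
    have hre : Matrix.reindex e e (fromBlocks ((μ : F) • 1) 0 0 K) = LinearMap.toMatrix b' b' EH := by
      rw [← hM]
      ext i j
      simp [b', LinearMap.toMatrix_apply]
    show (H : Matrix (Fin (m + 1)) (Fin (m + 1)) F) = (Pi.basisFun F (Fin (m + 1))).toMatrix b' *
      Matrix.reindex e e (fromBlocks ((scalarGL (Fin 1) μ : GL (Fin 1) F) : Matrix _ _ F) 0 0 K)
        * b'.toMatrix (Pi.basisFun F (Fin (m + 1)))
    rw [coe_scalarGL, hre, basis_toMatrix_mul_linearMap_toMatrix_mul_basis_toMatrix,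
      LinearMap.toMatrix_eq_toMatrix', hEH]
    exact (LinearMap.toMatrix'_toLin' _).symm
  · have hν' : EH.restrict hinv = ν • 1 := (LinearMap.toMatrix bW bW).injective (by
      rw [← hK, show K = ν • 1 from hν, map_smul, LinearMap.toMatrix_one])
    exact congrArg Subtype.val (LinearMap.congr_fun hν' ⟨z, hz⟩)

/-- A cover of the complementary summand gives a cover of the block sum. -/
theorem peel_cov_block {m k : ℕ} (A : GL (Fin (m + 1)) F) (a : Fˣ) (A1 B1 : GL (Fin m) F)
    (e : Fin 1 ⊕ Fin m ≃ Fin (m + 1)) (g G : GL (Fin (m + 1)) F)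
    (hA : A = g * reindexGL e (blockGL (scalarGL (Fin 1) a) A1) * g⁻¹) (hcov : Cov k A1 B1) :
    CovS k A (G * reindexGL e (blockGL (scalarGL (Fin 1) (a ^ k)) B1) * G⁻¹) := by
  obtain ⟨f, hf⟩ := hcov
  let blk : GL (Fin 1) F × GL (Fin m) F →* GL (Fin (m + 1)) F :=
    (reindexGL e).toMonoidHom.comp
      (MonoidHom.mk' (fun x => blockGL x.1 x.2) fun x z => (blockGL_mul x.1 z.1 x.2 z.2).symm)
  have hblk : ∀ x z, blk (x, z) = reindexGL e (blockGL x z) := fun x z => rfl
  let d : Fin k → Fˣ := fun i =>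
    (GeneralLinearGroup.det G * GeneralLinearGroup.det (f i) * (GeneralLinearGroup.det g)⁻¹)⁻¹
  let q : Fin k → GL (Fin (m + 1)) F := fun i => G * blk (scalarGL (Fin 1) (d i), f i) * g⁻¹
  have hqd : ∀ i, GeneralLinearGroup.det (q i) = 1 := fun i => by
    have hs : GeneralLinearGroup.det (scalarGL (Fin 1) (d i)) = d i :=
      Units.ext (by simp [GeneralLinearGroup.val_det_apply, coe_scalarGL])
    simp only [q, hblk, map_mul, map_inv, det_reindexGL, det_blockGL, hs, d]
    generalize GeneralLinearGroup.det G = x, GeneralLinearGroup.det (f i) = y,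
      (GeneralLinearGroup.det g)⁻¹ = z
    rw [mul_comm _ y, ← mul_assoc x, mul_comm (x * y) _, mul_assoc, inv_mul_cancel]
  have hsc : ∀ i, scalarGL (Fin 1) (d i) * scalarGL (Fin 1) a * (scalarGL (Fin 1) (d i))⁻¹ =
      scalarGL (Fin 1) a := fun i => by
    simp only [scalarGL, ← map_mul, ← map_inv]
    rw [mul_comm (d i) a, mul_inv_cancel_right]
  refine ⟨q, hqd, ?_⟩
  have hpr : (scalarGL (Fin 1) (a ^ k), B1) =
      (List.ofFn fun i : Fin k => (scalarGL (Fin 1) a, f i * A1 * (f i)⁻¹)).prod := by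
    refine Prod.ext ?_ ?_
    · rw [← MonoidHom.coe_fst, map_list_prod, List.map_ofFn]
      simp [Function.comp_def, scalarGL, map_pow]
    · rw [← MonoidHom.coe_snd, map_list_prod, List.map_ofFn]
      exact hf
  have hterm : ∀ i, q i * A * (q i)⁻¹ =
      G * blk (scalarGL (Fin 1) a, f i * A1 * (f i)⁻¹) * G⁻¹ := fun i => by
    conv_lhs => rw [hA]
    rw [← hblk (scalarGL (Fin 1) a) A1, show q i * (g * blk (scalarGL (Fin 1) a, A1) * g⁻¹) *
      (q i)⁻¹ = G * (blk (scalarGL (Fin 1) (d i), f i) * blk (scalarGL (Fin 1) a, A1) *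
        (blk (scalarGL (Fin 1) (d i), f i))⁻¹) * G⁻¹ by simp only [q]; group,
      ← map_inv, ← map_mul, ← map_mul, Prod.inv_mk, Prod.mk_mul_mk, Prod.mk_mul_mk, hsc]
  rw [← hblk, hpr, map_list_prod, List.map_ofFn, conj_list_prod, List.map_ofFn]
  congr 2
  funext i
  exact (hterm i).symm

/-- The peeling step. -/
theorem peel_step {m : ℕ} (hm : 3 ≤ m) (k : ℕ) (A : GL (Fin (m + 1)) F) (a : Fˣ)
    (A1 : GL (Fin m) F) (e : Fin 1 ⊕ Fin m ≃ Fin (m + 1)) (g : GL (Fin (m + 1)) F)
    (hA : A = g * reindexGL e (blockGL (scalarGL (Fin 1) a) A1) * g⁻¹)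
    (hdeg : 3 ≤ (minpoly F (A : Matrix (Fin (m + 1)) (Fin (m + 1)) F)).natDegree)
    (ih : ∀ B1 : GL (Fin m) F, NonScalar B1 →
      GeneralLinearGroup.det B1 = GeneralLinearGroup.det A1 ^ k → Cov k A1 B1)
    (B : GL (Fin (m + 1)) F) (hB : NonScalar B)
    (hdet : GeneralLinearGroup.det B = GeneralLinearGroup.det A ^ (k + 1)) :
    CovS (k + 1) A B := by
  classical
  let L : Matrix (Fin (m + 1)) (Fin (m + 1)) F ≃ₐ[F] End F (Fin (m + 1) → F) :=
    Matrix.toLinAlgEquiv'
  have hLdet : ∀ X, LinearMap.det (L X) = X.det := fun X => LinearMap.det_toLin' X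
  set EA := L (A : Matrix (Fin (m + 1)) (Fin (m + 1)) F) with hEA
  set EB := L (B : Matrix (Fin (m + 1)) (Fin (m + 1)) F) with hEB
  set μ : F := ((a ^ k : Fˣ) : F) with hμ
  have hμ0 : μ ≠ 0 := (a ^ k).ne_zero
  set T := μ⁻¹ • EB with hT
  have hBT : ∀ u, EB u = μ • T u := fun u => by
    rw [hT, LinearMap.smul_apply, smul_inv_smul₀ hμ0]
  obtain ⟨v, hv⟩ := peel_exists_noneigen T fun c hc => hB (μ * c) (L.injective (by
    rw [map_smul, map_one, ← hEB]
    exact LinearMap.ext fun u => by rw [hBT, hc]; simp [smul_smul]))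
  obtain ⟨v₀, hli⟩ := exists_independent_three (E := EA) (by
    rw [hEA, minpoly.algEquiv_eq]; exact hdeg)
  obtain ⟨φ, hφv, hφT, s, s', hsd, hsd', hyv, hyv', hφy, hφy', hne, p, r, hpr⟩ :=
    peel_two_conjugates EA T (by rw [finrank_fin_fun]; omega) hli hv
  have hkφ : finrank F (ker φ) = m := by
    have h := LinearMap.finrank_range_add_finrank_ker φ
    rw [LinearMap.range_eq_top.2 (fun c => ⟨c • T v, by simp [hφT]⟩), finrank_top,
      Module.finrank_self, finrank_fin_fun] at h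
    omega
  obtain ⟨Bi, hBi⟩ : ∃ Bi : (Fin (m + 1) → F) → Fin (m + 1) → F, ∀ z, EB (Bi z) = z :=
    ⟨fun z => L ((B⁻¹ : GL (Fin (m + 1)) F) : Matrix (Fin (m + 1)) (Fin (m + 1)) F) z, fun z => by
      rw [hEB, ← Module.End.mul_apply, ← map_mul, ← Units.val_mul, mul_inv_cancel, Units.val_one,
        map_one, Module.End.one_apply]⟩
  have hBinj : Function.Injective EB := LinearMap.injective_iff_surjective.2 fun z => ⟨Bi z, hBi z⟩
  -- choose the conjugate leaving a non-scalar complement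
  obtain ⟨t, htd, hty, htφ, htns⟩ : ∃ t : (Fin (m + 1) → F) ≃ₗ[F] (Fin (m + 1) → F),
      LinearMap.det t.toLinearMap = 1 ∧ t (EA (t.symm v)) = T v ∧
      (∀ u, φ (t (EA (t.symm u))) = φ (T u)) ∧
      ¬ ∃ ν : F, ∀ u, EB u ∈ ker φ → EB u = ν • t (EA (t.symm u)) := by
    by_cases h1 : ∃ ν : F, ∀ u, EB u ∈ ker φ → EB u = ν • s (EA (s.symm u))
    swap
    · exact ⟨s, hsd, hyv, hφy, h1⟩
    refine ⟨s', hsd', hyv', hφy', ?_⟩
    rintro ⟨ν', hν'⟩
    obtain ⟨ν, hν⟩ := h1
    have hν0 : ∀ {t : (Fin (m + 1) → F) ≃ₗ[F] (Fin (m + 1) → F)} {ν : F},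
        (∀ u, EB u ∈ ker φ → EB u = ν • t (EA (t.symm u))) → ν ≠ 0 := fun {t ν} h h0 => by
      obtain ⟨z, hz, hz0⟩ := Submodule.exists_mem_ne_zero_of_ne_bot
        (fun hb : ker φ = ⊥ => by rw [hb, finrank_bot] at hkφ; omega)
      have := h (Bi z) (by rwa [hBi])
      rw [hBi, h0, zero_smul] at this
      exact hz0 this
    by_cases hνν : ν = ν'
    · refine hne ?_
      have hdiff : ∀ u, EB u ∈ ker φ → s' (EA (s'.symm u)) = s (EA (s.symm u)) := fun u hu => by
        have := (hν' u hu).symm.trans (hν u hu)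
        rw [← hνν] at this
        exact smul_right_injective _ (hν0 hν) this
      set c := φ (T (T v)) with hc
      have h := hdiff (T v - c • v) (by
        rw [mem_ker, hBT, map_smul, map_sub, map_smul, map_sub, map_smul, hφT, smul_eq_mul,
          smul_eq_mul, mul_one, ← hc, sub_self, mul_zero])
      simp only [map_sub, map_smul, hyv, hyv'] at h
      exact sub_left_injective h
    · have hle : ker φ ≤ Submodule.span F ({p, r} : Set (Fin (m + 1) → F)) := fun z hz => by
        have hu : EB (Bi z) ∈ ker φ := by rwa [hBi]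
        have h1 := hν _ hu
        have h2 := hν' _ hu
        rw [hBi] at h1 h2
        have h3 := hpr (Bi z)
        rw [(eq_inv_smul_iff₀ (hν0 hν)).2 h1.symm, (eq_inv_smul_iff₀ (hν0 hν')).2 h2.symm,
          ← sub_smul] at h3
        exact (Submodule.smul_mem_iff _ (sub_ne_zero.2 fun h => hνν (inv_injective h).symm)).1 h3
      have h1 := Submodule.finrank_mono hle
      have h2 := finrank_span_le_card (R := F) ({p, r} : Set (Fin (m + 1) → F))
      have h3 : ({p, r} : Set (Fin (m + 1) → F)).toFinset.card ≤ 2 := by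
        rw [Set.toFinset_insert, Set.toFinset_singleton]
        exact (Finset.card_insert_le _ _).trans (by simp)
      omega
  obtain ⟨S, hS⟩ : ∃ S : GL (Fin (m + 1)) F,
      L (S : Matrix (Fin (m + 1)) (Fin (m + 1)) F) = t.toLinearMap :=
    ⟨GeneralLinearGroup.mkOfDetNeZero (L.symm t.toLinearMap) (by
      rw [← hLdet, L.apply_symm_apply, htd]; exact one_ne_zero), L.apply_symm_apply _⟩
  have hSd : GeneralLinearGroup.det S = 1 := Units.ext (by
    rw [GeneralLinearGroup.val_det_apply, ← hLdet, hS, htd, Units.val_one])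
  have hSi : ∀ u, L ((S⁻¹ : GL (Fin (m + 1)) F) : Matrix (Fin (m + 1)) (Fin (m + 1)) F) u =
      t.symm u := fun u => t.injective (by
    rw [t.apply_symm_apply, show t (L _ u) = t.toLinearMap (L _ u) from rfl, ← hS,
      ← Module.End.mul_apply, ← map_mul, ← Units.val_mul, mul_inv_cancel, Units.val_one, map_one,
      Module.End.one_apply])
  set Y := S * A * S⁻¹ with hY
  have hYu : ∀ u, L (Y : Matrix (Fin (m + 1)) (Fin (m + 1)) F) u = t (EA (t.symm u)) := fun u => by
    rw [hY, Units.val_mul, Units.val_mul, map_mul, map_mul, Module.End.mul_apply,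
      Module.End.mul_apply, hSi, hS, ← hEA]
    rfl
  have hYsurj : Function.Surjective (L (Y : Matrix (Fin (m + 1)) (Fin (m + 1)) F)) := fun z =>
    ⟨L ((Y⁻¹ : GL (Fin (m + 1)) F) : Matrix (Fin (m + 1)) (Fin (m + 1)) F) z, by
      rw [← Module.End.mul_apply, ← map_mul, ← Units.val_mul, mul_inv_cancel, Units.val_one,
        map_one, Module.End.one_apply]⟩
  set H := B * Y⁻¹ with hH
  set EH := L (H : Matrix (Fin (m + 1)) (Fin (m + 1)) F) with hEH
  have hHY : ∀ u, EH (t (EA (t.symm u))) = EB u := fun u => by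
    rw [← hYu, hEH, ← Module.End.mul_apply, ← map_mul, ← Units.val_mul, hH, inv_mul_cancel_right,
      hEB]
  have hHv : EH (T v) = μ • T v := by rw [← hty, hHY, hBT, hty]
  have hHφ : ∀ z, φ (EH z) = μ * φ z := fun z => by
    obtain ⟨u, rfl⟩ := hYsurj z
    rw [hYu, hHY, hBT, map_smul, htφ, smul_eq_mul]
  obtain ⟨G, B1, hHblock, hns⟩ := peel_block_form H e (a ^ k) φ (T v) hφT hHv hHφ
  have hdetA : GeneralLinearGroup.det A = a * GeneralLinearGroup.det A1 := by
    rw [hA, map_mul, map_mul, map_inv, mul_inv_cancel_comm, det_reindexGL, det_blockGL]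
    congr 1
    exact Units.ext (by simp [GeneralLinearGroup.val_det_apply, coe_scalarGL])
  have hB1det : GeneralLinearGroup.det B1 = GeneralLinearGroup.det A1 ^ k := by
    have h1 : GeneralLinearGroup.det H = GeneralLinearGroup.det A ^ k := by
      rw [hH, map_mul, map_inv, hdet, hY, map_mul, map_mul, map_inv, hSd, inv_one, one_mul, mul_one,
        pow_succ, mul_inv_cancel_right]
    rw [hHblock, map_mul, map_mul, map_inv, mul_inv_cancel_comm, det_reindexGL, det_blockGL, hdetA,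
      mul_pow, show GeneralLinearGroup.det (scalarGL (Fin 1) (a ^ k)) = a ^ k from
        Units.ext (by simp [GeneralLinearGroup.val_det_apply, coe_scalarGL])] at h1
    exact mul_left_cancel h1
  have hB1 : NonScalar B1 := by
    intro ν hν
    refine htns ⟨ν, fun u hu => ?_⟩
    have hzk : t (EA (t.symm u)) ∈ ker φ := by
      rw [mem_ker, htφ]
      rw [mem_ker, hBT, map_smul, smul_eq_mul] at hu
      exact (mul_eq_zero.1 hu).resolve_left hμ0
    rw [← hHY]
    exact hns ν hν _ hzk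
  have hcovH : CovS k A H := hHblock ▸ peel_cov_block A a A1 B1 e g G hA (ih B1 hB1 hB1det)
  have hfinal := hcovH.mul (covS_one A S hSd)
  rwa [← hY, hH, inv_mul_cancel_right] at hfinal

end CfsgLib.PSLCover
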