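import Cfsg.Agent.Lib.PSLCover.CoreCover

/-!
The determinant ratio of the two conjugators in a block pair, modulo a group of determinants.
-/

set_option autoImplicit false
set_option linter.style.haveILetI false
set_option linter.unusedSectionVars false

namespace CfsgLib.PSLCover

open Matrix Polynomial

variable {F : Type*} [Field F] {ι κ : Type*} [Fintype ι] [DecidableEq ι] [Fintype κ] [DecidableEq κ]

/-- Determinants of the centraliser of `A`. -/
def detCent (A : GL ι F) : Subgroup Fˣ :=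
  (Subgroup.centralizer ({A} : Set (GL ι F))).map GeneralLinearGroup.det

theorem mem_detCent {A : GL ι F} {δ : Fˣ} :
    δ ∈ detCent A ↔ ∃ c : GL ι F, c * A = A * c ∧ GeneralLinearGroup.det c = δ := by
  simp [detCent, Subgroup.mem_centralizer_singleton_iff, eq_comm]

theorem fullDet_iff_detCent {A : GL ι F} : FullDet A ↔ ∀ δ : Fˣ, δ ∈ detCent A :=
  forall_congr' fun _ => mem_detCent.symm

theorem det_mem_detCent (A : GL ι F) : GeneralLinearGroup.det A ∈ detCent A :=
  mem_detCent.mpr ⟨A, rfl, rfl⟩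

theorem pow_card_mem_detCent (A : GL ι F) (u : Fˣ) : u ^ Fintype.card ι ∈ detCent A := by
  refine mem_detCent.mpr ⟨scalarGL ι u, Units.ext (by simp), Units.ext ?_⟩
  simp [scalarGL, Matrix.scalar_apply, det_diagonal]

theorem detCent_conj (g A : GL ι F) : detCent (g * A * g⁻¹) = detCent A := by
  have key : ∀ (g A : GL ι F) (δ : Fˣ), δ ∈ detCent A → δ ∈ detCent (g * A * g⁻¹) := by
    intro g A δ h
    rw [mem_detCent] at h ⊢
    obtain ⟨c, hc, hd⟩ := h
    refine ⟨g * c * g⁻¹, ?_, by simp [map_mul, hd]⟩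
    calc g * c * g⁻¹ * (g * A * g⁻¹) = g * (c * A) * g⁻¹ := by group
      _ = g * (A * c) * g⁻¹ := by rw [hc]
      _ = g * A * g⁻¹ * (g * c * g⁻¹) := by group
  ext δ
  refine ⟨fun h => ?_, key g A δ⟩
  simpa [mul_assoc] using key g⁻¹ _ δ h

/-- The matrix with columns `v, M v, …`. -/
def kry {k : ℕ} (M : Matrix (Fin k) (Fin k) F) (v : Fin k → F) : Matrix (Fin k) (Fin k) F :=
  Matrix.of fun i j => ((M ^ (j : ℕ)) *ᵥ v) i

theorem kry_mulVec_left {k : ℕ} (M c : Matrix (Fin k) (Fin k) F) (hc : c * M = M * c)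
    (v : Fin k → F) : kry M (c *ᵥ v) = c * kry M v := by
  ext i j
  have h : (M ^ (j : ℕ)) *ᵥ (c *ᵥ v) = c *ᵥ ((M ^ (j : ℕ)) *ᵥ v) := by
    rw [mulVec_mulVec, mulVec_mulVec, ((show Commute c M from hc).pow_right _).eq]
  simp only [kry, Matrix.of_apply, h, Matrix.mul_apply]
  rfl

theorem kry_conj {k : ℕ} (g M : GL (Fin k) F) (v : Fin k → F) :
    kry ((g * M * g⁻¹ : GL (Fin k) F) : Matrix (Fin k) (Fin k) F) ((g : Matrix (Fin k) (Fin k) F) *ᵥ v) =
      (g : Matrix (Fin k) (Fin k) F) * kry (M : Matrix (Fin k) (Fin k) F) v := by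
  ext i j
  have hpow : (((g * M * g⁻¹ : GL (Fin k) F) : Matrix (Fin k) (Fin k) F) ^ (j : ℕ)) *
      (g : Matrix (Fin k) (Fin k) F) =
      (g : Matrix (Fin k) (Fin k) F) * (M : Matrix (Fin k) (Fin k) F) ^ (j : ℕ) := by
    rw [← Units.val_pow_eq_pow_val, ← Units.val_pow_eq_pow_val, conj_pow, ← Units.val_mul,
      ← Units.val_mul, inv_mul_cancel_right]
  have h := congrArg (fun X => X *ᵥ v) hpow
  simp only [← mulVec_mulVec] at h
  simp only [kry, Matrix.of_apply, h, Matrix.mul_apply]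
  rfl

theorem exists_aeval_mulVec {k : ℕ} {M : Matrix (Fin k) (Fin k) F} {v : Fin k → F}
    (hv : Submodule.span F (Set.range fun i : ℕ => (M ^ i) *ᵥ v) = ⊤) (w : Fin k → F) :
    ∃ p : F[X], (aeval M p) *ᵥ v = w := by
  have hw : w ∈ Submodule.span F (Set.range fun i : ℕ => (M ^ i) *ᵥ v) := hv ▸ Submodule.mem_top
  induction hw using Submodule.span_induction with
  | mem x hx => obtain ⟨i, rfl⟩ := hx; exact ⟨X ^ i, by simp only [map_pow, aeval_X]⟩
  | zero => exact ⟨0, by simp⟩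
  | add a b _ _ ha hb =>
    obtain ⟨p, rfl⟩ := ha
    obtain ⟨q, rfl⟩ := hb
    exact ⟨p + q, by rw [map_add, add_mulVec]⟩
  | smul c a _ ha =>
    obtain ⟨p, rfl⟩ := ha
    exact ⟨c • p, by rw [map_smul, smul_mulVec]⟩

theorem det_kry_ne_zero {k : ℕ} {M : Matrix (Fin k) (Fin k) F} {v : Fin k → F}
    (hv : Submodule.span F (Set.range fun i : ℕ => (M ^ i) *ᵥ v) = ⊤) : (kry M v).det ≠ 0 := by
  have hv' : orbitSpan (toLin' M) v = ⊤ := by simp only [orbitSpan, toLin'_pow_apply]; exact hv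
  have h := span_pow_of_cyclic (toLin' M) M.charpoly (charpoly_monic M)
    (by rw [← Matrix.charpoly_toLin']; exact LinearMap.aeval_self_charpoly _) hv'
  have hd : M.charpoly.natDegree = k := by rw [charpoly_natDegree_eq_dim, Fintype.card_fin]
  rw [hd] at h
  have hli : LinearIndependent F (fun i : Fin k => ((toLin' M) ^ (i : ℕ)) v) :=
    linearIndependent_of_top_le_span_of_card_eq_finrank h (by simp)
  refine ((Matrix.isUnit_iff_isUnit_det _).mp (linearIndependent_cols_iff_isUnit.mp ?_)).ne_zero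
  convert hli using 1
  funext j i
  rw [toLin'_pow_apply]
  rfl

/-- Changing the cyclic vector changes the Krylov determinant by a centraliser determinant. -/
theorem exists_kry_unit {k : ℕ} (M : GL (Fin k) F) {v w : Fin k → F}
    (hv : Submodule.span F (Set.range fun i : ℕ => ((M : Matrix (Fin k) (Fin k) F) ^ i) *ᵥ v) = ⊤)
    (hw : Submodule.span F (Set.range fun i : ℕ => ((M : Matrix (Fin k) (Fin k) F) ^ i) *ᵥ w) = ⊤) :
    ∃ δ ∈ detCent M, (kry (M : Matrix (Fin k) (Fin k) F) w).det =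
      (δ : F) * (kry (M : Matrix (Fin k) (Fin k) F) v).det := by
  obtain ⟨p, hp⟩ := exists_aeval_mulVec hv w
  set c : Matrix (Fin k) (Fin k) F := aeval (M : Matrix (Fin k) (Fin k) F) p
  have hc : c * (M : Matrix (Fin k) (Fin k) F) = (M : Matrix (Fin k) (Fin k) F) * c := by
    conv_lhs => rw [← aeval_X (R := F) (M : Matrix (Fin k) (Fin k) F)]
    conv_rhs => rw [← aeval_X (R := F) (M : Matrix (Fin k) (Fin k) F)]
    rw [← map_mul, ← map_mul, mul_comm]
  have hk : kry (M : Matrix (Fin k) (Fin k) F) w = c * kry (M : Matrix (Fin k) (Fin k) F) v := by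
    rw [← hp, kry_mulVec_left _ _ hc]
  have hne : c.det ≠ 0 := fun h0 => det_kry_ne_zero hw (by rw [hk, det_mul, h0, zero_mul])
  let cu : GL (Fin k) F := GeneralLinearGroup.mkOfDetNeZero c hne
  refine ⟨GeneralLinearGroup.det cu, mem_detCent.mpr ⟨cu, Units.ext hc, rfl⟩, ?_⟩
  rw [hk, det_mul]
  rfl

variable {m : ℕ}

/-- The weighted product of a root list. -/
def weight {k : ℕ} (h : Fin k → F) : F :=
  ∏ i : Fin k, ∏ j : Fin k, if 0 < (j : ℕ) ∧ (j : ℕ) ≤ (i : ℕ) then h j else 1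

theorem det_kry_tri (h : Fin (m + 2) → F) (s : Fin m → F) (x : Fin (m + 1) → F) (g : F[X]) :
    (kry (triBlock h s x * compMat (m := m) g) (Pi.single 0 1)).det = weight h := by
  set P := triBlock h s x * compMat (m := m) g with hP
  have hsub : ∀ j : Fin (m + 1), P j.succ j.castSucc = h j.succ := fun j => by
    rw [hP, mul_comp_castSucc, triBlock_diag]
  have hbelow : ∀ i j : Fin (m + 2), (j : ℕ) + 1 < i → P i j = 0 := fun i j hij => by
    induction j using Fin.lastCases with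
    | last => simp at hij; omega
    | cast j =>
      rw [hP, mul_comp_castSucc, triBlock_below]
      rw [Fin.lt_def]
      simpa using hij
  have key : ∀ l : ℕ, l ≤ m + 1 →
      (∀ i : Fin (m + 2), l < (i : ℕ) → ((P ^ l) *ᵥ (Pi.single 0 1 : Fin (m + 2) → F)) i = 0) ∧
      ∀ i : Fin (m + 2), (i : ℕ) = l → ((P ^ l) *ᵥ (Pi.single 0 1 : Fin (m + 2) → F)) i =
        ∏ j : Fin (m + 2), if 0 < (j : ℕ) ∧ (j : ℕ) ≤ l then h j else 1 := by
    intro l
    induction l with
    | zero =>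
      intro _
      refine ⟨fun i hi => ?_, fun i hi => ?_⟩
      · rw [pow_zero, one_mulVec, Pi.single_eq_of_ne]
        exact fun h0 => by simp [h0] at hi
      · have : i = 0 := Fin.ext (by simpa using hi)
        subst this
        rw [pow_zero, one_mulVec, Pi.single_eq_same, Finset.prod_eq_one]
        intro j _
        rw [if_neg (by omega)]
    | succ l ih =>
      intro hl
      obtain ⟨ih1, ih2⟩ := ih (by omega)
      rw [pow_succ', ← mulVec_mulVec]
      set v := (P ^ l) *ᵥ (Pi.single 0 1 : Fin (m + 2) → F)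
      refine ⟨fun i hi => ?_, fun i hi => ?_⟩
      · rw [mulVec, dotProduct, Finset.sum_eq_zero]
        intro j _
        rcases Nat.lt_or_ge l (j : ℕ) with hj | hj
        · rw [ih1 j hj, mul_zero]
        · rw [hbelow i j (by omega), zero_mul]
      · let l' : Fin (m + 1) := ⟨l, by omega⟩
        rw [mulVec, dotProduct, Finset.sum_eq_single l'.castSucc]
        · rw [ih2 _ rfl, show i = l'.succ from Fin.ext (by simp [l', hi]), hsub]
          rw [← Finset.mul_prod_erase Finset.univ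
            (fun j : Fin (m + 2) => if 0 < (j : ℕ) ∧ (j : ℕ) ≤ l + 1 then h j else 1)
            (Finset.mem_univ l'.succ)]
          rw [if_pos (by simp [l'])]
          congr 1
          rw [← Finset.mul_prod_erase Finset.univ
            (fun j : Fin (m + 2) => if 0 < (j : ℕ) ∧ (j : ℕ) ≤ l then h j else 1)
            (Finset.mem_univ l'.succ), if_neg (by simp [l']), one_mul]
          refine Finset.prod_congr rfl fun j hj => if_congr ?_ rfl rfl
          have : (j : ℕ) ≠ l + 1 := fun hh => (Finset.mem_erase.mp hj).1 (Fin.ext (by simp [l', hh]))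
          omega
        · intro j _ hj
          rcases Nat.lt_or_ge l (j : ℕ) with hj' | hj'
          · rw [ih1 j hj', mul_zero]
          · have : (j : ℕ) ≠ l := fun hh => hj (Fin.ext (by simp [l', hh]))
            rw [hbelow i j (by omega), zero_mul]
        · simp
  rw [det_of_isUpperTriangular]
  · refine Finset.prod_congr rfl fun i _ => ?_
    exact (key i (by omega)).2 i rfl
  · intro i j hij
    have hij' : (j : ℕ) < i := hij
    exact (key j (by omega)).1 i hij'

theorem kry_compMat (g : F[X]) : kry (compMat (m := m) g) (Pi.single 0 1) = 1 := by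
  have key : ∀ l : ℕ, ∀ hl : l < m + 2, (compMat (m := m) g ^ l) *ᵥ (Pi.single 0 1 : Fin (m + 2) → F) =
      Pi.single ⟨l, hl⟩ 1 := by
    intro l
    induction l with
    | zero => intro hl; rw [pow_zero, one_mulVec]; rfl
    | succ l ih =>
      intro hl
      rw [pow_succ', ← mulVec_mulVec, ih (by omega), mulVec_single_one]
      funext i
      rw [show (⟨l, by omega⟩ : Fin (m + 2)) = (⟨l, by omega⟩ : Fin (m + 1)).castSucc from rfl,
        Matrix.col_apply, compMat, bidiagLast_castSucc]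
      simp only [Pi.single_apply, Fin.ext_iff, Fin.val_castSucc, Fin.val_succ]
      by_cases hi : (i : ℕ) = l + 1
      · simp [hi]
      · simp [hi]
  ext i j
  rw [kry, Matrix.of_apply, key j j.isLt]
  simp [Pi.single_apply, Matrix.one_apply]

/-- The sign of reversing `Fin k`, as a unit of `F`. -/
noncomputable def revSign (F : Type*) [Field F] (k : ℕ) : Fˣ :=
  Units.map (Int.castRingHom F).toMonoidHom (Equiv.Perm.sign (@Fin.revPerm k))

theorem revSign_sq (k : ℕ) : revSign F k * revSign F k = 1 := by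
  rw [revSign, ← map_mul, Int.units_mul_self, map_one]

theorem revSign_two : revSign F 2 = -1 := by
  have : Equiv.Perm.sign (@Fin.revPerm 2) = -1 := by decide
  rw [revSign, this]
  exact Units.ext (by simp)

/-- `g1, g2` witness that `P, Q` are conjugates of `A` with determinant ratio in the coset `r I`. -/
def RatioPair (I : Subgroup Fˣ) (A P Q : GL ι F) (r : Fˣ) : Prop :=
  ∃ g1 g2 : GL ι F, P = g1 * A * g1⁻¹ ∧ Q = g2 * A * g2⁻¹ ∧
    GeneralLinearGroup.det g1 * (GeneralLinearGroup.det g2)⁻¹ * r⁻¹ ∈ I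

theorem RatioPair.congr {I : Subgroup Fˣ} {A P Q : GL ι F} {r r' : Fˣ} (h : RatioPair I A P Q r)
    (hr : r * r'⁻¹ ∈ I) : RatioPair I A P Q r' := by
  obtain ⟨g1, g2, h1, h2, h3⟩ := h
  exact ⟨g1, g2, h1, h2, by have := I.mul_mem h3 hr; simpa [mul_assoc] using this⟩

theorem RatioPair.reindex {I : Subgroup Fˣ} {A P Q : GL ι F} {r : Fˣ} (h : RatioPair I A P Q r)
    (e : ι ≃ κ) (g : GL κ F) :
    RatioPair I (g * reindexGL e A * g⁻¹) (reindexGL e P) (reindexGL e Q) r := by
  obtain ⟨g1, g2, rfl, rfl, h3⟩ := h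
  refine ⟨reindexGL e g1 * g⁻¹, reindexGL e g2 * g⁻¹, by simp only [map_mul, map_inv]; group,
    by simp only [map_mul, map_inv]; group, ?_⟩
  have : GeneralLinearGroup.det (reindexGL e g1 * g⁻¹) *
      (GeneralLinearGroup.det (reindexGL e g2 * g⁻¹))⁻¹ =
      GeneralLinearGroup.det g1 * (GeneralLinearGroup.det g2)⁻¹ := by
    simp [map_mul, det_reindexGL, mul_comm, mul_left_comm]
  rw [this]
  exact h3

theorem block_ratio (A P Q : GL (Fin (m + 2)) F)
    (hA : HasCyclic (A : Matrix (Fin (m + 2)) (Fin (m + 2)) F))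
    (hP' : ∃ g, P = g * A * g⁻¹) (hQ' : ∃ g, Q = g * A * g⁻¹) (h : Fin (m + 2) → F) (h0 : ∀ i, h i ≠ 0)
    (s : Fin m → F) (x : Fin (m + 1) → F) (g : F[X])
    (hP : (P : Matrix (Fin (m + 2)) (Fin (m + 2)) F) = triBlock h s x * compMat (m := m) g)
    (hQ : ((Q⁻¹ : GL (Fin (m + 2)) F) : Matrix (Fin (m + 2)) (Fin (m + 2)) F) = compMat (m := m) g) :
    ∀ W : Fˣ, (W : F) = weight h → RatioPair (detCent A) A P Q (revSign F (m + 2) * W) := by
  intro W hW
  obtain ⟨g1, rfl⟩ := hP'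
  obtain ⟨g2, rfl⟩ := hQ'
  obtain ⟨v, hv⟩ := hA
  set Am : Matrix (Fin (m + 2)) (Fin (m + 2)) F := (A : Matrix (Fin (m + 2)) (Fin (m + 2)) F) with hAm
  have hspanconj : ∀ (g : GL (Fin (m + 2)) F) (M : GL (Fin (m + 2)) F) (v : Fin (m + 2) → F),
      Submodule.span F (Set.range fun i : ℕ => ((M : Matrix (Fin (m + 2)) (Fin (m + 2)) F) ^ i) *ᵥ v) = ⊤ →
      Submodule.span F (Set.range fun i : ℕ => (((g * M * g⁻¹ : GL (Fin (m + 2)) F) :
        Matrix (Fin (m + 2)) (Fin (m + 2)) F) ^ i) *ᵥ ((g : Matrix (Fin (m + 2)) (Fin (m + 2)) F) *ᵥ v)) = ⊤ := by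
    intro g M v hv
    have hpow : ∀ i : ℕ, (((g * M * g⁻¹ : GL (Fin (m + 2)) F) :
        Matrix (Fin (m + 2)) (Fin (m + 2)) F) ^ i) *ᵥ ((g : Matrix (Fin (m + 2)) (Fin (m + 2)) F) *ᵥ v) =
        toLin' (g : Matrix (Fin (m + 2)) (Fin (m + 2)) F)
          (((M : Matrix (Fin (m + 2)) (Fin (m + 2)) F) ^ i) *ᵥ v) := fun i => by
      rw [toLin'_apply, mulVec_mulVec, mulVec_mulVec, ← Units.val_pow_eq_pow_val,
        ← Units.val_pow_eq_pow_val, conj_pow, ← Units.val_mul, ← Units.val_mul, inv_mul_cancel_right]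
    simp only [hpow]
    rw [Set.range_comp' (toLin' (g : Matrix (Fin (m + 2)) (Fin (m + 2)) F)), Submodule.span_image, hv,
      Submodule.map_top, LinearMap.range_eq_top]
    intro z
    refine ⟨((g⁻¹ : GL (Fin (m + 2)) F) : Matrix (Fin (m + 2)) (Fin (m + 2)) F) *ᵥ z, ?_⟩
    rw [toLin'_apply, mulVec_mulVec, ← Units.val_mul, mul_inv_cancel, Units.val_one, one_mulVec]
  have he0P : Submodule.span F (Set.range fun i : ℕ =>
      (((g1 * A * g1⁻¹ : GL (Fin (m + 2)) F) : Matrix (Fin (m + 2)) (Fin (m + 2)) F) ^ i) *ᵥ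
        (Pi.single 0 1 : Fin (m + 2) → F)) = ⊤ := by
    have hdet := det_kry_tri h s x g
    rw [← hP] at hdet
    have hne : (kry ((g1 * A * g1⁻¹ : GL (Fin (m + 2)) F) : Matrix (Fin (m + 2)) (Fin (m + 2)) F)
        (Pi.single 0 1)).det ≠ 0 := by rw [hdet, ← hW]; exact W.ne_zero
    have hli := linearIndependent_cols_iff_isUnit.mpr
      ((Matrix.isUnit_iff_isUnit_det _).mpr hne.isUnit)
    rw [eq_top_iff, ← hli.span_eq_top_of_card_eq_finrank' (by simp), Submodule.span_le]
    rintro _ ⟨j, rfl⟩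
    exact Submodule.subset_span ⟨(j : ℕ), rfl⟩
  -- the P side
  obtain ⟨δ1, hδ1, hk1⟩ := exists_kry_unit _ (hspanconj g1 A v hv) he0P
  rw [kry_conj, det_mul] at hk1
  conv_lhs at hk1 => rw [hP, det_kry_tri]
  -- the Q side
  set w := (Am ^ (m + 1)) *ᵥ v with hw
  have hrev : (kry ((A⁻¹ : GL (Fin (m + 2)) F) : Matrix (Fin (m + 2)) (Fin (m + 2)) F) w).det =
      (revSign F (m + 2) : F) * (kry Am v).det := by
    have hcols : kry ((A⁻¹ : GL (Fin (m + 2)) F) : Matrix (Fin (m + 2)) (Fin (m + 2)) F) w =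
        (kry Am v).submatrix id Fin.revPerm := by
      ext i j
      simp only [kry, Matrix.of_apply, submatrix_apply, id, Fin.revPerm_apply, hw, mulVec_mulVec, hAm,
        ← Units.val_pow_eq_pow_val, ← Units.val_mul]
      congr 3
      rw [inv_pow, inv_mul_eq_iff_eq_mul, ← pow_add, Fin.val_rev]
      congr 1
      omega
    rw [hcols, det_permute']
    simp [revSign]
  have hvinv : Submodule.span F (Set.range fun i : ℕ =>
      ((((A⁻¹ : GL (Fin (m + 2)) F)) : Matrix (Fin (m + 2)) (Fin (m + 2)) F) ^ i) *ᵥ w) = ⊤ := by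
    have hne : (kry ((A⁻¹ : GL (Fin (m + 2)) F) : Matrix (Fin (m + 2)) (Fin (m + 2)) F) w).det ≠ 0 := by
      rw [hrev]
      exact mul_ne_zero (revSign F (m + 2)).ne_zero (det_kry_ne_zero hv)
    have hli := linearIndependent_cols_iff_isUnit.mpr
      ((Matrix.isUnit_iff_isUnit_det _).mpr hne.isUnit)
    rw [eq_top_iff, ← hli.span_eq_top_of_card_eq_finrank' (by simp), Submodule.span_le]
    rintro _ ⟨j, rfl⟩
    exact Submodule.subset_span ⟨(j : ℕ), rfl⟩
  have hQ2 : (g2 * A * g2⁻¹)⁻¹ = g2 * A⁻¹ * g2⁻¹ := by group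
  rw [hQ2] at hQ
  have he0Q : Submodule.span F (Set.range fun i : ℕ =>
      (((g2 * A⁻¹ * g2⁻¹ : GL (Fin (m + 2)) F) : Matrix (Fin (m + 2)) (Fin (m + 2)) F) ^ i) *ᵥ
        (Pi.single 0 1 : Fin (m + 2) → F)) = ⊤ := by
    have hne : (kry ((g2 * A⁻¹ * g2⁻¹ : GL (Fin (m + 2)) F) : Matrix (Fin (m + 2)) (Fin (m + 2)) F)
        (Pi.single 0 1)).det ≠ 0 := by
      rw [hQ, kry_compMat, det_one]; exact one_ne_zero
    have hli := linearIndependent_cols_iff_isUnit.mpr
      ((Matrix.isUnit_iff_isUnit_det _).mpr hne.isUnit)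
    rw [eq_top_iff, ← hli.span_eq_top_of_card_eq_finrank' (by simp), Submodule.span_le]
    rintro _ ⟨j, rfl⟩
    exact Submodule.subset_span ⟨(j : ℕ), rfl⟩
  obtain ⟨δ2, hδ2, hk2⟩ := exists_kry_unit _ (hspanconj g2 A⁻¹ w hvinv) he0Q
  rw [kry_conj, det_mul, hrev] at hk2
  conv_lhs at hk2 => rw [hQ, kry_compMat, det_one]
  have hI1 : δ1 ∈ detCent A := by rwa [detCent_conj] at hδ1
  have hI2 : δ2 ∈ detCent A := by
    rw [detCent_conj] at hδ2
    obtain ⟨c, hc, hd⟩ := mem_detCent.mp hδ2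
    refine mem_detCent.mpr ⟨c, ?_, hd⟩
    calc c * A = A * (A⁻¹ * c) * A := by group
      _ = A * (c * A⁻¹) * A := by rw [hc]
      _ = A * c := by group
  refine ⟨g1, g2, rfl, rfl, ?_⟩
  have hval : GeneralLinearGroup.det g1 * (GeneralLinearGroup.det g2)⁻¹ *
      (revSign F (m + 2) * W)⁻¹ = δ2 * δ1⁻¹ := by
    rw [mul_inv_eq_iff_eq_mul, mul_inv_eq_iff_eq_mul]
    refine Units.ext ?_
    have hk0 := det_kry_ne_zero hv
    simp only [Units.val_mul, Units.val_inv_eq_inv_val, GeneralLinearGroup.val_det_apply, hW]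
    rw [hk1]
    field_simp
    linear_combination ((g1 : Matrix (Fin (m + 2)) (Fin (m + 2)) F).det) * hk2
  rw [hval]
  exact (detCent A).mul_mem hI2 ((detCent A).inv_mem hI1)

end CfsgLib.PSLCover
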