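import Cfsg.Agent.Lib.KnownSimple.RegUnip.Extend

/-!
# Cyclic maps with prescribed roots

Cyclic vectors, the degree bound they give, and the two ways to extend a cyclic map with split
characteristic polynomial by one dimension.
-/

set_option autoImplicit false
set_option linter.unusedSectionVars false

open Module Polynomial
open LinearMap (ker range mem_ker)
open CfsgLib.KnownSimple.RegUnip (proj coe_proj proj_coe proj_self)

namespace CfsgLib.PSLCover

variable {K : Type*} [Field K] {V : Type*} [AddCommGroup V] [Module K V]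

/-- Polynomials in `f` applied to `w` give every vector. -/
def Gen (f : End K V) (w : V) : Prop := ∀ u, ∃ p : K[X], aeval f p w = u

/-- The monic polynomial with root list `g`. -/
noncomputable def rootPoly {n : ℕ} (g : Fin n → K) : K[X] := ∏ i, (X - C (g i))

/-- `f` has a cyclic vector and is killed by the polynomial with root list `g`. -/
def Cyc {n : ℕ} (f : End K V) (g : Fin n → K) : Prop :=
  (∃ w, Gen f w) ∧ aeval f (rootPoly g) = 0

lemma rootPoly_monic {n : ℕ} (g : Fin n → K) : (rootPoly g).Monic :=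
  monic_prod_of_monic _ _ fun i _ => monic_X_sub_C (g i)

lemma rootPoly_natDegree {n : ℕ} (g : Fin n → K) : (rootPoly g).natDegree = n := by
  rw [rootPoly, natDegree_prod_of_monic _ _ fun i _ => monic_X_sub_C (g i)]
  simp

lemma rootPoly_succ {n : ℕ} (g : Fin (n + 1) → K) :
    rootPoly g = (X - C (g 0)) * rootPoly (Fin.tail g) := by
  rw [rootPoly, Fin.prod_univ_succ]
  rfl

lemma eval_rootPoly {n : ℕ} (g : Fin n → K) (a : K) :
    (rootPoly g).eval a = 0 ↔ ∃ i, g i = a := by
  rw [rootPoly, eval_prod, Finset.prod_eq_zero_iff]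
  simp [sub_eq_zero, eq_comm]

/-- Polynomials commute with intertwining maps. -/
lemma aeval_intertwine {W : Type*} [AddCommGroup W] [Module K W] {f : End K V} {g : End K W}
    (i : W →ₗ[K] V) (h : ∀ u, f (i u) = i (g u)) (p : K[X]) (u : W) :
    aeval f p (i u) = i (aeval g p u) := by
  induction p using Polynomial.induction_on' with
  | add p q hp hq => simp [hp, hq]
  | monomial k a =>
    have hk : ∀ k : ℕ, ∀ u, (f ^ k) (i u) = i ((g ^ k) u) := fun k => by
      induction k with
      | zero => simp
      | succ k ih => intro u; simp [pow_succ, h, ih]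
    simp [aeval_monomial, hk, Module.End.mul_apply, Module.algebraMap_end_apply]

lemma aeval_eigen {f : End K V} {a : K} {u : V} (h : f u = a • u) (p : K[X]) :
    aeval f p u = p.eval a • u := by
  induction p using Polynomial.induction_on' with
  | add p q hp hq => simp [hp, hq, add_smul]
  | monomial k c =>
    have hk : ∀ k : ℕ, (f ^ k) u = a ^ k • u := fun k => by
      induction k with
      | zero => simp
      | succ k ih => rw [pow_succ', Module.End.mul_apply, ih, map_smul, h, smul_smul, ← pow_succ]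
    simp [aeval_monomial, hk, Module.End.mul_apply, Module.algebraMap_end_apply, smul_smul, mul_comm]

lemma aeval_X_sub (f : End K V) (a : K) (u : V) : aeval f (X - C a) u = f u - a • u := by
  simp [Module.algebraMap_end_apply]

/-- A polynomial killing a cyclic vector is a multiple of the killing polynomial of full degree. -/
lemma dvd_of_aeval_eq_zero [FiniteDimensional K V] {n : ℕ} (hn : finrank K V = n) {f : End K V}
    {w : V} (hw : Gen f w) {P : K[X]} (hP : P.Monic) (hdeg : P.natDegree = n)
    (hann : aeval f P = 0) {q : K[X]} (hq : aeval f q w = 0) : P ∣ q := by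
  have hmod : ∀ p : K[X], aeval f (p %ₘ P) = aeval f p := fun p => by
    conv_rhs => rw [← modByMonic_add_div p P]
    simp [hann]
  have hlt : ∀ p : K[X], p %ₘ P ∈ degreeLT K n := fun p => by
    rw [mem_degreeLT]
    exact (degree_modByMonic_lt p hP).trans_eq (by rw [degree_eq_natDegree hP.ne_zero, hdeg])
  let E : degreeLT K n →ₗ[K] V :=
    ((aeval f).toLinearMap.flip w).comp (degreeLT K n).subtype
  have hE : ∀ p, E p = aeval f (p : K[X]) w := fun p => rfl
  have hsurj : Function.Surjective E := fun u => by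
    obtain ⟨p, rfl⟩ := hw u
    exact ⟨⟨p %ₘ P, hlt p⟩, by rw [hE, hmod]⟩
  have hinj : Function.Injective E :=
    (LinearMap.injective_iff_surjective_of_finrank_eq_finrank
      (by rw [hn, (degreeLTEquiv K n).finrank_eq, finrank_fin_fun])).2 hsurj
  have h0 : (⟨q %ₘ P, hlt q⟩ : degreeLT K n) = 0 := hinj (by
    rw [hE, map_zero]; exact (LinearMap.congr_fun (hmod q) w).trans hq)
  exact (modByMonic_eq_zero_iff_dvd hP).1 (congrArg Subtype.val h0)

variable {φ : Dual K V} {v : V}

/-- Extending a cyclic map below an eigen-functional. -/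
theorem cyc_lower [Fintype K] {n : ℕ} (hv : φ v = 1) {L : End K V} {L' : End K (ker φ)}
    {g : Fin (n + 1) → K} {x : ker φ} (hLv : L v = g 0 • v + (x : V))
    (hL : ∀ h : ker φ, L (h : V) = L' h) (hc : Cyc L' (Fin.tail g))
    (hx : (∃ i, Fin.tail g i = g 0) → x ∉ range (L' - g 0 • (1 : End K (ker φ)))) : Cyc L g := by
  classical
  obtain ⟨⟨w, hw⟩, hann⟩ := hc
  have hLu : ∀ u, aeval L (X - C (g 0)) u =
      ((φ u • x + aeval L' (X - C (g 0)) (proj hv u) : ker φ) : V) := fun u => by
    have hu : L u = φ u • L v + L (proj hv u : V) := by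
      rw [← map_smul, ← map_add, coe_proj, add_sub_cancel]
    rw [aeval_X_sub, aeval_X_sub, hu, hLv, hL, Submodule.coe_add, Submodule.coe_smul,
      Submodule.coe_sub, Submodule.coe_smul, coe_proj]
    module
  have hco : ∀ (p : K[X]) (h : ker φ), aeval L p (h : V) = (aeval L' p h : V) :=
    fun p h => aeval_intertwine (ker φ).subtype hL p h
  refine ⟨?_, LinearMap.ext fun u => ?_⟩
  swap
  · rw [rootPoly_succ, mul_comm, map_mul, Module.End.mul_apply, hLu, hco, hann]
    simp
  obtain ⟨r, hr⟩ := hw x
  obtain ⟨s, hs⟩ : ∃ s : K, ∀ b : K, b ≠ g 0 → r.eval b + s * (b - g 0) ≠ 0 := by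
    set S := ((Finset.univ : Finset K).erase (g 0)).image fun b => -r.eval b / (b - g 0) with hS
    have hcard : S.card < (Finset.univ : Finset K).card :=
      lt_of_le_of_lt Finset.card_image_le (Finset.card_erase_lt_of_mem (Finset.mem_univ _))
    obtain ⟨s, -, hs⟩ := Finset.exists_mem_notMem_of_card_lt_card hcard
    refine ⟨s, fun b hb h => hs ?_⟩
    rw [hS, Finset.mem_image]
    refine ⟨b, Finset.mem_erase.2 ⟨hb, Finset.mem_univ _⟩, ?_⟩
    rw [div_eq_iff (sub_ne_zero.2 hb)]
    linear_combination -h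
  set R := r + C s * (X - C (g 0)) with hR
  have hcop : IsCoprime (rootPoly (Fin.tail g)) R := by
    refine IsCoprime.prod_left fun i _ => ?_
    rw [(irreducible_X_sub_C _).coprime_iff_not_dvd, dvd_iff_isRoot, IsRoot]
    have hev : R.eval (Fin.tail g i) = r.eval (Fin.tail g i) + s * (Fin.tail g i - g 0) := by
      simp [hR]
    rw [hev]
    by_cases hi : Fin.tail g i = g 0
    · intro h
      rw [hi, sub_self, mul_zero, add_zero] at h
      obtain ⟨q, hq⟩ := dvd_iff_isRoot.2 h
      refine hx ⟨i, hi⟩ ⟨aeval L' q w, ?_⟩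
      rw [← hr, hq, map_mul, Module.End.mul_apply, aeval_X_sub]
      simp
    · exact hs _ hi
  obtain ⟨b, a, hab⟩ := hcop
  have hkey : ∀ q, aeval L' (q * a) (aeval L' R w) = aeval L' q w := fun q => by
    have h := congrArg (fun p => aeval L' (q * p) w) hab
    simpa [mul_add, hann, mul_assoc] using h
  refine ⟨v + s • (w : V), fun u => ?_⟩
  obtain ⟨q, hq⟩ := hw (proj hv u - (φ u * s) • w)
  have hz : aeval L (X - C (g 0)) (v + s • (w : V)) = (aeval L' R w : V) := by
    rw [hLu]
    congr 1
    have hP : proj hv (v + s • (w : V)) = s • w := by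
      rw [map_add, map_smul, proj_self, proj_coe, zero_add]
    rw [hP]
    simp [hR, hv, mem_ker.1 w.2, hr]
  refine ⟨C (φ u) + q * a * (X - C (g 0)), ?_⟩
  rw [map_add (aeval L), LinearMap.add_apply, map_mul, Module.End.mul_apply, hz, hco, hkey, hq, aeval_C,
    Module.algebraMap_end_apply, Submodule.coe_sub, Submodule.coe_smul, coe_proj]
  module

/-- Extending a cyclic map above an eigenvector. -/
theorem cyc_upper [FiniteDimensional K V] {n : ℕ} (hv : φ v = 1) (hn : finrank K (ker φ) = n)
    {U : End K V} {U' : End K (ker φ)} {d : Fin (n + 1) → K} (hUv : U v = d 0 • v)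
    (hU : ∀ u, proj hv (U u) = U' (proj hv u)) (hc : Cyc U' (Fin.tail d))
    (he : (∃ i, Fin.tail d i = d 0) → ∃ e : ker φ, U' e = d 0 • e ∧ φ (U (e : V)) ≠ 0) :
    Cyc U d := by
  obtain ⟨⟨w, hw⟩, hann⟩ := hc
  set Q := rootPoly (Fin.tail d) with hQ
  have hP : ∀ (p : K[X]) (u : V), proj hv (aeval U p u) = aeval U' p (proj hv u) :=
    fun p u => (aeval_intertwine (proj hv) (fun u => (hU u).symm) p u).symm
  have hline : ∀ u, proj hv u = 0 → u = φ u • v := fun u h => by
    have h' := congrArg Subtype.val h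
    rwa [coe_proj, Submodule.coe_zero, sub_eq_zero] at h'
  refine ⟨?_, LinearMap.ext fun u => ?_⟩
  swap
  · rw [rootPoly_succ, map_mul, Module.End.mul_apply, aeval_X_sub]
    have h0 := hline (aeval U Q u) (by rw [hP, hann]; simp)
    rw [h0, map_smul, hUv, smul_comm, sub_self, LinearMap.zero_apply]
  suffices H : ∃ z, proj hv z = w ∧ φ (aeval U Q z) ≠ 0 by
    obtain ⟨z, hzw, hz⟩ := H
    refine ⟨z, fun u => ?_⟩
    obtain ⟨q, hq⟩ := hw (proj hv u)
    have h1 := hline (aeval U Q z) (by rw [hP, hann]; simp)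
    have h2 := hline (u - aeval U q z) (by rw [map_sub, hP, hzw, hq, sub_self])
    refine ⟨q + C (φ (u - aeval U q z) * (φ (aeval U Q z))⁻¹) * Q, ?_⟩
    rw [map_add, map_mul, aeval_C, LinearMap.add_apply, Module.End.mul_apply,
      Module.algebraMap_end_apply, h1, smul_smul]
    simp only [map_smul, hv, smul_eq_mul, mul_one]
    rw [inv_mul_cancel_right₀ hz, ← h2]
    abel
  by_cases hd : ∃ i, Fin.tail d i = d 0
  · obtain ⟨e, hee, hce⟩ := he hd
    obtain ⟨q, hq⟩ := dvd_iff_isRoot.2 ((eval_rootPoly (Fin.tail d) (d 0)).2 hd)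
    set f := aeval U' q w with hf
    have hUf : U' f = d 0 • f := by
      have h := LinearMap.congr_fun hann w
      rw [hQ, hq, map_mul, Module.End.mul_apply, aeval_X_sub, LinearMap.zero_apply, sub_eq_zero] at h
      exact h
    obtain ⟨r, hr⟩ := hw e
    have hdvd : Q ∣ (X - C (d 0)) * r := dvd_of_aeval_eq_zero hn hw (rootPoly_monic _)
      (rootPoly_natDegree _) hann (by
        rw [map_mul, Module.End.mul_apply, hr, aeval_X_sub, hee, sub_self])
    rw [hQ, hq, mul_dvd_mul_iff_left (X_sub_C_ne_zero _)] at hdvd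
    obtain ⟨t, rfl⟩ := hdvd
    rw [mul_comm, map_mul, Module.End.mul_apply, ← hf, aeval_eigen hUf] at hr
    have hcf : φ (U (f : V)) ≠ 0 := fun h => hce (by
      rw [← hr, Submodule.coe_smul, map_smul, map_smul, h, smul_zero])
    refine ⟨w, proj_coe hv w, ?_⟩
    have h1 : aeval U q (w : V) = φ (aeval U q (w : V)) • v + (f : V) := by
      have h := congrArg Subtype.val (hP q (w : V))
      rw [proj_coe, coe_proj, sub_eq_iff_eq_add] at h
      rw [hf]; exact h.trans (add_comm _ _)
    rw [hQ, hq, map_mul, Module.End.mul_apply, h1, aeval_X_sub]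
    simpa [hUv, hv, mem_ker.1 f.2, mul_comm] using hcf
  · have hQd : Q.eval (d 0) ≠ 0 := fun h => hd ((eval_rootPoly _ _).1 h)
    refine ⟨(w : V) + ((1 - φ (aeval U Q (w : V))) / Q.eval (d 0)) • v, ?_, ?_⟩
    · rw [map_add, map_smul, proj_self, proj_coe, smul_zero, add_zero]
    · rw [map_add, map_smul, aeval_eigen hUv, map_add, map_smul, map_smul, hv, smul_eq_mul,
        smul_eq_mul, mul_one, div_mul_cancel₀ _ hQd, add_sub_cancel]
      exact one_ne_zero

end CfsgLib.PSLCover
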