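import Cfsg.Agent.Lib.PSLCover.SourourCyc
import Cfsg.Agent.Lib.KnownSimple.RegUnip.Main

/-!
# One step of the factorisation into two cyclic maps

Sourour's reduction along a vector `v` and a functional `φ` with `φ v = 1`, `φ (T v) = μ`, and the
choices of `v` and `φ` which keep `T - c` of rank at least two for every scalar `c`.
-/

set_option autoImplicit false
set_option linter.unusedSectionVars false
set_option linter.unusedVariables false
set_option linter.unusedSimpArgs false

open Module Polynomial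
open LinearMap (ker range mem_ker mem_range_self)
open CfsgLib.KnownSimple.RegUnip (HasMoreThan exists_notMem exists_affine_avoid exists_noneigen
  exists_phi proj coe_proj proj_coe proj_self finrank_ker_phi notMem_span_of comap_ne_top)

namespace CfsgLib.PSLCover

variable {K : Type*} [Field K] {V : Type*} [AddCommGroup V] [Module K V]

/-- Equal entries are adjacent. -/
def Grouped {n : ℕ} (g : Fin n → K) : Prop := ∀ i j k, i ≤ j → j ≤ k → g i = g k → g j = g i

lemma Grouped.tail {n : ℕ} {g : Fin (n + 1) → K} (h : Grouped g) : Grouped (Fin.tail g) :=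
  fun _ _ _ hij hjk he => h _ _ _ (Fin.succ_le_succ_iff.2 hij) (Fin.succ_le_succ_iff.2 hjk) he

lemma Grouped.head {n : ℕ} {g : Fin (n + 1 + 1) → K} (h : Grouped g)
    (hm : ∃ i, Fin.tail g i = g 0) : Fin.tail g 0 = g 0 := by
  obtain ⟨i, hi⟩ := hm
  exact h 0 (Fin.succ 0) i.succ (Fin.zero_le _) (Fin.succ_le_succ_iff.2 (Fin.zero_le i)) hi.symm

/-- `T` is a product of two cyclic maps with root lists `g` and `d`, the first regular at `x`, the
second at the functional `y`. -/
def Factors {n : ℕ} (g d : Fin (n + 1) → K) (T : End K V) (x : V) (y : Dual K V) : Prop :=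
  ∃ L U : End K V, T = L * U ∧ Cyc L g ∧ Cyc U d ∧ x ∉ range (L - g 0 • (1 : End K V)) ∧
    ∃ e, U e = d 0 • e ∧ y e ≠ 0

/-- `T` differs from every scalar by rank at least two. -/
def Wide (T : End K V) : Prop := ∀ c : K, 2 ≤ finrank K (range (T - c • (1 : End K V)))

variable {φ : Dual K V} {v : V} {μ : K}

/-- The map left on the kernel of `φ`. -/
noncomputable def rest (T : End K V) (hμ : μ ≠ 0) (hTv : φ (T v) = μ) : End K (ker φ) :=
  (((LinearMap.id - μ⁻¹ • φ.smulRight (T v)) : V →ₗ[K] V) ∘ₗ T ∘ₗ (ker φ).subtype).codRestrict _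
    fun u => by simp [hTv]; field_simp; ring

lemma coe_rest (T : End K V) (hμ : μ ≠ 0) (hTv : φ (T v) = μ) (h : ker φ) :
    (rest T hμ hTv h : V) = T h - (μ⁻¹ * φ (T h)) • T v := by
  simp [rest, smul_smul]

lemma factors_extend [Fintype K] [FiniteDimensional K V] {n : ℕ} {g d : Fin (n + 1 + 1) → K}
    (hg : Grouped g) (hd : Grouped d) {T : End K V} {x : V} {y : Dual K V}
    (hg0 : g 0 ≠ 0) (hd0 : d 0 ≠ 0) (hμ : g 0 * d 0 ≠ 0) (hv : φ v = 1)
    (hTv : φ (T v) = g 0 * d 0) (hn : finrank K (ker φ) = n + 1) (hx : φ x ≠ 0) (hy : y v ≠ 0)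
    (hrec : ∀ (x' : ker φ) (c : Dual K (ker φ)), (x' : V) = (d 0)⁻¹ • T v - g 0 • v →
      c = (g 0)⁻¹ • (φ ∘ₗ T ∘ₗ (ker φ).subtype) →
      Factors (Fin.tail g) (Fin.tail d) (rest T hμ hTv) x' c) :
    Factors g d T x y := by
  have hmem : (d 0)⁻¹ • T v - g 0 • v ∈ ker φ := by
    simp only [mem_ker, map_sub, map_smul, hTv, hv, smul_eq_mul]
    field_simp
    ring
  set x' : ker φ := ⟨_, hmem⟩ with hx'def
  set c : Dual K (ker φ) := (g 0)⁻¹ • (φ ∘ₗ T ∘ₗ (ker φ).subtype) with hc
  obtain ⟨L', U', hLU, hL', hU', hxr, e, hee, hce⟩ := hrec x' c rfl rfl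
  set P := proj hv with hP
  let L : End K V := φ.smulRight ((d 0)⁻¹ • T v) + (ker φ).subtype ∘ₗ L' ∘ₗ P
  let U : End K V := (d 0 • φ + c ∘ₗ P).smulRight v + (ker φ).subtype ∘ₗ U' ∘ₗ P
  have hLu : ∀ u, L u = φ u • ((d 0)⁻¹ • T v) + (L' (P u) : V) := fun u => by simp [L]
  have hUu : ∀ u, U u = (d 0 * φ u + c (P u)) • v + (U' (P u) : V) := fun u => by simp [U]
  have hPh : ∀ h : ker φ, P (h : V) = h := fun h => by rw [hP, proj_coe]
  have hLv : L v = g 0 • v + (x' : V) := by
    rw [hLu, hP, proj_self, hv, hx'def]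
    simp
  refine ⟨L, U, LinearMap.ext fun u => ?_, ?_, ?_, ?_, v, ?_, hy⟩
  · have h1 : φ (U u) = d 0 * φ u + c (P u) := by simp [hUu, hv, mem_ker.1 (U' (P u)).2]
    have h2 : P (U u) = U' (P u) := by
      rw [hUu, map_add, map_smul, hPh, hP, proj_self, smul_zero, zero_add]
    have h3 : (L' (U' (P u)) : V) = T (P u : V) - ((g 0 * d 0)⁻¹ * φ (T (P u : V))) • T v := by
      rw [← Module.End.mul_apply, ← hLU, coe_rest]
    rw [Module.End.mul_apply, hLu, h1, h2, h3]
    have hcP : c (P u) = (g 0)⁻¹ * φ (T (P u : V)) := by simp [hc]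
    rw [hcP, show T u = φ u • T v + T (P u : V) by rw [hP, coe_proj, map_sub, map_smul]; abel,
      smul_smul, mul_inv, add_mul, mul_right_comm (d 0), mul_inv_cancel₀ hd0, one_mul]
    module
  · refine cyc_lower hv hLv (fun h => by rw [hLu, hPh, mem_ker.1 h.2, zero_smul, zero_add]) hL' ?_
    intro hm
    rwa [← hg.head hm]
  · refine cyc_upper hv hn (by rw [hUu, hP, proj_self, hv]; simp) (fun u => ?_) hU' ?_
    · rw [hUu, map_add, map_smul, proj_coe, proj_self, smul_zero, zero_add]
    · intro hm
      refine ⟨e, by rw [← hd.head hm, hee], ?_⟩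
      rw [hUu, hPh, mem_ker.1 e.2, mul_zero, zero_add, map_add, map_smul, hv, smul_eq_mul, mul_one,
        mem_ker.1 (U' e).2, add_zero]
      exact hce
  · rintro ⟨u, hu⟩
    refine hx ?_
    rw [← hu, LinearMap.sub_apply, LinearMap.smul_apply, Module.End.one_apply, map_sub, map_smul,
      hLu, map_add, map_smul, map_smul, hTv, mem_ker.1 (L' (P u)).2]
    simp only [smul_eq_mul]
    field_simp
    ring
  · rw [hUu, hP, proj_self, hv]
    simp

lemma det_rest [FiniteDimensional K V] {T : End K V} (hv : φ v = 1) (hμ : μ ≠ 0)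
    (hTv : φ (T v) = μ) : LinearMap.det T = μ * LinearMap.det (rest T hμ hTv) := by
  set P := proj hv with hP
  let e : V ≃ₗ[K] K × ker φ := LinearEquiv.ofLinearMap (φ.prod P)
    ((LinearMap.id.smulRight v).coprod (ker φ).subtype)
    (LinearMap.ext fun p => by
      obtain ⟨a, h⟩ := p
      refine Prod.ext ?_ ?_
      · simp [hv]
      · simp [hP, proj_self, proj_coe])
    (LinearMap.ext fun u => by simp [hP, coe_proj])
  let E : End K V :=
    e.symm.toLinearMap ∘ₗ ((μ • LinearMap.id).prodMap (rest T hμ hTv)) ∘ₗ e.toLinearMap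
  have hE : LinearMap.det E = μ * LinearMap.det (rest T hμ hTv) := by
    have := LinearMap.det_conj ((μ • LinearMap.id).prodMap (rest T hμ hTv)) e.symm
    rw [LinearEquiv.symm_symm] at this
    rw [show E = _ from rfl, this, LinearMap.det_prodMap, LinearMap.det_smul, LinearMap.det_id]
    simp
  set ψ : Dual K V := μ⁻¹ • (φ ∘ₗ T ∘ₗ (ker φ).subtype ∘ₗ P) with hψ
  have hT : T = LinearMap.transvection φ (μ⁻¹ • T v - v) * E * LinearMap.transvection ψ v := by
    refine LinearMap.ext fun u => ?_
    set k := μ⁻¹ * φ (T (P u : V)) with hk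
    have hEu : E (u + k • v) = (μ * (φ u + k)) • v + (rest T hμ hTv (P u) : V) := by
      simp [E, e, hv, hP, proj_self, mul_add, smul_smul]
    rw [Module.End.mul_apply, Module.End.mul_apply, LinearMap.transvection.apply,
      LinearMap.transvection.apply, show ψ u = k by simp [hψ, hk], hEu]
    rw [map_add, map_smul, hv, mem_ker.1 (rest T hμ hTv (P u)).2, coe_rest,
      show T u = φ u • T v + T (P u : V) by rw [hP, coe_proj, map_sub, map_smul]; abel,
      smul_eq_mul, mul_one, add_zero, smul_sub, smul_smul,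
      show μ * (φ u + k) * μ⁻¹ = φ u + k by field_simp]
    module
  conv_lhs => rw [hT]
  rw [map_mul, map_mul, LinearMap.transvection.det, LinearMap.transvection.det, hE]
  simp [hψ, hP, proj_self, hv, hTv, hμ]

/-- The image of the kernel of `φ` under `T - c`, with `T v` added, against the rank left. -/
lemma finrank_span_le [FiniteDimensional K V] {T : End K V} (hμ : μ ≠ 0) (hTv : φ (T v) = μ)
    (c : K) : finrank K ((ker φ).map (T - c • (1 : End K V)) ⊔ K ∙ T v : Submodule K V) ≤
      finrank K (range (rest T hμ hTv - c • (1 : End K (ker φ)))) + 1 := by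
  have hle : (ker φ).map (T - c • (1 : End K V)) ⊔ K ∙ T v ≤
      (range (rest T hμ hTv - c • (1 : End K (ker φ)))).map (ker φ).subtype ⊔ K ∙ T v := by
    refine sup_le ?_ le_sup_right
    rintro _ ⟨u, hu, rfl⟩
    rw [show (T - c • (1 : End K V)) u = ((ker φ).subtype
        ((rest T hμ hTv - c • (1 : End K (ker φ))) ⟨u, hu⟩)) + (μ⁻¹ * φ (T u)) • T v by
      simp [coe_rest]; abel]
    exact Submodule.add_mem_sup (Submodule.mem_map_of_mem ⟨_, rfl⟩)
      (Submodule.smul_mem _ _ (Submodule.mem_span_singleton_self _))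
  refine (Submodule.finrank_mono hle).trans ((Submodule.finrank_add_le_finrank_add_finrank _ _).trans ?_)
  have h1 : finrank K (K ∙ T v : Submodule K V) ≤ 1 := by
    simpa using finrank_span_le_card ({T v} : Set V)
  have h2 := Submodule.finrank_map_subtype_eq (ker φ)
    (range (rest T hμ hTv - c • (1 : End K (ker φ))))
  omega

lemma finrank_sup_line [FiniteDimensional K V] {S : Submodule K V} {u : V} (h : u ∉ S) :
    finrank K (S ⊔ K ∙ u : Submodule K V) = finrank K S + 1 := by
  have hu0 : u ≠ 0 := fun h0 => h (h0 ▸ S.zero_mem)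
  have hd : S ⊓ K ∙ u = ⊥ := ((Submodule.disjoint_span_singleton' hu0).2 h).eq_bot
  have := Submodule.finrank_sup_add_finrank_inf_eq S (K ∙ u)
  rw [hd, finrank_bot, finrank_span_singleton hu0] at this
  exact this

lemma finrank_range_le_map [FiniteDimensional K V] (f : End K V) (hv : φ v = 1) :
    finrank K (range f) ≤ finrank K ((ker φ).map f) + 1 := by
  have hle : range f ≤ (ker φ).map f ⊔ K ∙ f v := by
    rintro _ ⟨u, rfl⟩
    rw [show f u = f (u - φ u • v) + φ u • f v by rw [← map_smul, ← map_add, sub_add_cancel]]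
    exact Submodule.add_mem_sup (Submodule.mem_map_of_mem (by simp [hv]))
      (Submodule.smul_mem _ _ (Submodule.mem_span_singleton_self _))
  refine (Submodule.finrank_mono hle).trans ((Submodule.finrank_add_le_finrank_add_finrank _ _).trans ?_)
  have : finrank K (K ∙ f v : Submodule K V) ≤ 1 := by
    simpa using finrank_span_le_card ({f v} : Set V)
  omega

lemma map_ker_eq_range {f : End K V} {k : V} (hk : f k = 0) (hφk : φ k ≠ 0) :
    (ker φ).map f = range f := by
  refine le_antisymm LinearMap.map_le_range ?_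
  rintro _ ⟨u, rfl⟩
  exact ⟨u - (φ u / φ k) • k, by simp [div_mul_cancel₀ _ hφk],
    by rw [map_sub, map_smul, hk, smul_zero, sub_zero]⟩

lemma mem_range_of_eigen {T : End K V} {u : V} {e c : K} (h : T u = e • u) (hne : e ≠ c) :
    u ∈ range (T - c • (1 : End K V)) := by
  refine ⟨(e - c)⁻¹ • u, ?_⟩
  rw [map_smul, show (T - c • (1 : End K V)) u = (e - c) • u by simp [h, sub_smul],
    inv_smul_smul₀ (sub_ne_zero.2 hne)]

lemma apply_notMem_range {T : End K V} {u : V} {c : K} (hc : c ≠ 0)
    (hu : u ∉ range (T - c • (1 : End K V))) : T u ∉ range (T - c • (1 : End K V)) := by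
  intro h
  refine hu ?_
  have h1 := Submodule.sub_mem _ h (mem_range_self (T - c • (1 : End K V)) u)
  rw [show T u - (T - c • (1 : End K V)) u = c • u by simp] at h1
  exact (Submodule.smul_mem_iff _ hc).1 h1

/-- A functional with the two prescribed values avoiding up to three conditions: being zero at
given points, and, if asked, being a left eigenvector. -/
lemma exists_functional [FiniteDimensional K V] (hK : HasMoreThan K 3) {T : End K V} (hμ : μ ≠ 0)
    (hne : T v ∉ K ∙ v) (Z : List V) (hZ : ∀ z ∈ Z, z ∉ K ∙ (T v - μ • v))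
    (hr : 2 ≤ finrank K (range (T - μ • (1 : End K V))))
    (hlen : Z.length ≤ 2 ∨ Z.length = 3 ∧ ∃ z ∈ Z, ∃ a : K, a ≠ μ ∧ T z = a • z) :
    ∃ φ : Dual K V, φ v = 1 ∧ φ (T v) = μ ∧ (∀ z ∈ Z, φ z ≠ 0) ∧ ∃ u, φ (T u) ≠ μ * φ u := by
  classical
  have hne' : (μ⁻¹ • T) v ∉ K ∙ v := fun h => hne ((Submodule.smul_mem_iff _ (inv_ne_zero hμ)).1 h)
  have hspan : (K ∙ ((μ⁻¹ • T) v - v)) = K ∙ (T v - μ • v) := by
    rw [show (μ⁻¹ • T) v - v = μ⁻¹ • (T v - μ • v) by simp [smul_sub, inv_smul_smul₀ hμ]]
    exact Submodule.span_singleton_smul_eq (inv_ne_zero hμ).isUnit _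
  have hphi : ∀ z, z ∉ K ∙ (T v - μ • v) → ∃ φ : Dual K V, φ v = 1 ∧ φ (T v) = μ ∧ φ z ≠ 0 := by
    intro z hz
    obtain ⟨φ, h1, h2, h3⟩ := exists_phi hne' (hspan ▸ hz)
    refine ⟨φ, h1, ?_, h3⟩
    rw [LinearMap.smul_apply, map_smul, smul_eq_mul] at h2
    field_simp at h2
    exact h2
  obtain ⟨w, ⟨u, rfl⟩, hw⟩ : ∃ w ∈ range (T - μ • (1 : End K V)), w ∉ K ∙ (T v - μ • v) := by
    by_contra! h
    have := (Submodule.finrank_mono (fun w hw => h w hw :
      range (T - μ • (1 : End K V)) ≤ K ∙ (T v - μ • v))).trans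
        (finrank_span_le_card ({T v - μ • v} : Set V))
    simp at this
    omega
  let Z' : List V := if Z.length ≤ 2 then (T - μ • (1 : End K V)) u :: Z else Z
  have hZ' : ∀ z ∈ Z', z ∉ K ∙ (T v - μ • v) := by
    intro z hz
    simp only [Z'] at hz
    split_ifs at hz with h
    · rcases List.mem_cons.1 hz with rfl | hz
      · exact hw
      · exact hZ z hz
    · exact hZ z hz
  have hlen' : Z'.length ≤ 3 := by
    simp only [Z']
    split_ifs with h
    · simp only [List.length_cons]; omega
    · rcases hlen with h' | h' <;> omega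
  have hsub : ∀ z ∈ Z, z ∈ Z' := by
    intro z hz
    simp only [Z']
    split_ifs with h
    · exact List.mem_cons_of_mem _ hz
    · exact hz
  obtain ⟨φ₀, hφ0, hφ0', -⟩ := hphi _ hw
  let D : Submodule K (Dual K V) := ker (Dual.eval K V v) ⊓ ker (Dual.eval K V (T v))
  obtain ⟨d, hd, hd'⟩ := exists_affine_avoid hK D φ₀
    ((Z'.map fun z => ker (Dual.eval K V z)).toFinset)
    ((List.toFinset_card_le _).trans (by rw [List.length_map]; exact hlen')) (by
      intro S hS
      obtain ⟨z, hz, rfl⟩ := List.mem_map.1 (List.mem_toFinset.1 hS)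
      obtain ⟨φ, h1, h2, h3⟩ := hphi z (hZ' z hz)
      exact ⟨φ - φ₀, by simp [D, h1, h2, hφ0, hφ0'], by simpa using h3⟩)
  simp [D] at hd
  have hav : ∀ z ∈ Z', (φ₀ + d) z ≠ 0 := fun z hz => by
    simpa using hd' _ (List.mem_toFinset.2 (List.mem_map.2 ⟨z, hz, rfl⟩))
  refine ⟨φ₀ + d, by simp [hφ0, hd.1], by simp [hφ0', hd.2], fun z hz => hav z (hsub z hz), ?_⟩
  by_cases h : Z.length ≤ 2
  · refine ⟨u, fun he => hav _ (by simp [Z', h] : (T - μ • (1 : End K V)) u ∈ Z') ?_⟩
    rw [LinearMap.sub_apply, map_sub, he, LinearMap.smul_apply, Module.End.one_apply, map_smul,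
      smul_eq_mul, sub_self]
  · obtain ⟨z, hz, a, ha, hTz⟩ := (hlen.resolve_left h).2
    refine ⟨z, fun he => hav z (hsub z hz) ?_⟩
    rw [hTz, map_smul, smul_eq_mul] at he
    exact (mul_eq_zero.1 (by linear_combination he : (a - μ) * (φ₀ + d) z = 0)).resolve_left
      (sub_ne_zero.2 ha)

/-- The sum of the dimensions of eigenspaces is at most the dimension. -/
lemma sum_finrank_ker_le [FiniteDimensional K V] (T : End K V) (S : Finset K) :
    ∑ c ∈ S, finrank K (ker (T - c • (1 : End K V))) ≤ finrank K V := by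
  classical
  have key : ∀ S : Finset K, finrank K (S.sup fun c => ker (T - c • (1 : End K V)) : Submodule K V) =
      ∑ c ∈ S, finrank K (ker (T - c • (1 : End K V))) := by
    intro S
    induction S using Finset.induction with
    | empty => simp
    | @insert a s ha ih =>
      rw [Finset.sup_insert, Finset.sum_insert ha, ← ih]
      have hd : Disjoint (ker (T - a • (1 : End K V)))
          (s.sup fun c => ker (T - c • (1 : End K V))) := by
        have h := (Module.End.eigenspaces_iSupIndep T).disjoint_biSup (y := (s : Set K)) (x := a)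
          (by simpa using ha)
        have he : ∀ c : K, T.eigenspace c = ker (T - c • (1 : End K V)) := fun c => by
          ext z
          simp [Module.End.mem_eigenspace_iff, sub_eq_zero]
        simp only [he, Finset.mem_coe] at h
        rwa [Finset.sup_eq_iSup]
      have := Submodule.finrank_sup_add_finrank_inf_eq (ker (T - a • (1 : End K V)))
        (s.sup fun c => ker (T - c • (1 : End K V)))
      rw [hd.eq_bot, finrank_bot, add_zero] at this
      exact this
  rw [← key]
  exact Submodule.finrank_le _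

lemma range_ne_top_of_lt [FiniteDimensional K V] {f : End K V}
    (h : finrank K (range f) < finrank K V) : range f ≠ ⊤ := fun he => by
  rw [he, finrank_top] at h
  omega

lemma ker_ne_top_of_wide [FiniteDimensional K V] {T : End K V} (hW : Wide T) (c : K) :
    ker (T - c • (1 : End K V)) ≠ ⊤ := fun he => by
  have := hW c
  rw [LinearMap.ker_eq_top.1 he, LinearMap.range_zero, finrank_bot] at this
  omega

/-- A step in dimension at least four keeps the map wide. -/
lemma exists_step_large [FiniteDimensional K V] [Fintype K] (hK : HasMoreThan K 3)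
    {T : End K V} (hW : Wide T) (hn : 4 ≤ finrank K V) (hdet : LinearMap.det T ≠ 0) (hμ : μ ≠ 0)
    {x : V} {y : Dual K V} (hx : x ≠ 0) (hy : y ≠ 0) :
    ∃ v, ∃ φ : Dual K V, ∃ hTv : φ (T v) = μ,
      φ v = 1 ∧ φ x ≠ 0 ∧ y v ≠ 0 ∧ T v ∉ K ∙ v ∧ (∃ u, φ (T u) ≠ μ * φ u) ∧
      Wide (rest T hμ hTv) := by
  classical
  set m := finrank K V
  let R : K → Submodule K V := fun c => range (T - c • (1 : End K V))
  let N : K → Submodule K V := fun c => ker (T - c • (1 : End K V))
  let r : K → ℕ := fun c => finrank K (R c)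
  have hrk : ∀ c, r c + finrank K (N c) = m := fun c =>
    LinearMap.finrank_range_add_finrank_ker _
  set S := (Finset.univ : Finset K).filter fun c => r c ≤ 3 ∧ r c < m with hS
  set S2 := S.filter fun c => r c = 2 with hS2
  have hmemS : ∀ c, c ∈ S ↔ r c ≤ 3 ∧ r c < m := fun c => by simp [hS]
  have h0 : ∀ c ∈ S, c ≠ 0 := by
    rintro c hc rfl
    have hunit : IsUnit T := (LinearMap.isUnit_iff_isUnit_det T).2 (isUnit_iff_ne_zero.2 hdet)
    have : R 0 = ⊤ := by
      simp only [R, zero_smul, sub_zero]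
      exact LinearMap.range_eq_top.2 ((Module.End.isUnit_iff T).1 hunit).2
    have h := ((hmemS 0).1 hc).2
    simp only [r, m] at h
    rw [this, finrank_top] at h
    omega
  have hcount : (m - 3) * S.card + S2.card ≤ m := by
    refine le_trans ?_ (sum_finrank_ker_le T S)
    have e2 : S2.card = ∑ c ∈ S, if r c = 2 then 1 else 0 := by rw [hS2, Finset.card_filter]
    rw [e2, mul_comm, ← smul_eq_mul, ← Finset.sum_const, ← Finset.sum_add_distrib]
    refine Finset.sum_le_sum fun c hc => ?_
    have h1 := hrk c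
    have h2 := (hmemS c).1 hc
    simp only [N] at h1
    split_ifs <;> omega
  have hc2 : S2.card ≤ S.card := Finset.card_filter_le _ _
  have hS2le : S2.card ≤ 2 := by
    by_contra! h
    have := Nat.mul_le_mul_left (m - 3) (show 3 ≤ S.card by omega)
    omega
  obtain ⟨A, hA2, hAS, hAc⟩ := Finset.exists_subsuperset_card_eq (Finset.filter_subset _ S)
    (show S2.card ≤ min 2 S.card by omega) (show min 2 S.card ≤ S.card by omega)
  set P := S2 ∪ (S \ A) with hP
  have hPc : P.card ≤ 2 := by
    have h1 := Finset.card_union_le S2 (S \ A)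
    have h2 := Finset.card_sdiff_of_subset hAS
    rw [← hP] at h1
    by_cases h3 : 3 ≤ S.card
    · have := Nat.mul_le_mul_left (m - 3) h3
      rcases Nat.lt_or_ge m 5 with h5 | h5
      · rw [show m - 3 = 1 by omega] at hcount
        omega
      · omega
    · omega
  -- the vector
  have hA : ker y ≠ ⊤ := fun h => hy (LinearMap.ker_eq_top.1 h)
  have hB : (K ∙ x).comap (T - μ • (1 : End K V)) ≠ ⊤ := comap_ne_top (hW μ) x
  have hRtop : ∀ c ∈ A, R c ≠ ⊤ := fun c hc => range_ne_top_of_lt ((hmemS c).1 (hAS hc)).2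
  obtain ⟨v, hv1, hv2, hvA, hne⟩ : ∃ v, v ∉ ker y ∧
      v ∉ (K ∙ x).comap (T - μ • (1 : End K V)) ∧ (∀ c ∈ A, v ∉ R c) ∧ T v ∉ K ∙ v := by
    rcases Finset.eq_empty_or_nonempty A with rfl | ⟨a, ha⟩
    · obtain ⟨v, h1, h2, h3⟩ := exists_noneigen hK (f := T) (fun ⟨c, hc⟩ =>
        ker_ne_top_of_wide hW c (by rw [hc, sub_self, LinearMap.ker_zero])) hA hB
      exact ⟨v, h1, h2, by simp, h3⟩
    · obtain ⟨b, hb, hAab⟩ : ∃ b ∈ A, A ⊆ {a, b} := by
        by_cases h : ∃ b ∈ A, b ≠ a
        · obtain ⟨b, hb, hba⟩ := h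
          refine ⟨b, hb, (Finset.eq_of_subset_of_card_le (by simp [Finset.insert_subset_iff, ha, hb])
            ?_).ge⟩
          rw [Finset.card_pair hba.symm]
          omega
        · push Not at h
          exact ⟨a, ha, fun c hc => by simp [h c hc]⟩
      set W := if b = a then N a else R b with hWdef
      have hWtop : W ≠ ⊤ := by
        rw [hWdef]; split_ifs
        · exact ker_ne_top_of_wide hW a
        · exact hRtop b hb
      obtain ⟨v, hv⟩ := exists_notMem hK
        {ker y, (K ∙ x).comap (T - μ • (1 : End K V)), R a, W} Finset.card_le_four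
        (by simp [hA, hB, hRtop a ha, hWtop])
      simp only [Finset.mem_insert, Finset.mem_singleton, forall_eq_or_imp, forall_eq] at hv
      obtain ⟨hv1, hv2, hv3, hv4⟩ := hv
      refine ⟨v, hv1, hv2, fun c hc => ?_, fun h => ?_⟩
      · rcases Finset.mem_insert.1 (hAab hc) with rfl | hc'
        · exact hv3
        · rw [Finset.mem_singleton] at hc'
          subst hc'
          by_cases hca : c = a
          · rw [hca]; exact hv3
          · rwa [hWdef, if_neg hca] at hv4
      · obtain ⟨e, he⟩ := Submodule.mem_span_singleton.1 h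
        by_cases hea : e = a
        · rw [hWdef] at hv4
          split_ifs at hv4 with hba
          · exact hv4 (by simp [N, ← he, hea])
          · exact hv4 (mem_range_of_eigen he.symm (by rw [hea]; exact Ne.symm hba))
        · exact hv3 (mem_range_of_eigen he.symm hea)
  -- the kernel vectors
  have hk : ∀ e ∈ P, ∃ k, (T - e • (1 : End K V)) k = 0 ∧ k ∉ K ∙ (T v - μ • v) := by
    intro e he
    by_contra! hall
    have heS : e ∈ S := by
      rcases Finset.mem_union.1 he with h | h
      · exact Finset.filter_subset _ _ h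
      · exact (Finset.mem_sdiff.1 h).1
    have hle : N e ≤ K ∙ (T v - μ • v) := fun k hk => hall k hk
    have h1 := (Submodule.finrank_mono hle).trans (finrank_span_le_card ({T v - μ • v} : Set V))
    simp at h1
    have h2 := (hmemS e).1 heS
    have h3 := hrk e
    have hr3 : r e = 3 ∧ m = 4 := by omega
    have heA : e ∈ S \ A := (Finset.mem_union.1 he).resolve_left fun h => by
      have := (Finset.mem_filter.1 h).2
      omega
    obtain ⟨heS', heA'⟩ := Finset.mem_sdiff.1 heA
    have hA2c : 2 ≤ A.card := by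
      have h5 : A.card < S.card := Finset.card_lt_card ⟨hAS, fun h => heA' (h heS')⟩
      omega
    obtain ⟨b, hb, hbμ⟩ : ∃ b ∈ A, b ≠ μ := by
      by_contra! h
      have := Finset.card_le_one.2 fun p hp q hq => (h p hp).trans (h q hq).symm
      omega
    have hke : finrank K (N e) = 1 := by omega
    have htop : K ∙ (T v - μ • v) ≤ N e := (Submodule.eq_of_le_of_finrank_le hle (by
      have := finrank_span_le_card (R := K) ({T v - μ • v} : Set V)
      simp at this
      omega)).ge
    have hu : T (T v - μ • v) = e • (T v - μ • v) := by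
      simpa [N, sub_eq_zero] using htop (Submodule.mem_span_singleton_self _)
    have hmem := mem_range_of_eigen (c := b) hu (fun h => heA' (h ▸ hb))
    refine hvA b hb ((Submodule.smul_mem_iff _ (sub_ne_zero.2 hbμ)).1 ?_ : v ∈ R b)
    have h1 := Submodule.sub_mem _ hmem (mem_range_self (T - b • (1 : End K V)) v)
    rw [show T v - μ • v - (T - b • (1 : End K V)) v = (b - μ) • v by simp [sub_smul]] at h1
    exact h1
  choose! k hk0 hk1 using hk
  set Z := x :: P.toList.map k with hZ
  have hlen : Z.length ≤ 2 ∨ Z.length = 3 ∧ ∃ z ∈ Z, ∃ a : K, a ≠ μ ∧ T z = a • z := by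
    simp only [hZ, List.length_cons, List.length_map, Finset.length_toList]
    rcases Nat.lt_or_ge P.card 2 with h | h
    · left; omega
    · refine Or.inr ⟨by omega, ?_⟩
      obtain ⟨e, he, heμ⟩ : ∃ e ∈ P, e ≠ μ := by
        by_contra! h'
        have := Finset.card_le_one.2 fun p hp q hq => (h' p hp).trans (h' q hq).symm
        omega
      exact ⟨k e, List.mem_cons_of_mem _ (List.mem_map.2 ⟨e, Finset.mem_toList.2 he, rfl⟩), e, heμ,
        sub_eq_zero.1 (by simpa using hk0 e he)⟩
  obtain ⟨φ, hφv, hφT, hφZ, hφe⟩ := exists_functional hK hμ hne Z (by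
      intro z hz
      rcases List.mem_cons.1 hz with rfl | hz
      · exact notMem_span_of hx (by simpa using hv2)
      · obtain ⟨e, he, rfl⟩ := List.mem_map.1 hz
        exact hk1 e (Finset.mem_toList.1 he)) (hW μ) hlen
  refine ⟨v, φ, hφT, hφv, hφZ x List.mem_cons_self, by simpa using hv1, hne, hφe, fun c => ?_⟩
  have hspan := finrank_span_le hμ hφT c
  have hmap := finrank_range_le_map (T - c • (1 : End K V)) hφv
  have hsup : finrank K ((ker φ).map (T - c • (1 : End K V))) ≤
      finrank K ((ker φ).map (T - c • (1 : End K V)) ⊔ K ∙ T v : Submodule K V) :=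
    Submodule.finrank_mono le_sup_left
  by_cases hcS : c ∈ S
  · have hr2 : 2 ≤ r c := hW c
    have hphi : c ∈ P → (ker φ).map (T - c • (1 : End K V)) = R c := fun hc =>
      map_ker_eq_range (hk0 c hc) (hφZ (k c)
        (List.mem_cons_of_mem _ (List.mem_map.2 ⟨c, Finset.mem_toList.2 hc, rfl⟩)))
    have hrc : finrank K (range (T - c • (1 : End K V))) = r c := rfl
    by_cases hcA : c ∈ A
    · have hnm : T v ∉ (ker φ).map (T - c • (1 : End K V)) := fun h =>
        apply_notMem_range (h0 c hcS) (hvA c hcA) (LinearMap.map_le_range h)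
      rw [finrank_sup_line hnm] at hspan
      by_cases h2 : r c = 2
      · rw [hphi (Finset.mem_union_left _ (Finset.mem_filter.2 ⟨hcS, h2⟩))] at hspan
        change r c + 1 ≤ _ at hspan
        omega
      · omega
    · rw [hphi (Finset.mem_union_right _ (Finset.mem_sdiff.2 ⟨hcS, hcA⟩))] at hsup hspan
      have : r c ≠ 2 := fun h2 => hcA (hA2 (Finset.mem_filter.2 ⟨hcS, h2⟩))
      change r c ≤ _ at hsup
      omega
  · have h3 : 4 ≤ finrank K (range (T - c • (1 : End K V))) := by
      by_contra! h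
      exact hcS ((hmemS c).2 ⟨by simp only [r, R]; omega, by simp only [r, R]; omega⟩)
    omega

end CfsgLib.PSLCover
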