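import Cfsg.Agent.Lib.PSLCover.Ratio

/-!
Tools for the classes which split in the special linear group.
-/

set_option autoImplicit false
set_option linter.style.haveILetI false
set_option linter.unusedSectionVars false

namespace CfsgLib.PSLCover

open Matrix Polynomial

variable {F : Type*} [Field F] {ι κ : Type*} [Fintype ι] [DecidableEq ι] [Fintype κ] [DecidableEq κ]

/-- The determinant of a polynomial in a matrix with split characteristic polynomial. -/
theorem det_aeval_of_split {X : Matrix ι ι F} {h : ι → F}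
    (hX : X.charpoly = ∏ i, (Polynomial.X - C (h i))) (φ : F[X]) :
    (aeval X φ).det = ∏ i, φ.eval (h i) := by
  let K := AlgebraicClosure F
  let f : F →+* K := algebraMap F K
  apply f.injective
  set Y : Matrix ι ι K := X.map f with hY
  have hmap : (aeval X φ).map f = aeval Y (φ.map f) := by
    rw [aeval_map_algebraMap]
    exact (aeval_algHom_apply (Algebra.ofId F K).mapMatrix X φ).symm
  have hYc : Y.charpoly = ∏ i, (Polynomial.X - C (f (h i))) := by
    rw [hY, charpoly_map, hX, Polynomial.map_prod]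
    simp
  rw [RingHom.map_det, show f.mapMatrix (aeval X φ) = (aeval X φ).map f from rfl, hmap, map_prod]
  have hev : ∀ i, f (φ.eval (h i)) = (φ.map f).eval (f (h i)) := fun i => by
    rw [eval_map, eval₂_at_apply]
  simp only [hev]
  obtain ⟨c, S, hS⟩ : ∃ (c : K) (S : Multiset K),
      φ.map f = C c * (S.map fun r => Polynomial.X - C r).prod :=
    ⟨_, _, (IsAlgClosed.splits (φ.map f)).eq_prod_roots⟩
  rw [hS]
  clear hev hmap hS
  induction S using Multiset.induction with
  | empty =>
    simp [Algebra.algebraMap_eq_smul_one, Finset.prod_const]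
  | cons r S ih =>
    simp only [Multiset.map_cons, Multiset.prod_cons]
    rw [mul_left_comm, map_mul, det_mul, ih]
    simp only [eval_mul, Finset.prod_mul_distrib, eval_sub, eval_X, eval_C]
    have : (aeval Y (Polynomial.X - C r)).det = ∏ i, (f (h i) - r) := by
      have h1 : aeval Y (Polynomial.X - C r) = -(Matrix.scalar ι r - Y) := by
        rw [map_sub, aeval_X, aeval_C, neg_sub]; rfl
      rw [h1, det_neg, ← Matrix.eval_charpoly, hYc, eval_prod, Fintype.card, ← Finset.prod_const,
        ← Finset.prod_mul_distrib]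
      exact Finset.prod_congr rfl fun i _ => by simp only [eval_sub, eval_X, eval_C]; ring
    rw [this]

/-- The centraliser of a cyclic split matrix has every `m`-th power as determinant, for each root
multiplicity `m`. -/
theorem pow_count_mem_detCent [Fintype F] [DecidableEq F] {X : GL ι F} {h : ι → F}
    (hX : SplitCyc (X : Matrix ι ι F) h) (v : F) (u : Fˣ) :
    u ^ (Finset.univ.filter fun i => h i = v).card ∈ detCent X := by
  set φ : F[X] := 1 + C ((u : F) - 1) * (1 - (Polynomial.X - C v) ^ (Fintype.card F - 1))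
  have hq : 1 < Fintype.card F := Fintype.one_lt_card
  have hev : ∀ x : F, φ.eval x = if x = v then (u : F) else 1 := by
    intro x
    by_cases hx : x = v
    · subst hx
      simp [φ, zero_pow (show Fintype.card F - 1 ≠ 0 by omega)]
    · simp [φ, hx, FiniteField.pow_card_sub_one_eq_one _ (sub_ne_zero.mpr hx)]
  have hdet : (aeval (X : Matrix ι ι F) φ).det = (u : F) ^ (Finset.univ.filter fun i => h i = v).card := by
    rw [det_aeval_of_split hX.2]
    simp only [hev]
    rw [Finset.prod_ite]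
    simp
  let c : GL ι F := GeneralLinearGroup.mkOfDetNeZero _ (hdet ▸ pow_ne_zero _ u.ne_zero : _ ≠ (0 : F))
  refine mem_detCent.mpr ⟨c, Units.ext ?_, Units.ext ?_⟩
  · show aeval (X : Matrix ι ι F) φ * (X : Matrix ι ι F) = (X : Matrix ι ι F) * aeval (X : Matrix ι ι F) φ
    simpa using ((Commute.all φ Polynomial.X).map (aeval (X : Matrix ι ι F))).eq
  · simpa [c] using hdet

theorem detCent_blockGL_left (A : GL ι F) (B : GL κ F) : detCent A ≤ detCent (blockGL A B) := by
  intro δ h
  obtain ⟨c, hc, hd⟩ := mem_detCent.mp h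
  exact mem_detCent.mpr ⟨blockGL c 1, by rw [blockGL_mul, blockGL_mul, hc, one_mul, mul_one],
    by rw [det_blockGL, hd, map_one, mul_one]⟩

theorem detCent_blockGL_right (A : GL ι F) (B : GL κ F) : detCent B ≤ detCent (blockGL A B) := by
  intro δ h
  obtain ⟨c, hc, hd⟩ := mem_detCent.mp h
  exact mem_detCent.mpr ⟨blockGL 1 c, by rw [blockGL_mul, blockGL_mul, hc, one_mul, mul_one],
    by rw [det_blockGL, hd, map_one, one_mul]⟩

theorem detCent_reindex (e : ι ≃ κ) (A : GL ι F) : detCent A ≤ detCent (reindexGL e A) := by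
  intro δ h
  obtain ⟨c, hc, hd⟩ := mem_detCent.mp h
  exact mem_detCent.mpr ⟨reindexGL e c, by rw [← map_mul, hc, map_mul], by rw [det_reindexGL, hd]⟩

/-- The pair of a block sum has the product ratio. -/
theorem RatioPair.sum {I : Subgroup Fˣ} {A1 P1 Q1 : GL ι F} {A2 P2 Q2 : GL κ F} {r1 r2 : Fˣ}
    (h1 : RatioPair I A1 P1 Q1 r1) (h2 : RatioPair I A2 P2 Q2 r2) (Y : Matrix ι κ F) :
    RatioPair I (blockGL A1 A2) (blockGL P1 P2)
      (shearGL Y * blockGL Q1 Q2 * (shearGL Y)⁻¹) (r1 * r2) := by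
  obtain ⟨a, b, rfl, rfl, h⟩ := h1
  obtain ⟨a', b', rfl, rfl, h'⟩ := h2
  refine ⟨blockGL a a', shearGL Y * blockGL b b', by rw [blockGL_conj],
    by rw [blockGL_conj]; group, ?_⟩
  have hs : GeneralLinearGroup.det (shearGL Y) = 1 := Units.ext (by simp)
  rw [map_mul, hs, one_mul, det_blockGL, det_blockGL]
  have := I.mul_mem h h'
  convert this using 1
  simp only [_root_.mul_inv_rev, mul_comm, mul_left_comm, mul_assoc]

variable {m : ℕ}

theorem weight_eq {k : ℕ} (h : Fin k → F) :
    weight h = ∏ j : Fin k, if 0 < (j : ℕ) then h j ^ (k - (j : ℕ)) else 1 := by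
  rw [weight, Finset.prod_comm]
  refine Finset.prod_congr rfl fun j _ => ?_
  split_ifs with hj
  · simp only [hj, true_and]
    rw [Finset.prod_ite, Finset.prod_const_one, mul_one, Finset.prod_const]
    congr 1
    have hset : (Finset.univ.filter fun i : Fin k => (j : ℕ) ≤ (i : ℕ)) = Finset.Ici j :=
      Finset.ext fun i => by
        rw [Finset.mem_filter, Finset.mem_Ici]
        exact ⟨fun h => h.2, fun h => ⟨Finset.mem_univ _, h⟩⟩
    rw [hset, Fin.card_Ici]
  · exact Finset.prod_eq_one fun i _ => if_neg fun hh => hj hh.1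

/-- A recurrence of the first root makes the left end general. -/
theorem goodL_triBlock {P Q : GL (Fin (m + 2)) F} {h : Fin (m + 2) → F} {s : Fin m → F}
    {x : Fin (m + 1) → F} {g : F[X]} (hs : ∀ j, s j ≠ 0) (h0 : ∀ i, h i ≠ 0)
    (hP : (P : Matrix (Fin (m + 2)) (Fin (m + 2)) F) = triBlock h s x * compMat (m := m) g)
    (hH : ((P * Q : GL (Fin (m + 2)) F) : Matrix (Fin (m + 2)) (Fin (m + 2)) F) = triBlock h s x)
    (hrec : ∃ j : Fin (m + 1), j ≠ 0 ∧ h j.castSucc = h 0) (γ : F) :
    GoodL (P : Matrix (Fin (m + 2)) (Fin (m + 2)) F)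
      ((P * Q : GL (Fin (m + 2)) F) : Matrix (Fin (m + 2)) (Fin (m + 2)) F) γ := by
  intro u hu0 hu a hua
  rw [hH] at hu
  have hcol : ∀ l : Fin (m + 1), (u ᵥ* triBlock h s x) l.castSucc =
      u l.castSucc * h l.castSucc +
        if hl : 0 < (l : ℕ) then u ⟨(l : ℕ) - 1, by omega⟩ * s ⟨(l : ℕ) - 1, by omega⟩ else 0 := by
    intro l
    rw [vecMul, dotProduct, ← Finset.add_sum_erase _ _ (Finset.mem_univ l.castSucc),
      triBlock_castSucc, if_pos rfl]
    congr 1
    split_ifs with hl
    · rw [Finset.sum_eq_single (⟨(l : ℕ) - 1, by omega⟩ : Fin (m + 2))]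
      · rw [triBlock_castSucc, if_neg (by simp [Fin.ext_iff]; omega), dif_pos (by simp; omega)]
      · intro b hb hne
        rw [triBlock_castSucc, if_neg (Finset.mem_erase.mp hb).1, dif_neg, mul_zero]
        exact fun hh => hne (Fin.ext (by simp; omega))
      · intro hnot
        exact absurd (Finset.mem_erase.mpr ⟨by simp [Fin.ext_iff]; omega, Finset.mem_univ _⟩) hnot
    · refine Finset.sum_eq_zero fun b hb => ?_
      rw [triBlock_castSucc, if_neg (Finset.mem_erase.mp hb).1, dif_neg (by omega), mul_zero]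
  have hu00 : u 0 = 0 := by
    have h1 := congrFun hu (0 : Fin (m + 1)).castSucc
    rw [hcol, dif_neg (by simp), add_zero, Pi.smul_apply, smul_eq_mul, Fin.castSucc_zero] at h1
    by_contra hne
    have hγ : h 0 = γ := mul_left_cancel₀ hne (h1.trans (mul_comm γ (u 0)))
    obtain ⟨j, hj0, hj⟩ := hrec
    have hjpos : 0 < (j : ℕ) := Nat.pos_of_ne_zero fun hh => hj0 (Fin.ext (by simpa using hh))
    have key : ∀ t : ℕ, t < (j : ℕ) → u ⟨(j : ℕ) - 1 - t, by omega⟩ = 0 := by
      intro t
      induction t with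
      | zero =>
        intro _
        have h2 := congrFun hu j.castSucc
        rw [hcol, dif_pos hjpos, Pi.smul_apply, smul_eq_mul, hj, hγ, mul_comm γ, add_eq_left] at h2
        simpa using (mul_eq_zero.mp h2).resolve_right (hs _)
      | succ t ih =>
        intro ht
        have hi := ih (by omega)
        let l : Fin (m + 1) := ⟨(j : ℕ) - 1 - t, by omega⟩
        have hl : u l.castSucc = 0 := hi
        have h2 := congrFun hu l.castSucc
        rw [hcol, dif_pos (show 0 < (l : ℕ) by simp [l]; omega), Pi.smul_apply, hl, zero_mul, zero_add,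
          smul_eq_mul, mul_zero] at h2
        have h3 := (mul_eq_zero.mp h2).resolve_right (hs _)
        rwa [show (⟨(j : ℕ) - 1 - (t + 1), by omega⟩ : Fin (m + 2)) = ⟨(l : ℕ) - 1, by omega⟩ from
          Fin.ext (by simp [l]; omega)]
    exact hne (by simpa using key ((j : ℕ) - 1) (by omega))
  rw [hP, ← vecMul_vecMul, hu, smul_vecMul] at hua
  by_cases hγ0 : γ = 0
  · subst hγ0
    have hzero : u ᵥ* ((P * Q : GL (Fin (m + 2)) F) : Matrix (Fin (m + 2)) (Fin (m + 2)) F) = 0 := by
      rw [hH, hu, zero_smul]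
    have := congrArg (fun z => z ᵥ*
      (((P * Q)⁻¹ : GL (Fin (m + 2)) F) : Matrix (Fin (m + 2)) (Fin (m + 2)) F)) hzero
    simp only [vecMul_vecMul, zero_vecMul, ← Units.val_mul, mul_inv_cancel, Units.val_one,
      vecMul_one] at this
    exact hu0 this
  · have hu' : u ᵥ* compMat (m := m) g = (γ⁻¹ * a) • u := by
      rw [mul_smul, ← hua, inv_smul_smul₀ hγ0]
    exact hu0 (zero_of_vecMul_comp hu00 hu')

/-- A block pair with its ratio and a general left end. -/
theorem exists_block_ratio_pair [Fintype F] (hq : 4 ≤ Fintype.card F) (C : GL (Fin (m + 2)) F)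
    (hC : HasCyclic (C : Matrix (Fin (m + 2)) (Fin (m + 2)) F)) {I : Subgroup Fˣ} (hI : detCent C ≤ I)
    (h : Fin (m + 2) → F) (h0 : ∀ i, h i ≠ 0)
    (hdet : ∏ i, h i = (C : Matrix (Fin (m + 2)) (Fin (m + 2)) F).det ^ 2) (hlist : GoodList C h)
    (W : Fˣ) (hW : (W : F) = weight h) :
    ∃ P Q : GL (Fin (m + 2)) F, IsPair C P Q h ∧ RatioPair I C P Q (revSign F (m + 2) * W) ∧
      (∀ γ, γ ≠ h 0 ∨ h 1 = h 0 ∨ (∃ j : Fin (m + 1), j ≠ 0 ∧ h j.castSucc = h 0) →
        GoodL (P : Matrix (Fin (m + 2)) (Fin (m + 2)) F)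
          ((P * Q : GL (Fin (m + 2)) F) : Matrix (Fin (m + 2)) (Fin (m + 2)) F) γ) ∧
      (∀ γ, γ ≠ h (Fin.last _) ∨ h (Fin.last m).castSucc = h (Fin.last _) →
        GoodR (Q : Matrix (Fin (m + 2)) (Fin (m + 2)) F)
          ((P * Q : GL (Fin (m + 2)) F) : Matrix (Fin (m + 2)) (Fin (m + 2)) F) γ) := by
  obtain ⟨P, Q, hp, hL, hR, s, x, hs, hP, hQ⟩ := exists_block_pair_form hq C hC h h0 hdet hlist
  have hH : ((P * Q : GL (Fin (m + 2)) F) : Matrix (Fin (m + 2)) (Fin (m + 2)) F) = triBlock h s x := by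
    rw [Units.val_mul, hP, ← hQ, mul_assoc, ← Units.val_mul, inv_mul_cancel, Units.val_one, mul_one]
  obtain ⟨g1, g2, h1, h2, h3⟩ := block_ratio C P Q hC hp.1 hp.2.1 h h0 s x _ hP hQ W hW
  refine ⟨P, Q, hp, ⟨g1, g2, h1, h2, hI h3⟩, fun γ hγ => ?_, hR⟩
  rcases hγ with h' | h' | h'
  · exact hL γ (Or.inl h')
  · exact hL γ (Or.inr h')
  · exact goodL_triBlock hs h0 hP hH h' γ

/-- A `2`-block of a split class is a scaled unipotent, in odd characteristic. -/
theorem two_block_shape [Fintype F] (C : GL (Fin 2) F) {I : Subgroup Fˣ} (hI : detCent C ≤ I)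
    (hne : ∃ δ, δ ∉ I) :
    (2 : F) ≠ 0 ∧ (C : Matrix (Fin 2) (Fin 2) F).trace ^ 2 = 4 * (C : Matrix (Fin 2) (Fin 2) F).det := by
  obtain ⟨δ, hδ⟩ := hne
  refine ⟨fun h2 => ?_, ?_⟩
  · have h2c : CharP F 2 := CharTwo.of_one_ne_zero_of_two_eq_zero one_ne_zero h2
    obtain ⟨r, hr⟩ : IsSquare (δ : F) :=
      FiniteField.isSquare_of_char_two (ringChar.eq_iff.mpr h2c) _
    have hr0 : r ≠ 0 := fun h => δ.ne_zero (by rw [hr, h, zero_mul])
    refine hδ (hI ?_)
    have := pow_card_mem_detCent C (Units.mk0 r hr0)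
    rwa [show Units.mk0 r hr0 ^ Fintype.card (Fin 2) = δ from Units.ext (by simp [hr, sq])] at this
  · by_contra hne'
    set t := (C : Matrix (Fin 2) (Fin 2) F).trace with ht
    set d := (C : Matrix (Fin 2) (Fin 2) F).det with hd
    have h2 : (2 : F) ≠ 0 := by
      intro h2
      have h2c : CharP F 2 := CharTwo.of_one_ne_zero_of_two_eq_zero one_ne_zero h2
      obtain ⟨r, hr⟩ : IsSquare (δ : F) :=
        FiniteField.isSquare_of_char_two (ringChar.eq_iff.mpr h2c) _
      have hr0 : r ≠ 0 := fun h => δ.ne_zero (by rw [hr, h, zero_mul])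
      refine hδ (hI ?_)
      have := pow_card_mem_detCent C (Units.mk0 r hr0)
      rwa [show Units.mk0 r hr0 ^ Fintype.card (Fin 2) = δ from Units.ext (by simp [hr, sq])] at this
    set c : F := d - (t / 2) ^ 2 with hc
    have hc0 : c ≠ 0 := by
      intro h0
      apply hne'
      rw [hc, sub_eq_zero] at h0
      rw [h0]
      field_simp
      ring
    have h2F : ringChar F ≠ 2 := fun h => h2 (by
      have := ringChar.of_eq h
      exact CharTwo.two_eq_zero)
    obtain ⟨x, y, hxy⟩ : ∃ x y : F, x ^ 2 + c * y ^ 2 = (δ : F) := by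
      obtain ⟨a, b, hab⟩ := FiniteField.exists_root_sum_quadratic (R := F)
        (f := Polynomial.X ^ 2) (g := Polynomial.C c * Polynomial.X ^ 2 - Polynomial.C (δ : F))
        (degree_X_pow 2) (by
          rw [degree_sub_eq_left_of_degree_lt]
          · rw [degree_C_mul hc0, degree_X_pow]
            rfl
          · rw [degree_C_mul hc0, degree_X_pow]
            exact lt_of_le_of_lt degree_C_le (by norm_num))
        (FiniteField.odd_card_of_char_ne_two h2F)
      refine ⟨a, b, ?_⟩
      simp only [eval_pow, eval_X, eval_sub, eval_mul, eval_C] at hab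
      linear_combination hab
    set M : Matrix (Fin 2) (Fin 2) F := (x - t * y / 2) • 1 + y • (C : Matrix (Fin 2) (Fin 2) F)
    have hM : M.det = (δ : F) := by
      rw [← hxy, hc, hd, det_fin_two, det_fin_two]
      simp [M]
      rw [ht, trace_fin_two]
      field_simp
      ring
    let u : GL (Fin 2) F := GeneralLinearGroup.mkOfDetNeZero M (hM ▸ δ.ne_zero)
    refine hδ (hI (mem_detCent.mpr ⟨u, Units.ext ?_, Units.ext hM⟩))
    show M * (C : Matrix (Fin 2) (Fin 2) F) = (C : Matrix (Fin 2) (Fin 2) F) * M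
    simp [M, add_mul, mul_add]

end CfsgLib.PSLCover
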